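/-
Amalgam pairs of characteristic 2 with both residues `S₃`, one vertex group centralizing the involutions in
the centre of the edge group, and edge group of order more than `2 ^ 7` (to be refuted): first facts.
-/
import Cfsg.Agent.Lib.LocalEven.Amalgam
import Mathlib.Tactic.Group

set_option autoImplicit false
set_option linter.unusedSectionVars false

namespace CfsgLib.LocalEven.AmalgamGold

open Cfsg CfsgLib.LocalEven.CosetGraph CfsgLib.LocalEven.SylowIn CfsgLib.LocalEven.Amalgam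

variable {X : Type*} [Group X] {M₁ M₂ : Subgroup X}

/-- The stabilizer of a vertex. -/
abbrev St (a : CosetVertex M₁ M₂) : Subgroup X := MulAction.stabilizer X a
/-- `O₂` of the stabilizer of a vertex. -/
abbrev Qv (a : CosetVertex M₁ M₂) : Subgroup X := vertexQ 2 a
/-- The stabilizer of an edge. -/
abbrev Ev (a c : CosetVertex M₁ M₂) : Subgroup X := edgeStabilizer a c
/-- Adjacency. -/
abbrev Adj (a c : CosetVertex M₁ M₂) : Prop := (cosetGraph M₁ M₂).Adj a c
/-- The vertices of the first kind. -/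
def IsA (a : CosetVertex M₁ M₂) : Prop := a.isLeft = true

/-- The hypothesis to be refuted. -/
structure Hyp (M₁ M₂ : Subgroup X) : Prop where
  charP : IsCharPAmalgamPair 2 M₁ M₂
  two : IsPGroup 2 ↥(M₁ ⊓ M₂)
  idx₁ : (pCoreOf 2 M₁).relIndex M₁ = 6
  idx₂ : (pCoreOf 2 M₂).relIndex M₂ = 6
  cent : ∀ w ∈ M₁ ⊓ M₂, w * w = 1 → (∀ t ∈ M₁ ⊓ M₂, t * w = w * t) → ∀ g ∈ M₂, g * w = w * g
  big : 2 ^ 7 < Nat.card ↥(M₁ ⊓ M₂)

theorem mem_St {a : CosetVertex M₁ M₂} {g : X} : g ∈ St a ↔ g • a = a := MulAction.mem_stabilizer_iff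

theorem mem_Ev {a c : CosetVertex M₁ M₂} {g : X} : g ∈ Ev a c ↔ g • a = a ∧ g • c = c :=
  Subgroup.mem_inf

theorem Ev_symm (a c : CosetVertex M₁ M₂) : Ev a c = Ev c a := inf_comm _ _

theorem Qv_le_St (a : CosetVertex M₁ M₂) : Qv a ≤ St a := pCoreOf_le _

theorem isA_smul (g : X) (a : CosetVertex M₁ M₂) : IsA (g • a) ↔ IsA a := by
  cases a <;> simp [IsA]

theorem isA_flip {a c : CosetVertex M₁ M₂} (h : Adj a c) : IsA a ↔ ¬ IsA c := by
  obtain ⟨x, ⟨rfl, rfl⟩ | ⟨rfl, rfl⟩⟩ := edge_cases h <;> simp [IsA]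

/-- An edge is a translate of the base edge. -/
theorem edge_base {a c : CosetVertex M₁ M₂} (h : Adj a c) (ha : IsA a) :
    ∃ x : X, a = x • Sum.inl ((1 : X) : X ⧸ M₁) ∧ c = x • Sum.inr ((1 : X) : X ⧸ M₂) := by
  obtain ⟨x, hx | hx⟩ := edge_cases h
  · exact ⟨x, hx⟩
  · rw [hx.2] at ha
    simp [IsA] at ha

theorem conj_mem_map {H K : Subgroup X} {g x : X} (h : H.map (MulAut.conj g).toMonoidHom = K)
    (hx : x ∈ H) : g * x * g⁻¹ ∈ K :=
  h ▸ ⟨x, hx, rfl⟩

theorem St_smul (g : X) (a : CosetVertex M₁ M₂) :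
    (St a).map (MulAut.conj g).toMonoidHom = St (g • a) :=
  (stabilizer_smul' g a).symm

theorem Ev_smul (g : X) (a c : CosetVertex M₁ M₂) :
    (Ev a c).map (MulAut.conj g).toMonoidHom = Ev (g • a) (g • c) := by
  rw [map_inf_conj, St_smul, St_smul]

theorem mem_St_smul {g x : X} {a : CosetVertex M₁ M₂} : x ∈ St (g • a) ↔ g⁻¹ * x * g ∈ St a := by
  rw [← St_smul, mem_map_conj]

theorem conj_mem_St {g x : X} {a : CosetVertex M₁ M₂} (hg : g ∈ St a) (hx : x ∈ St a) :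
    g * x * g⁻¹ ∈ St a :=
  mul_mem (mul_mem hg hx) (inv_mem hg)

theorem adj_fix {g : X} {a c : CosetVertex M₁ M₂} (hg : g ∈ St a) (hac : Adj a c) : Adj a (g • c) := by
  have := adj_smul g hac
  rwa [mem_St.1 hg] at this

namespace Hyp

variable (h : Hyp M₁ M₂)
include h

theorem fin (a : CosetVertex M₁ M₂) : Finite ↥(St a) := finite_stabilizer h.charP a

theorem connected : (cosetGraph M₁ M₂).Connected := CosetGraph.connected h.charP.1

theorem Qv_smul (g : X) (a : CosetVertex M₁ M₂) :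
    (Qv a).map (MulAut.conj g).toMonoidHom = Qv (g • a) := by
  haveI := h.fin a
  show (pCoreOf 2 _).map _ = pCoreOf 2 _
  rw [pCoreOf_map_conj, St_smul]

theorem mem_Qv_smul {g x : X} {a : CosetVertex M₁ M₂} : x ∈ Qv (g • a) ↔ g⁻¹ * x * g ∈ Qv a := by
  rw [← h.Qv_smul, mem_map_conj]

theorem conj_mem_Qv {g x : X} {a : CosetVertex M₁ M₂} (hg : g ∈ St a) (hx : x ∈ Qv a) :
    g * x * g⁻¹ ∈ Qv a :=
  (Subgroup.mem_normalizer_iff.1 (normalizer_pCoreOf (p := 2) _ hg) x).1 hx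

theorem relIndex_Qv (a : CosetVertex M₁ M₂) : (Qv a).relIndex (St a) = 6 := by
  obtain ⟨x, hx | hx⟩ := vertex_cases a <;> subst hx <;>
    rw [← h.Qv_smul, ← St_smul, Subgroup.relIndex_map_map_of_injective _ _ (MulAut.conj x).injective] <;>
    simp only [Qv, vertexQ, St]
  · rw [stabilizer_inl_one]; exact h.idx₁
  · rw [stabilizer_inr_one]; exact h.idx₂

theorem isPGroup_Ev {a c : CosetVertex M₁ M₂} (hac : Adj a c) : IsPGroup 2 ↥(Ev a c) := by
  have e : Ev (Sum.inl ((1 : X) : X ⧸ M₁) : CosetVertex M₁ M₂) (Sum.inr ((1 : X) : X ⧸ M₂)) = M₁ ⊓ M₂ := by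
    simp only [Ev, edgeStabilizer, stabilizer_inl_one, stabilizer_inr_one]
  obtain ⟨x, ⟨rfl, rfl⟩ | ⟨rfl, rfl⟩⟩ := edge_cases hac <;> rw [← Ev_smul]
  · exact (h.two.to_le e.le).map _
  · exact (h.two.to_le ((Ev_symm _ _).trans e).le).map _

theorem card_Ev {a c : CosetVertex M₁ M₂} (hac : Adj a c) : 2 ^ 7 < Nat.card ↥(Ev a c) := by
  have e : Ev (Sum.inl ((1 : X) : X ⧸ M₁) : CosetVertex M₁ M₂) (Sum.inr ((1 : X) : X ⧸ M₂)) = M₁ ⊓ M₂ := by
    simp only [Ev, edgeStabilizer, stabilizer_inl_one, stabilizer_inr_one]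
  obtain ⟨x, ⟨rfl, rfl⟩ | ⟨rfl, rfl⟩⟩ := edge_cases hac <;>
    rw [← Ev_smul, Subgroup.card_map_of_injective (MulAut.conj x).injective]
  · rw [e]; exact h.big
  · rw [Ev_symm, e]; exact h.big

theorem sylow_Ev {a c : CosetVertex M₁ M₂} (hac : Adj a c) : IsSylowIn 2 (Ev a c) (St a) :=
  edge_sylow h.charP hac ⟨le_rfl, h.isPGroup_Ev hac, fun _ hU _ hTU => le_antisymm hU hTU⟩

theorem finite_Ev (a c : CosetVertex M₁ M₂) : Finite ↥(Ev a c) :=
  haveI := h.fin a
  Finite.of_injective _ (Subgroup.inclusion_injective (inf_le_left : Ev a c ≤ St a))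

theorem finite_Qv (a : CosetVertex M₁ M₂) : Finite ↥(Qv a) :=
  haveI := h.fin a
  Finite.of_injective _ (Subgroup.inclusion_injective (Qv_le_St a))

theorem Qv_le_Ev {a c : CosetVertex M₁ M₂} (hac : Adj a c) : Qv a ≤ Ev a c := by
  haveI := h.fin a
  exact pCoreOf_le_sylowIn (h.sylow_Ev hac)

theorem Qv_le_Ev' {a c : CosetVertex M₁ M₂} (hac : Adj a c) : Qv c ≤ Ev a c :=
  (h.Qv_le_Ev hac.symm).trans (Ev_symm c a).le

theorem Qv_fix {a c : CosetVertex M₁ M₂} (hac : Adj a c) {g : X} (hg : g ∈ Qv a) : g • c = c :=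
  (mem_Ev.1 (h.Qv_le_Ev hac hg)).2

theorem relIndex_Qv_Ev {a c : CosetVertex M₁ M₂} (hac : Adj a c) : (Qv a).relIndex (Ev a c) = 2 := by
  haveI := h.fin a
  haveI := h.finite_Ev a c
  have hm : (Qv a).relIndex (Ev a c) * (Ev a c).relIndex (St a) = (Qv a).relIndex (St a) :=
    Subgroup.relIndex_mul_relIndex _ _ _ (h.Qv_le_Ev hac) inf_le_left
  rw [h.relIndex_Qv] at hm
  have hT := h.sylow_Ev hac
  have h2 : ¬ 2 ∣ (Ev a c).relIndex (St a) := hT.toSylow.not_dvd_index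
  obtain ⟨n, hn⟩ : ∃ n, (Qv a).relIndex (Ev a c) = 2 ^ n := (h.isPGroup_Ev hac).index _
  rcases n with _ | _ | n
  · rw [hn, pow_zero, one_mul] at hm
    exact absurd (by omega) h2
  · simpa using hn
  · rw [hn] at hm
    have hd : 4 ∣ 6 := ⟨2 ^ n * (Ev a c).relIndex (St a), by rw [← hm]; ring⟩
    exact absurd hd (by norm_num)

theorem relIndex_Qv_Ev' {a c : CosetVertex M₁ M₂} (hac : Adj a c) : (Qv c).relIndex (Ev a c) = 2 := by
  rw [Ev_symm]; exact h.relIndex_Qv_Ev hac.symm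

theorem relIndex_Ev {a c : CosetVertex M₁ M₂} (hac : Adj a c) : (Ev a c).relIndex (St a) = 3 := by
  have hm : (Qv a).relIndex (Ev a c) * (Ev a c).relIndex (St a) = (Qv a).relIndex (St a) :=
    Subgroup.relIndex_mul_relIndex _ _ _ (h.Qv_le_Ev hac) inf_le_left
  rw [h.relIndex_Qv, h.relIndex_Qv_Ev hac] at hm
  omega

theorem mul_mem_Qv {a c : CosetVertex M₁ M₂} (hac : Adj a c) {x y : X} (hx : x ∈ Ev a c) (hy : y ∈ Ev a c)
    (hx' : x ∉ Qv a) (hy' : y ∉ Qv a) : x * y ∈ Qv a :=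
  Subgroup.mem_subgroupOf.1 ((Subgroup.mul_mem_iff_of_index_two (H := (Qv a).subgroupOf (Ev a c))
    (h.relIndex_Qv_Ev hac) (a := (⟨x, hx⟩ : Ev a c)) (b := ⟨y, hy⟩)).2
      (iff_of_false (fun hh => hx' (Subgroup.mem_subgroupOf.1 hh)) (fun hh => hy' (Subgroup.mem_subgroupOf.1 hh))))

theorem le_Qv {a : CosetVertex M₁ M₂} {N : Subgroup X} (hN : N ≤ St a)
    (hn : St a ≤ Subgroup.normalizer (N : Set X)) (hp : IsPGroup 2 N) : N ≤ Qv a :=
  le_pCoreOf hN hn hp

/-- A subgroup containing an edge stabilizer and something more from the vertex stabilizer contains it. -/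
theorem St_le {a c : CosetVertex M₁ M₂} (hac : Adj a c) {L : Subgroup X} (hE : Ev a c ≤ L) {t : X} (ht : t ∈ L)
    (hta : t ∈ St a) (htc : t • c ≠ c) : St a ≤ L := by
  have hm := Subgroup.relIndex_mul_relIndex (Ev a c) (L ⊓ St a) (St a) (le_inf hE inf_le_left) inf_le_right
  rw [h.relIndex_Ev hac] at hm
  rcases Nat.prime_three.eq_one_or_self_of_dvd _ (Dvd.intro _ hm) with h1 | h1
  · exact absurd (mem_Ev.1 (Subgroup.relIndex_eq_one.1 h1 ⟨ht, hta⟩)).2 htc
  · rw [h1] at hm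
    exact (Subgroup.relIndex_eq_one.1 (by omega : (L ⊓ St a).relIndex (St a) = 1)).trans inf_le_left

/-- No non-trivial subgroup of an edge stabilizer is normal at both ends. -/
theorem eq_bot_of_normal {a c : CosetVertex M₁ M₂} (hac : Adj a c) {N : Subgroup X} (hN : N ≤ Ev a c)
    (ha : St a ≤ Subgroup.normalizer (N : Set X)) (hc : St c ≤ Subgroup.normalizer (N : Set X)) : N = ⊥ :=
  eq_bot_of_transitive h.charP.1 hac N hN
    (fun _ _ h₁ h₂ => let ⟨g, hg, e⟩ := neighbour_transitive h₁ h₂; ⟨g, ⟨ha hg, hg⟩, e⟩)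
    (fun _ _ h₁ h₂ => let ⟨g, hg, e⟩ := neighbour_transitive h₁ h₂; ⟨g, ⟨hc hg, hg⟩, e⟩)

theorem not_Ev_normal {a c : CosetVertex M₁ M₂} (hac : Adj a c) :
    ¬ St a ≤ Subgroup.normalizer (Ev a c : Set X) := by
  intro hn
  have hle := h.le_Qv inf_le_left hn (h.isPGroup_Ev hac)
  have := h.relIndex_Qv_Ev hac
  rw [Subgroup.relIndex_eq_one.2 hle] at this
  omega

/-- An edge stabilizer fixes no other neighbour. -/
theorem eq_of_Ev_le {a c d : CosetVertex M₁ M₂} (hac : Adj a c) (had : Adj a d) (hle : Ev a c ≤ St d) :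
    c = d := by
  obtain ⟨g, hg, rfl⟩ := neighbour_transitive hac had
  haveI := h.finite_Ev a c
  have hn : g ∈ Subgroup.normalizer (Ev a c : Set X) := by
    refine inv_mem_iff.1 (Subgroup.mem_normalizer_fintype (S := (Ev a c : Set X)) fun x hx => ?_)
    refine ⟨conj_mem_St ((St a).inv_mem hg) (Subgroup.mem_inf.1 hx).1, ?_⟩
    simpa using mem_St_smul.1 (hle hx)
  by_contra hne
  exact h.not_Ev_normal hac (h.St_le hac Subgroup.le_normalizer hn hg (Ne.symm hne))

theorem exists_mem_move {a c d : CosetVertex M₁ M₂} (hac : Adj a c) (had : Adj a d) (hne : c ≠ d) :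
    ∃ e ∈ Ev a c, e • d ≠ d := by
  by_contra! hall
  exact hne (h.eq_of_Ev_le hac had fun e he => mem_St.2 (hall e he))

theorem St_le_two {a c d : CosetVertex M₁ M₂} (hac : Adj a c) (had : Adj a d) (hne : c ≠ d) {L : Subgroup X}
    (hc : Ev a c ≤ L) (hd : Ev a d ≤ L) : St a ≤ L := by
  obtain ⟨e, he, he'⟩ := h.exists_mem_move had hac hne.symm
  exact h.St_le hac hc (hd he) (mem_Ev.1 he).1 he'

theorem mem_Qv_of_fix {a c d : CosetVertex M₁ M₂} (hac : Adj a c) (had : Adj a d) (hne : c ≠ d) {x : X}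
    (hxa : x • a = a) (hxc : x • c = c) (hxd : x • d = d) : x ∈ Qv a := by
  by_contra hx
  refine hne (h.eq_of_Ev_le hac had fun e he => ?_)
  by_cases hea : e ∈ Qv a
  · exact mem_St.2 (h.Qv_fix had hea)
  · have := mul_mem (mem_St.2 (h.Qv_fix had (h.mul_mem_Qv hac he (mem_Ev.2 ⟨hxa, hxc⟩) hea hx)))
      (inv_mem (mem_St.2 hxd : x ∈ St d))
    rwa [mul_inv_cancel_right] at this

/-- An element of an edge stabilizer outside the kernel moves every other neighbour. -/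
theorem move {a c d : CosetVertex M₁ M₂} (hac : Adj a c) (had : Adj a d) (hne : d ≠ c) {x : X}
    (hx : x ∈ Ev a c) (hxq : x ∉ Qv a) : x • d ≠ d := fun e =>
  hxq (h.mem_Qv_of_fix hac had hne.symm (mem_Ev.1 hx).1 (mem_Ev.1 hx).2 e)

theorem neighbours_eq {a : CosetVertex M₁ M₂} : ((cosetGraph M₁ M₂).neighborSet a).ncard = 3 := by
  obtain ⟨c, hac⟩ := exists_adj a
  rw [← h.relIndex_Ev hac, Subgroup.relIndex, Subgroup.index, ← Set.ncard_univ]
  symm
  refine Set.ncard_congr (fun x _ => Quotient.liftOn' x (fun g : ↥(St a) => (g : X) • c) ?_) ?_ ?_ ?_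
  · intro g g' hgg
    rw [QuotientGroup.leftRel_apply, Subgroup.mem_subgroupOf] at hgg
    have := MulAction.mem_stabilizer_iff.1 (Subgroup.mem_inf.1 hgg).2
    show (g : X) • c = (g' : X) • c
    conv_lhs => rw [← this]
    rw [← mul_smul]
    simp
  · intro x _
    induction x using QuotientGroup.induction_on with
    | H g => exact adj_fix g.2 hac
  · intro x y _ _ hxy
    induction x using QuotientGroup.induction_on with
    | H g =>
      induction y using QuotientGroup.induction_on with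
      | H g' =>
        rw [QuotientGroup.eq, Subgroup.mem_subgroupOf]
        refine Subgroup.mem_inf.2 ⟨(g⁻¹ * g').2, MulAction.mem_stabilizer_iff.2 ?_⟩
        have hxy' : (g : X) • c = (g' : X) • c := hxy
        simp [mul_smul, ← hxy']
  · intro d hd
    obtain ⟨g, hg, rfl⟩ := neighbour_transitive hac hd
    exact ⟨QuotientGroup.mk ⟨g, hg⟩, Set.mem_univ _, rfl⟩

/-- The neighbours are `c`, `d` and one more. -/
theorem third {a c d : CosetVertex M₁ M₂} (hac : Adj a c) (had : Adj a d) (hne : c ≠ d) :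
    ∃ e, Adj a e ∧ e ≠ c ∧ e ≠ d ∧ ∀ u, Adj a u → u = c ∨ u = d ∨ u = e := by
  obtain ⟨x, y, z, hxy, hxz, hyz, hset⟩ := Set.ncard_eq_three.1 (h.neighbours_eq (a := a))
  have hmem : ∀ u, Adj a u ↔ u = x ∨ u = y ∨ u = z := fun u => by
    have := Set.ext_iff.1 hset u
    simpa using this
  rcases (hmem c).1 hac with rfl | rfl | rfl <;> rcases (hmem d).1 had with rfl | rfl | rfl <;>
    first
    | exact absurd rfl hne
    | exact ⟨z, (hmem z).2 (Or.inr (Or.inr rfl)), hxz.symm, hyz.symm, fun u hu => by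
        rcases (hmem u).1 hu with e | e | e <;> simp [e]⟩
    | exact ⟨y, (hmem y).2 (Or.inr (Or.inl rfl)), hxy.symm, hyz, fun u hu => by
        rcases (hmem u).1 hu with e | e | e <;> simp [e]⟩
    | exact ⟨x, (hmem x).2 (Or.inl rfl), hxy, hxz, fun u hu => by
        rcases (hmem u).1 hu with e | e | e <;> simp [e]⟩
    | exact ⟨z, (hmem z).2 (Or.inr (Or.inr rfl)), hyz.symm, hxz.symm, fun u hu => by
        rcases (hmem u).1 hu with e | e | e <;> simp [e]⟩
    | exact ⟨y, (hmem y).2 (Or.inr (Or.inl rfl)), hyz, hxy.symm, fun u hu => by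
        rcases (hmem u).1 hu with e | e | e <;> simp [e]⟩
    | exact ⟨x, (hmem x).2 (Or.inl rfl), hxz, hxy, fun u hu => by
        rcases (hmem u).1 hu with e | e | e <;> simp [e]⟩

theorem exists_ne {a c : CosetVertex M₁ M₂} (hac : Adj a c) : ∃ d, Adj a d ∧ d ≠ c := by
  obtain ⟨x, y, z, hxy, hxz, hyz, hset⟩ := Set.ncard_eq_three.1 (h.neighbours_eq (a := a))
  have hmem : ∀ u, Adj a u ↔ u = x ∨ u = y ∨ u = z := fun u => by
    have := Set.ext_iff.1 hset u
    simpa using this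
  by_cases e : x = c
  · exact ⟨y, (hmem y).2 (by simp), fun e' => hxy (e.trans e'.symm)⟩
  · exact ⟨x, (hmem x).2 (by simp), e⟩

/-- An element moving two neighbours exchanges them. -/
theorem swap {a c d e : CosetVertex M₁ M₂} (hac : Adj a c) (had : Adj a d) (hae : Adj a e) (hdc : d ≠ c)
    (hec : e ≠ c) (hed : e ≠ d) {x : X} (hx : x ∈ Ev a c) (hxq : x ∉ Qv a) : x • d = e := by
  obtain ⟨e', -, -, -, hall⟩ := h.third hac had hdc.symm
  rcases hall (x • d) (adj_fix (mem_Ev.1 hx).1 had) with h1 | h1 | h1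
  · exact absurd (smul_left_cancel x (h1.trans (mem_Ev.1 hx).2.symm)) hdc
  · exact absurd h1 (h.move hac had hdc hx hxq)
  · rcases hall e hae with h2 | h2 | h2
    · exact absurd h2 hec
    · exact absurd h2 hed
    · rw [h1, h2]

theorem kernel_le_Qv (a : CosetVertex M₁ M₂) : neighbourKernel a ≤ Qv a := by
  obtain ⟨c, hc⟩ := exists_adj a
  obtain ⟨d, hd, hne⟩ := h.exists_ne hc
  exact fun x hx => h.mem_Qv_of_fix hc hd hne.symm (mem_St.1 hx.1)
    (mem_St.1 (neighbourKernel_le_stabilizer a c hc hx)) (mem_St.1 (neighbourKernel_le_stabilizer a d hd hx))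

/-- An involution in the centre of an edge group is centralized at the end of the second kind. -/
theorem cent_edge {a c : CosetVertex M₁ M₂} (hac : Adj a c) (ha : IsA a) {w : X} (hw : w ∈ Ev a c)
    (hw2 : w * w = 1) (hwc : ∀ t ∈ Ev a c, t * w = w * t) {g : X} (hg : g ∈ St c) : g * w = w * g := by
  obtain ⟨x, rfl, rfl⟩ := edge_base hac ha
  have e : Ev (Sum.inl ((1 : X) : X ⧸ M₁) : CosetVertex M₁ M₂) (Sum.inr ((1 : X) : X ⧸ M₂)) = M₁ ⊓ M₂ := by
    simp only [Ev, edgeStabilizer, stabilizer_inl_one, stabilizer_inr_one]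
  rw [← Ev_smul, e] at hw hwc
  obtain ⟨w₀, hw₀, rfl⟩ := hw
  obtain ⟨g₀, hg₀, rfl⟩ : ∃ g₀ ∈ M₂, (MulAut.conj x) g₀ = g := by
    rw [← St_smul] at hg
    obtain ⟨g₀, hg₀, e'⟩ := hg
    exact ⟨g₀, by rwa [show St _ = _ from stabilizer_inr_one] at hg₀, e'⟩
  show (MulAut.conj x) g₀ * (MulAut.conj x) w₀ = (MulAut.conj x) w₀ * (MulAut.conj x) g₀
  rw [← map_mul, ← map_mul, h.cent w₀ hw₀ ?_ ?_ g₀ hg₀]
  · apply (MulAut.conj x).injective
    rw [map_mul, map_one]
    exact hw2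
  · intro t ht
    apply (MulAut.conj x).injective
    rw [map_mul, map_mul]
    exact hwc _ ⟨t, ht, rfl⟩

/-- An involution in the centre of an edge group is not centralized at the end of the first kind. -/
theorem eq_one_of_cent {a c : CosetVertex M₁ M₂} (hac : Adj a c) (ha : IsA a) {w : X} (hw : w ∈ Ev a c)
    (hw2 : w * w = 1) (hwa : ∀ g ∈ St a, g * w = w * g) : w = 1 := by
  have hc : ∀ g ∈ St c, g * w = w * g := fun g hg =>
    h.cent_edge hac ha hw hw2 (fun t ht => hwa t (Subgroup.mem_inf.1 ht).1) hg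
  have hn : ∀ {v : CosetVertex M₁ M₂}, (∀ g ∈ St v, g * w = w * g) →
      St v ≤ Subgroup.normalizer (Subgroup.zpowers w : Set X) := fun hv g hg => by
    refine (map_conj_eq_iff (T := Subgroup.zpowers w)).1 ?_
    rw [MonoidHom.map_zpowers, MulEquiv.coe_toMonoidHom, MulAut.conj_apply, hv g hg, mul_inv_cancel_right]
  exact Subgroup.zpowers_eq_bot.1 (h.eq_bot_of_normal hac (Subgroup.zpowers_le.2 hw) (hn hwa) (hn hc))

theorem relIndex_Qv_le {v w : CosetVertex M₁ M₂} (hvw : Adj v w) {K : Subgroup X} (hK : K ≤ Ev v w) :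
    (Qv v ⊓ K).relIndex K ≤ 2 := by
  rw [Subgroup.inf_relIndex_right]
  exact (Subgroup.relIndex_le_of_le_right hK (by rw [h.relIndex_Qv_Ev hvw]; norm_num)).trans
    (h.relIndex_Qv_Ev hvw).le

/-- The neighbours are permuted 2-transitively. -/
theorem trans2 {v c d c' d' : CosetVertex M₁ M₂} (hc : Adj v c) (hd : Adj v d) (hne : c ≠ d) (hc' : Adj v c')
    (hd' : Adj v d') (hne' : c' ≠ d') : ∃ g ∈ St v, g • c = c' ∧ g • d = d' := by
  obtain ⟨g, hg, rfl⟩ := neighbour_transitive hc hc'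
  have hgd : Adj v (g • d) := adj_fix hg hd
  by_cases he : g • d = d'
  · exact ⟨g, hg, rfl, he⟩
  have hgne : g • d ≠ g • c := fun e => hne (smul_left_cancel g e).symm
  obtain ⟨e, he', hq⟩ : ∃ e ∈ Ev v (g • c), e ∉ Qv v := by
    by_contra! hall
    have := h.relIndex_Qv_Ev hc'
    rw [Subgroup.relIndex_eq_one.2 hall] at this
    omega
  refine ⟨e * g, mul_mem (mem_St.2 (mem_Ev.1 he').1) hg, ?_, ?_⟩
  · rw [mul_smul, (mem_Ev.1 he').2]
  · rw [mul_smul]
    exact h.swap hc' hgd hd' hgne hne'.symm (Ne.symm he) he' hq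

/-- The kernels at the ends of an edge differ. -/
theorem not_le_Qv {v w : CosetVertex M₁ M₂} (hvw : Adj v w) : ¬ Qv v ≤ Qv w := by
  intro hle
  haveI := h.finite_Ev v w
  have e1 := Subgroup.relIndex_mul_relIndex _ _ _ hle (h.Qv_le_Ev' hvw)
  rw [h.relIndex_Qv_Ev hvw, h.relIndex_Qv_Ev' hvw] at e1
  have e : Qv v = Qv w := le_antisymm hle (Subgroup.relIndex_eq_one.1 (by omega))
  have hbot : Qv v = ⊥ := h.eq_bot_of_normal hvw (h.Qv_le_Ev hvw) (normalizer_pCoreOf _)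
    (e ▸ normalizer_pCoreOf _)
  have h2 := h.relIndex_Qv_Ev hvw
  rw [hbot, Subgroup.relIndex_bot_left] at h2
  have := h.card_Ev hvw
  omega

theorem sup_Qv {v w : CosetVertex M₁ M₂} (hvw : Adj v w) {g : X} (hg : g ∈ Ev v w) (hgv : g ∉ Qv v)
    {L : Subgroup X} (hQ : Qv v ≤ L) (hgL : g ∈ L) : Ev v w ≤ L := fun x hx => by
  by_cases hxv : x ∈ Qv v
  · exact hQ hxv
  · have := mul_mem (hQ (h.mul_mem_Qv hvw hx hg hxv hgv)) (inv_mem hgL)
    rwa [mul_inv_cancel_right] at this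

end Hyp

end CfsgLib.LocalEven.AmalgamGold
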