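/-
The system of four-groups attached to an involution in the centre of the edge group: at a vertex of the
first kind the three conjugates at the neighbours with the identity form a group; critical walks.
-/
import Cfsg.Agent.Lib.LocalEven.AmalgamGold.Setup

set_option autoImplicit false
set_option linter.unusedSectionVars false
set_option linter.style.haveILetI false

namespace CfsgLib.LocalEven.AmalgamGold

open Cfsg CfsgLib.LocalEven.CosetGraph CfsgLib.LocalEven.SylowIn CfsgLib.LocalEven.Amalgam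

variable {X : Type*} [Group X] {M₁ M₂ : Subgroup X} {z : X}

/-- An involution in the centre of the edge group. -/
structure Elt (M₁ M₂ : Subgroup X) (z : X) : Prop where
  mem : z ∈ M₁ ⊓ M₂
  ne : z ≠ 1
  sq : z * z = 1
  comm : ∀ t ∈ M₁ ⊓ M₂, t * z = z * t

/-- The conjugate of `z` at a vertex of the second kind. -/
noncomputable def zOf (z : X) (v : CosetVertex M₁ M₂) : X :=
  Sum.elim (fun _ => 1) (fun q => q.out * z * q.out⁻¹) v

/-- The subgroup generated by the conjugates of `z` at the neighbours. -/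
noncomputable def Y (z : X) (a : CosetVertex M₁ M₂) : Subgroup X :=
  Subgroup.closure (zOf z '' {c | Adj a c})

/-- The subgroup generated by the groups of the neighbours. -/
noncomputable def Vd (z : X) (c : CosetVertex M₁ M₂) : Subgroup X :=
  ⨆ (a : CosetVertex M₁ M₂) (_ : Adj c a), Y z a

/-- A walk of length `k`. -/
def Walk (k : ℕ) (w : ℕ → CosetVertex M₁ M₂) : Prop := ∀ i < k, Adj (w i) (w (i + 1))

/-- A walk without backtracking. -/
def Arc (k : ℕ) (w : ℕ → CosetVertex M₁ M₂) : Prop := Walk k w ∧ ∀ i, i + 2 ≤ k → w i ≠ w (i + 2)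

/-- The critical distance of the system of `z`. -/
noncomputable def bz (M₁ M₂ : Subgroup X) (z : X) : ℕ :=
  sInf {k : ℕ | ∃ w : ℕ → CosetVertex M₁ M₂, Walk k w ∧ IsA (w 0) ∧ ¬ Y z (w 0) ≤ Qv (w k)}

/-- A critical walk. -/
def Crit (z : X) (w : ℕ → CosetVertex M₁ M₂) : Prop :=
  Walk (bz M₁ M₂ z) w ∧ IsA (w 0) ∧ ¬ Y z (w 0) ≤ Qv (w (bz M₁ M₂ z))

/-- Prepend a vertex. -/
def consW (v : CosetVertex M₁ M₂) (w : ℕ → CosetVertex M₁ M₂) : ℕ → CosetVertex M₁ M₂
  | 0 => v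
  | i + 1 => w i

/-- Reverse a walk of length `k`. -/
def revW (k : ℕ) (w : ℕ → CosetVertex M₁ M₂) : ℕ → CosetVertex M₁ M₂ := fun i => w (k - i)

theorem Walk.mono {k j : ℕ} {w : ℕ → CosetVertex M₁ M₂} (hw : Walk k w) (hj : j ≤ k) : Walk j w :=
  fun i hi => hw i (by omega)

theorem Walk.drop {k j n : ℕ} {w : ℕ → CosetVertex M₁ M₂} (hw : Walk k w) (hj : j + n ≤ k) :
    Walk n (fun i => w (i + j)) := fun i hi => by
  show Adj (w (i + j)) (w (i + 1 + j))
  rw [Nat.add_right_comm]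
  exact hw _ (by omega)

theorem Walk.cons {k : ℕ} {w : ℕ → CosetVertex M₁ M₂} (hw : Walk k w) {v : CosetVertex M₁ M₂}
    (hv : Adj v (w 0)) : Walk (k + 1) (consW v w) := fun i hi => by
  cases i with
  | zero => exact hv
  | succ i => exact hw i (by omega)

theorem Walk.rev {k : ℕ} {w : ℕ → CosetVertex M₁ M₂} (hw : Walk k w) : Walk k (revW k w) := fun i hi => by
  have := (hw (k - (i + 1)) (by omega)).symm
  rwa [show k - (i + 1) + 1 = k - i by omega] at this

theorem Walk.smul {k : ℕ} {w : ℕ → CosetVertex M₁ M₂} (hw : Walk k w) (g : X) :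
    Walk k (fun i => g • w i) := fun i hi => adj_smul g (hw i hi)

theorem Arc.mono {k j : ℕ} {w : ℕ → CosetVertex M₁ M₂} (hw : Arc k w) (hj : j ≤ k) : Arc j w :=
  ⟨hw.1.mono hj, fun i hi => hw.2 i (by omega)⟩

theorem Arc.drop {k j n : ℕ} {w : ℕ → CosetVertex M₁ M₂} (hw : Arc k w) (hj : j + n ≤ k) :
    Arc n (fun i => w (i + j)) :=
  ⟨hw.1.drop hj, fun i hi => by show w (i + j) ≠ w (i + 2 + j); rw [Nat.add_right_comm i 2 j]; exact hw.2 _ (by omega)⟩

theorem Arc.cons {k : ℕ} {w : ℕ → CosetVertex M₁ M₂} (hw : Arc k w) {v : CosetVertex M₁ M₂}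
    (hv : Adj v (w 0)) (hne : 1 ≤ k → v ≠ w 1) : Arc (k + 1) (consW v w) := by
  refine ⟨hw.1.cons hv, fun i hi => ?_⟩
  cases i with
  | zero => exact hne (by omega)
  | succ i => exact hw.2 i (by omega)

theorem Arc.rev {k : ℕ} {w : ℕ → CosetVertex M₁ M₂} (hw : Arc k w) : Arc k (revW k w) :=
  ⟨hw.1.rev, fun i hi e => hw.2 (k - (i + 2)) (by omega) (by
    show w (k - (i + 2)) = w (k - (i + 2) + 2)
    rw [show k - (i + 2) + 2 = k - i by omega]; exact e.symm)⟩

theorem Arc.smul {k : ℕ} {w : ℕ → CosetVertex M₁ M₂} (hw : Arc k w) (g : X) : Arc k (fun i => g • w i) :=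
  ⟨hw.1.smul g, fun i hi e => hw.2 i hi (smul_left_cancel g e)⟩

theorem Walk.parity {k : ℕ} {w : ℕ → CosetVertex M₁ M₂} (hw : Walk k w) {i : ℕ} (hi : i ≤ k) :
    IsA (w i) ↔ (IsA (w 0) ↔ Even i) := by
  induction i with
  | zero => simp
  | succ i ih =>
    have h1 := isA_flip (hw i (by omega))
    have h2 := ih (by omega)
    rw [Nat.even_add_one]
    tauto

theorem le_Q {k : ℕ} {w : ℕ → CosetVertex M₁ M₂} (hw : Walk k w) (h0 : IsA (w 0))
    (hk : k < bz M₁ M₂ z) : Y z (w 0) ≤ Qv (w k) := by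
  by_contra hc
  exact (Nat.notMem_of_lt_sInf hk) ⟨w, hw, h0, hc⟩

theorem zOf_mem_Y {a c : CosetVertex M₁ M₂} (hac : Adj a c) : zOf z c ∈ Y z a :=
  Subgroup.subset_closure ⟨c, hac, rfl⟩

theorem Y_le_Vd {c a : CosetVertex M₁ M₂} (hca : Adj c a) : Y z a ≤ Vd z c :=
  le_iSup₂_of_le a hca le_rfl

theorem z_mem_Vd {c a d : CosetVertex M₁ M₂} (hca : Adj c a) (had : Adj a d) : zOf z d ∈ Vd z c :=
  Y_le_Vd hca (zOf_mem_Y had)

variable (h : Hyp M₁ M₂) (hz : Elt M₁ M₂ z)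
include h hz

theorem zOf_base (x : X) :
    zOf z (x • (Sum.inr ((1 : X) : X ⧸ M₂) : CosetVertex M₁ M₂)) = x * z * x⁻¹ := by
  rw [smul_inr_one]
  obtain ⟨m, hm⟩ := QuotientGroup.mk_out_eq_mul M₂ x
  show (QuotientGroup.mk x : X ⧸ M₂).out * z * (QuotientGroup.mk x : X ⧸ M₂).out⁻¹ = _
  rw [hm]
  have := h.cent z hz.mem hz.sq hz.comm m m.2
  calc x * (m : X) * z * (x * (m : X))⁻¹ = x * ((m : X) * z) * (m : X)⁻¹ * x⁻¹ := by group
    _ = _ := by rw [this]; group

theorem zOf_smul (g : X) (v : CosetVertex M₁ M₂) : zOf z (g • v) = g * zOf z v * g⁻¹ := by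
  obtain ⟨x, rfl | rfl⟩ := vertex_cases v
  · rw [← mul_smul, smul_inl_one, smul_inl_one]
    simp [zOf]
  · rw [← mul_smul, zOf_base h hz, zOf_base h hz]
    group

theorem zOf_comm {a c : CosetVertex M₁ M₂} (hac : Adj a c) (ha : IsA a) {g : X} (hg : g ∈ St c) :
    g * zOf z c = zOf z c * g := by
  have e := zOf_smul h hz g c
  rw [mem_St.1 hg] at e
  exact (eq_mul_inv_iff_mul_eq.1 e).symm

theorem zOf_mem_Ev {a c : CosetVertex M₁ M₂} (hac : Adj a c) (ha : IsA a) : zOf z c ∈ Ev a c := by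
  obtain ⟨x, rfl, rfl⟩ := edge_base hac ha
  rw [zOf_base h hz, ← Ev_smul]
  refine conj_mem_map rfl ?_
  simp only [Ev, edgeStabilizer, stabilizer_inl_one, stabilizer_inr_one]
  exact hz.mem

theorem zOf_sq (v : CosetVertex M₁ M₂) : zOf z v * zOf z v = 1 := by
  obtain ⟨x, rfl | rfl⟩ := vertex_cases v
  · rw [smul_inl_one]; simp [zOf]
  · rw [zOf_base h hz]
    calc x * z * x⁻¹ * (x * z * x⁻¹) = x * (z * z) * x⁻¹ := by group
      _ = 1 := by rw [hz.sq]; group

theorem zOf_inv (v : CosetVertex M₁ M₂) : (zOf z v)⁻¹ = zOf z v :=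
  inv_eq_of_mul_eq_one_right (zOf_sq h hz v)

theorem zOf_ne_one {a c : CosetVertex M₁ M₂} (hac : Adj a c) (ha : IsA a) : zOf z c ≠ 1 := by
  obtain ⟨x, rfl, rfl⟩ := edge_base hac ha
  rw [zOf_base h hz]
  intro e
  rw [mul_inv_eq_one, mul_eq_left] at e
  exact hz.ne e

theorem zOf_mem_Qv_left {a c : CosetVertex M₁ M₂} (hac : Adj a c) (ha : IsA a) : zOf z c ∈ Qv a :=
  Amalgam.charP h.charP a (Subgroup.mem_inf.2 ⟨(Subgroup.mem_inf.1 (zOf_mem_Ev h hz hac ha)).1,
    fun g hg => zOf_comm h hz hac ha (mem_St.2 (h.Qv_fix hac hg))⟩)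

theorem zOf_mem_Qv_right {a c : CosetVertex M₁ M₂} (hac : Adj a c) (ha : IsA a) : zOf z c ∈ Qv c :=
  Amalgam.charP h.charP c (Subgroup.mem_inf.2 ⟨(Subgroup.mem_inf.1 (zOf_mem_Ev h hz hac ha)).2,
    fun _ hg => zOf_comm h hz hac ha (Qv_le_St c hg)⟩)

theorem zOf_comm_zOf {a c d : CosetVertex M₁ M₂} (hac : Adj a c) (had : Adj a d) (ha : IsA a) :
    zOf z c * zOf z d = zOf z d * zOf z c :=
  (zOf_comm h hz hac ha (mem_St.2 (h.Qv_fix hac (zOf_mem_Qv_left h hz had ha)))).symm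

theorem zOf_inj {a c d : CosetVertex M₁ M₂} (hac : Adj a c) (had : Adj a d) (ha : IsA a)
    (he : zOf z c = zOf z d) : c = d := by
  by_contra hne
  refine zOf_ne_one h hz hac ha (h.eq_one_of_cent hac ha (zOf_mem_Ev h hz hac ha) (zOf_sq h hz c) fun g hg => ?_)
  refine Subgroup.mem_centralizer_singleton_iff.1 (h.St_le_two hac had hne ?_ ?_ hg : g ∈ Subgroup.centralizer {zOf z c})
  · exact fun e he' => Subgroup.mem_centralizer_singleton_iff.2 (zOf_comm h hz hac ha (Subgroup.mem_inf.1 he').2)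
  · exact fun e he' => Subgroup.mem_centralizer_singleton_iff.2
      (he ▸ zOf_comm h hz had ha (Subgroup.mem_inf.1 he').2)

theorem zOf_prod {a c d e : CosetVertex M₁ M₂} (hac : Adj a c) (had : Adj a d) (hae : Adj a e) (ha : IsA a)
    (hcd : c ≠ d) (hce : c ≠ e) (hde : d ≠ e) : zOf z c * zOf z d * zOf z e = 1 := by
  have hcd' := zOf_comm_zOf h hz hac had ha
  have hce' := zOf_comm_zOf h hz hac hae ha
  have hde' := zOf_comm_zOf h hz had hae ha
  set w := zOf z c * zOf z d * zOf z e with hw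
  have key : ∀ {p q r : CosetVertex M₁ M₂}, Adj a p → Adj a q → Adj a r → q ≠ p → r ≠ p → r ≠ q →
      zOf z p * zOf z q * zOf z r = w → Ev a p ≤ Subgroup.centralizer {w} := by
    intro p q r hp hq hr hqp hrp hrq hpqr g hg
    rw [Subgroup.mem_centralizer_singleton_iff, ← hpqr]
    have hga := mem_St.2 (mem_Ev.1 hg).1
    have e1 : g * (zOf z p * zOf z q * zOf z r) * g⁻¹ =
        zOf z (g • p) * zOf z (g • q) * zOf z (g • r) := by
      rw [zOf_smul h hz, zOf_smul h hz, zOf_smul h hz]; group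
    have e2 : zOf z (g • p) * zOf z (g • q) * zOf z (g • r) = zOf z p * zOf z q * zOf z r := by
      rw [(mem_Ev.1 hg).2]
      by_cases hgq : g ∈ Qv a
      · rw [h.Qv_fix hq hgq, h.Qv_fix hr hgq]
      · rw [h.swap hp hq hr hqp hrp hrq hg hgq, h.swap hp hr hq hrp hqp hrq.symm hg hgq, mul_assoc, mul_assoc,
          zOf_comm_zOf h hz hr hq ha]
    calc g * (zOf z p * zOf z q * zOf z r)
        = g * (zOf z p * zOf z q * zOf z r) * g⁻¹ * g := by group
      _ = _ := by rw [e1, e2]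
  refine h.eq_one_of_cent hac ha ?_ ?_ fun g hg => Subgroup.mem_centralizer_singleton_iff.1
    (h.St_le_two hac had hcd (key hac had hae hcd.symm hce.symm hde.symm rfl)
      (key had hac hae hcd hde.symm hce.symm (by rw [hw, hcd'])) hg : g ∈ Subgroup.centralizer {w})
  · exact h.Qv_le_Ev hac (mul_mem (mul_mem (zOf_mem_Qv_left h hz hac ha) (zOf_mem_Qv_left h hz had ha))
      (zOf_mem_Qv_left h hz hae ha))
  · calc w * w = zOf z c * zOf z d * (zOf z e * zOf z c) * zOf z d * zOf z e := by rw [hw]; group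
      _ = zOf z c * (zOf z d * zOf z c) * (zOf z e * zOf z d) * zOf z e := by rw [← hce']; group
      _ = (zOf z c * zOf z c) * (zOf z d * zOf z d) * (zOf z e * zOf z e) := by
        rw [← hcd', ← hde']; group
      _ = 1 := by rw [zOf_sq h hz, zOf_sq h hz, zOf_sq h hz]; simp

theorem zOf_mul {a c d e : CosetVertex M₁ M₂} (hac : Adj a c) (had : Adj a d) (hae : Adj a e) (ha : IsA a)
    (hcd : c ≠ d) (hce : c ≠ e) (hde : d ≠ e) : zOf z c * zOf z d = zOf z e := by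
  rw [← zOf_inv h hz e]
  exact eq_inv_of_mul_eq_one_left (zOf_prod h hz hac had hae ha hcd hce hde)

theorem mem_Y {a : CosetVertex M₁ M₂} (ha : IsA a) {x : X} :
    x ∈ Y z a ↔ x = 1 ∨ ∃ c, Adj a c ∧ x = zOf z c := by
  refine ⟨fun hx => ?_, ?_⟩
  · let K : Subgroup X :=
      { carrier := {x | x = 1 ∨ ∃ c, Adj a c ∧ x = zOf z c}
        one_mem' := Or.inl rfl
        mul_mem' := by
          rintro x y (rfl | ⟨c, hc, rfl⟩) (rfl | ⟨d, hd, rfl⟩)
          · exact Or.inl (one_mul 1)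
          · exact Or.inr ⟨d, hd, one_mul _⟩
          · exact Or.inr ⟨c, hc, mul_one _⟩
          · by_cases e : c = d
            · subst e; exact Or.inl (zOf_sq h hz c)
            · obtain ⟨e', he', hec, hed, -⟩ := h.third hc hd e
              exact Or.inr ⟨e', he', zOf_mul h hz hc hd he' ha e hec.symm hed.symm⟩
        inv_mem' := by
          rintro x (rfl | ⟨c, hc, rfl⟩)
          · exact Or.inl inv_one
          · exact Or.inr ⟨c, hc, zOf_inv h hz c⟩ }
    exact (Subgroup.closure_le K).2 (by rintro _ ⟨c, hc, rfl⟩; exact Or.inr ⟨c, hc, rfl⟩) hx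
  · rintro (rfl | ⟨c, hc, rfl⟩)
    · exact one_mem _
    · exact zOf_mem_Y hc

theorem Y_le_Qv {a : CosetVertex M₁ M₂} (ha : IsA a) : Y z a ≤ Qv a :=
  (Subgroup.closure_le _).2 (by rintro _ ⟨c, hc, rfl⟩; exact zOf_mem_Qv_left h hz hc ha)

theorem Y_le_Ev {a c : CosetVertex M₁ M₂} (hac : Adj a c) (ha : IsA a) : Y z a ≤ Ev a c :=
  (Y_le_Qv h hz ha).trans (h.Qv_le_Ev hac)

theorem Y_sq {a : CosetVertex M₁ M₂} (ha : IsA a) {x : X} (hx : x ∈ Y z a) : x * x = 1 := by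
  rcases (mem_Y h hz ha).1 hx with rfl | ⟨c, -, rfl⟩
  · exact one_mul 1
  · exact zOf_sq h hz c

theorem Y_inv {a : CosetVertex M₁ M₂} (ha : IsA a) {x : X} (hx : x ∈ Y z a) : x⁻¹ = x :=
  inv_eq_of_mul_eq_one_right (Y_sq h hz ha hx)

theorem Y_comm {a : CosetVertex M₁ M₂} (ha : IsA a) {x y : X} (hx : x ∈ Y z a) (hy : y ∈ Y z a) :
    x * y = y * x := by
  rcases (mem_Y h hz ha).1 hx with rfl | ⟨c, hc, rfl⟩
  · simp
  rcases (mem_Y h hz ha).1 hy with rfl | ⟨d, hd, rfl⟩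
  · simp
  exact zOf_comm_zOf h hz hc hd ha

theorem Y_smul (g : X) (a : CosetVertex M₁ M₂) :
    (Y z a).map (MulAut.conj g).toMonoidHom = Y z (g • a) := by
  rw [Y, Y, MonoidHom.map_closure]
  congr 1
  ext x
  simp only [Set.mem_image, Set.mem_ofPred_eq]
  constructor
  · rintro ⟨_, ⟨c, hc, rfl⟩, rfl⟩
    exact ⟨g • c, adj_smul g hc, zOf_smul h hz g c⟩
  · rintro ⟨d, hd, rfl⟩
    refine ⟨_, ⟨g⁻¹ • d, by simpa using adj_smul g⁻¹ hd, rfl⟩, ?_⟩
    show g * zOf z (g⁻¹ • d) * g⁻¹ = zOf z d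
    rw [← zOf_smul h hz, smul_inv_smul]

theorem conj_mem_Y {g x : X} {a : CosetVertex M₁ M₂} (hx : x ∈ Y z a) : g * x * g⁻¹ ∈ Y z (g • a) :=
  conj_mem_map (Y_smul h hz g a) hx

theorem Y_comm_Qv {a : CosetVertex M₁ M₂} (ha : IsA a) {g x : X} (hg : g ∈ Qv a) (hx : x ∈ Y z a) :
    g * x = x * g := by
  rcases (mem_Y h hz ha).1 hx with rfl | ⟨c, hc, rfl⟩
  · simp
  exact zOf_comm h hz hc ha (mem_St.2 (h.Qv_fix hc hg))

theorem fix_of_comm {a c : CosetVertex M₁ M₂} (hac : Adj a c) (ha : IsA a) {g : X} (hg : g ∈ St a)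
    (hc : g * zOf z c = zOf z c * g) : g • c = c :=
  zOf_inj h hz (adj_fix hg hac) hac ha (by rw [zOf_smul h hz, hc, mul_inv_cancel_right])

theorem mem_Qv_of_cent {a : CosetVertex M₁ M₂} (ha : IsA a) {g : X} (hg : g ∈ St a)
    (hc : ∀ x ∈ Y z a, g * x = x * g) : g ∈ Qv a := by
  obtain ⟨c, hac⟩ := exists_adj a
  obtain ⟨d, had, hne⟩ := h.exists_ne hac
  exact h.mem_Qv_of_fix hac had hne.symm (mem_St.1 hg) (fix_of_comm h hz hac ha hg (hc _ (zOf_mem_Y hac)))
    (fix_of_comm h hz had ha hg (hc _ (zOf_mem_Y had)))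

theorem Vd_smul (g : X) (c : CosetVertex M₁ M₂) :
    (Vd z c).map (MulAut.conj g).toMonoidHom = Vd z (g • c) := by
  simp only [Vd, Subgroup.map_iSup, Y_smul h hz]
  refine le_antisymm (iSup₂_le fun a ha => le_iSup₂_of_le (g • a) (adj_smul g ha) le_rfl)
    (iSup₂_le fun a ha => le_iSup₂_of_le (g⁻¹ • a) (by simpa using adj_smul g⁻¹ ha) ?_)
  rw [smul_inv_smul]

theorem conj_mem_Vd {g x : X} {c : CosetVertex M₁ M₂} (hg : g • c = c) (hx : x ∈ Vd z c) :
    g * x * g⁻¹ ∈ Vd z c := by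
  have := conj_mem_map (Vd_smul h hz g c) hx
  rwa [hg] at this

theorem St_le_normalizer_Vd (c : CosetVertex M₁ M₂) : St c ≤ Subgroup.normalizer (Vd z c : Set X) := by
  refine le_normalizer_of_map_conj fun g hg => ?_
  rw [Vd_smul h hz, mem_St.1 hg]

theorem St_le_normalizer_Y (a : CosetVertex M₁ M₂) : St a ≤ Subgroup.normalizer (Y z a : Set X) := by
  refine le_normalizer_of_map_conj fun g hg => ?_
  rw [Y_smul h hz, mem_St.1 hg]

theorem Y_ne_bot {a : CosetVertex M₁ M₂} (ha : IsA a) : Y z a ≠ ⊥ := by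
  obtain ⟨c, hac⟩ := exists_adj a
  intro e
  exact zOf_ne_one h hz hac ha ((Subgroup.eq_bot_iff_forall _).1 e _ (zOf_mem_Y hac))

theorem Vd_ne_bot {c a : CosetVertex M₁ M₂} (hca : Adj c a) (ha : IsA a) : Vd z c ≠ ⊥ := fun e =>
  Y_ne_bot h hz ha (le_bot_iff.1 (e ▸ Y_le_Vd hca))

theorem Y_inj {c a a' : CosetVertex M₁ M₂} (hca : Adj c a) (hca' : Adj c a') (ha : IsA a)
    (he : Y z a = Y z a') : a = a' := by
  by_contra hne
  have hc : St c ≤ Subgroup.normalizer (Y z a : Set X) := h.St_le_two hca hca' hne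
    ((inf_le_right).trans (St_le_normalizer_Y h hz a))
    ((inf_le_right).trans (he ▸ St_le_normalizer_Y h hz a'))
  exact Y_ne_bot h hz ha (h.eq_bot_of_normal hca.symm (Y_le_Ev h hz hca.symm ha) (St_le_normalizer_Y h hz a) hc)

theorem Y_fix {k : ℕ} {w : ℕ → CosetVertex M₁ M₂} (hw : Walk k w) (h0 : IsA (w 0))
    (hk : k ≤ bz M₁ M₂ z) {x : X} (hx : x ∈ Y z (w 0)) : x • w k = w k := by
  cases k with
  | zero => exact mem_St.1 (Qv_le_St _ (Y_le_Qv h hz h0 hx))
  | succ k => exact h.Qv_fix (hw k (by omega)) (le_Q (hw.mono (by omega)) h0 (by omega) hx)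

theorem z_mem_Q {k : ℕ} {w : ℕ → CosetVertex M₁ M₂} (hw : Walk k w) (h0 : ¬ IsA (w 0))
    (hk : k ≤ bz M₁ M₂ z) : zOf z (w 0) ∈ Qv (w k) := by
  cases k with
  | zero =>
    obtain ⟨a, ha⟩ := exists_adj (w 0)
    exact zOf_mem_Qv_right h hz ha.symm (by have := isA_flip ha; tauto)
  | succ k =>
    have h01 := hw 0 (by omega)
    have h1 : IsA (w 1) := by have := isA_flip h01; tauto
    exact le_Q (hw.drop (j := 1) (n := k) (by omega)) (by simpa using h1) (by omega)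
      (show zOf z (w 0) ∈ Y z (w (0 + 1)) from zOf_mem_Y h01.symm)

theorem Vd_le_Q {k : ℕ} {w : ℕ → CosetVertex M₁ M₂} (hw : Walk k w) (h0 : ¬ IsA (w 0))
    (hk : k + 1 < bz M₁ M₂ z) : Vd z (w 0) ≤ Qv (w k) := by
  refine iSup₂_le fun a ha => ?_
  have ha' : IsA a := by have := isA_flip ha; tauto
  exact le_Q (w := consW a w) (hw.cons ha.symm) ha' hk

theorem exists_crit : ∃ w : ℕ → CosetVertex M₁ M₂, Crit z w := by
  have hne : {k : ℕ | ∃ w : ℕ → CosetVertex M₁ M₂, Walk k w ∧ IsA (w 0) ∧ ¬ Y z (w 0) ≤ Qv (w k)}.Nonempty := by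
    by_contra hc
    rw [Set.not_nonempty_iff_eq_empty, Set.eq_empty_iff_forall_notMem] at hc
    set a : CosetVertex M₁ M₂ := Sum.inl ((1 : X) : X ⧸ M₁)
    have ha : IsA a := rfl
    refine Y_ne_bot h hz ha (eq_bot_of_fixes_all h.charP.1 _ fun v => ?_)
    obtain ⟨p⟩ := h.connected.preconnected a v
    by_contra hv
    refine hc p.length ⟨p.getVert, fun i hi => p.adj_getVert_succ hi, by simpa using ha, fun hle => ?_⟩
    rw [SimpleGraph.Walk.getVert_zero, SimpleGraph.Walk.getVert_length] at hle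
    exact hv (hle.trans (Qv_le_St v))
  exact (Nat.sInf_mem hne : _)

omit hz in
theorem crit_arc {w : ℕ → CosetVertex M₁ M₂} (hw : Crit z w) : Arc (bz M₁ M₂ z) w := by
  refine ⟨hw.1, fun i hi e => hw.2.2 ?_⟩
  let w' : ℕ → CosetVertex M₁ M₂ := fun j => if j ≤ i then w j else w (j + 2)
  have hw' : Walk (bz M₁ M₂ z - 2) w' := by
    intro j hj
    simp only [w']
    by_cases h1 : j + 1 ≤ i
    · rw [if_pos (by omega), if_pos h1]; exact hw.1 j (by omega)
    · by_cases h2 : j ≤ i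
      · obtain rfl : j = i := by omega
        rw [if_pos le_rfl, if_neg (by omega), e]
        exact hw.1 (j + 2) (by omega)
      · rw [if_neg h2, if_neg (by omega)]
        exact hw.1 (j + 2) (by omega)
  have hle := le_Q (z := z) hw' (by simpa [w'] using hw.2.1) (by omega)
  have e2 : w' (bz M₁ M₂ z - 2) = w (bz M₁ M₂ z) := by
    simp only [w']
    by_cases h1 : bz M₁ M₂ z - 2 ≤ i
    · rw [if_pos h1, show bz M₁ M₂ z - 2 = i by omega, e, show i + 2 = bz M₁ M₂ z by omega]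
    · rw [if_neg h1, show bz M₁ M₂ z - 2 + 2 = bz M₁ M₂ z by omega]
  rw [show w' 0 = w 0 from if_pos (Nat.zero_le i), e2] at hle
  exact hle

theorem b_pos : 1 ≤ bz M₁ M₂ z := by
  obtain ⟨w, hw⟩ := exists_crit h hz
  by_contra hb
  refine hw.2.2 ?_
  rw [show bz M₁ M₂ z = 0 by omega]
  exact Y_le_Qv h hz hw.2.1

theorem crit_first {w : ℕ → CosetVertex M₁ M₂} (hw : Crit z w) :
    Adj (w 0) (w 1) ∧ zOf z (w 1) ∈ Qv (w (bz M₁ M₂ z)) := by
  have hb := b_pos h hz
  have h01 := hw.1 0 (by omega)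
  refine ⟨h01, ?_⟩
  have := z_mem_Q h hz (hw.1.drop (j := 1) (n := bz M₁ M₂ z - 1) (by omega))
    (by have := isA_flip h01; have := hw.2.1; simp only [zero_add]; tauto) (by omega)
  simpa [show bz M₁ M₂ z - 1 + 1 = bz M₁ M₂ z by omega] using this

/-- Only `1` and the conjugate at `w 1` stay in the kernel at the end. -/
theorem crit_mem {w : ℕ → CosetVertex M₁ M₂} (hw : Crit z w) {x : X} (hx : x ∈ Y z (w 0))
    (hxQ : x ∈ Qv (w (bz M₁ M₂ z))) : x = 1 ∨ x = zOf z (w 1) := by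
  obtain ⟨h01, hz1⟩ := crit_first h hz hw
  rcases (mem_Y h hz hw.2.1).1 hx with rfl | ⟨c, hc, rfl⟩
  · exact Or.inl rfl
  by_cases e : c = w 1
  · exact Or.inr (by rw [e])
  refine absurd ((Subgroup.closure_le _).2 ?_) hw.2.2
  rintro _ ⟨d, hd, rfl⟩
  obtain ⟨f, hf, hfc, hf1, hall⟩ := h.third hc h01 e
  rcases hall d hd with rfl | rfl | rfl
  · exact hxQ
  · exact hz1
  · rw [← zOf_mul h hz hc h01 hf hw.2.1 e hfc.symm hf1.symm]
    exact mul_mem hxQ hz1

theorem crit_not_mem {w : ℕ → CosetVertex M₁ M₂} (hw : Crit z w) {c : CosetVertex M₁ M₂}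
    (hc : Adj (w 0) c) (hne : c ≠ w 1) : zOf z c ∉ Qv (w (bz M₁ M₂ z)) := fun hQ => by
  rcases crit_mem h hz hw (zOf_mem_Y hc) hQ with e | e
  · exact zOf_ne_one h hz hc hw.2.1 e
  · exact hne (zOf_inj h hz hc (crit_first h hz hw).1 hw.2.1 e)

theorem crit_smul {w : ℕ → CosetVertex M₁ M₂} (hw : Crit z w) (g : X) : Crit z (fun i => g • w i) := by
  refine ⟨hw.1.smul g, (isA_smul g _).2 hw.2.1, fun hle => hw.2.2 ?_⟩
  have hle : Y z (g • w 0) ≤ Qv (g • w (bz M₁ M₂ z)) := hle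
  rwa [← Y_smul h hz, ← h.Qv_smul, Subgroup.map_le_map_iff_of_injective (MulAut.conj g).injective] at hle

/-- The critical distance is at least two. -/
theorem two_le_b : 2 ≤ bz M₁ M₂ z := by
  by_contra hb
  obtain ⟨w, hw⟩ := exists_crit h hz
  have hb1 : bz M₁ M₂ z = 1 := by have := b_pos h hz; omega
  obtain ⟨x, hx, hxQ⟩ := SetLike.not_le_iff_exists.1 hw.2.2
  have ha := hw.2.1
  have hab : Adj (w 0) (w 1) := hw.1 0 (by omega)
  rw [hb1] at hxQ
  rcases (mem_Y h hz ha).1 hx with rfl | ⟨c, hc, rfl⟩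
  · exact hxQ (one_mem _)
  set β := w 1 with hβ
  set a := w 0 with ha0
  have hcβ : c ≠ β := fun e => hxQ (by rw [e]; exact zOf_mem_Qv_right h hz hab ha)
  set x := zOf z c with hxd
  set u := zOf z β with hud
  have hxE : x ∈ Ev β a := (Ev_symm a β).le (h.Qv_le_Ev hab (zOf_mem_Qv_left h hz hc ha))
  -- conjugation by `x` moves `Q_β` only within `⟨u⟩`
  have key : ∀ q ∈ Qv β, x * q * x⁻¹ = q ∨ x * q * x⁻¹ = q * u := by
    intro q hq
    have hq' := inv_mem hq
    have hqa : q⁻¹ ∈ St a := mem_St.2 (h.Qv_fix hab.symm hq')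
    have hqb : q⁻¹ • β = β := mem_St.1 (Qv_le_St β hq')
    have e : x * q * x⁻¹ = q * (zOf z (q⁻¹ • c) * x) := by
      rw [zOf_smul h hz, hxd, zOf_inv h hz]
      group
    by_cases hqc : q⁻¹ • c = c
    · left; rw [e, hqc, hxd, zOf_sq h hz, mul_one]
    · right
      rw [e, hxd, zOf_mul h hz (adj_fix hqa hc) hc hab ha hqc
        (fun e' => hcβ (smul_left_cancel q⁻¹ (e'.trans hqb.symm))) hcβ]
  obtain ⟨a', ha', hne⟩ := h.exists_ne hab.symm
  obtain ⟨g, hg, hga⟩ := neighbour_transitive hab.symm ha'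
  set x' := g * x * g⁻¹ with hx'd
  have hgu : g * u = u * g := zOf_comm h hz hab ha hg
  have key' : ∀ q ∈ Qv β, x' * q * x'⁻¹ = q ∨ x' * q * x'⁻¹ = q * u := by
    intro q hq
    have hq' : g⁻¹ * q * g ∈ Qv β := by simpa using h.conj_mem_Qv (inv_mem hg) hq
    rcases key _ hq' with e | e
    · left
      calc x' * q * x'⁻¹ = g * (x * (g⁻¹ * q * g) * x⁻¹) * g⁻¹ := by rw [hx'd]; group
        _ = q := by rw [e]; group
    · right
      calc x' * q * x'⁻¹ = g * (x * (g⁻¹ * q * g) * x⁻¹) * g⁻¹ := by rw [hx'd]; group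
        _ = q * (g * u * g⁻¹) := by rw [e]; group
        _ = _ := by rw [hgu, mul_inv_cancel_right]
  set d := x * x' with hd
  have hxu : x * u = u * x := zOf_comm h hz hab ha (Subgroup.mem_inf.1 hxE).1
  have hdu : d * u = u * d := by
    have hx'u : x' * u = u * x' := zOf_comm h hz hab ha (conj_mem_St hg (Subgroup.mem_inf.1 hxE).1)
    rw [hd, mul_assoc, hx'u, ← mul_assoc, hxu, mul_assoc]
  have hdd : ∀ q ∈ Qv β, d * q * d⁻¹ = q ∨ d * q * d⁻¹ = q * u := by
    intro q hq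
    have e : d * q * d⁻¹ = x * (x' * q * x'⁻¹) * x⁻¹ := by rw [hd]; group
    rcases key' q hq with e' | e' <;> rw [e, e']
    · exact key q hq
    · have e3 : x * (q * u) * x⁻¹ = x * q * x⁻¹ * (x * u * x⁻¹) := by group
      rw [e3, hxu, mul_inv_cancel_right]
      rcases key q hq with e2 | e2 <;> rw [e2]
      · exact Or.inr rfl
      · left; rw [mul_assoc, hud, zOf_sq h hz, mul_one]
  have hdQ : d * d ∈ Qv β := by
    refine Amalgam.charP h.charP β (Subgroup.mem_inf.2 ⟨?_, fun q hq => ?_⟩)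
    · have hdS : d ∈ St β := mul_mem (Subgroup.mem_inf.1 hxE).1 (conj_mem_St hg (Subgroup.mem_inf.1 hxE).1)
      exact mul_mem hdS hdS
    · have : d * d * q * (d * d)⁻¹ = q := by
        rw [show d * d * q * (d * d)⁻¹ = d * (d * q * d⁻¹) * d⁻¹ by group]
        rcases hdd q hq with e | e <;> rw [e]
        · exact e
        · rw [show d * (q * u) * d⁻¹ = d * q * d⁻¹ * (d * u * d⁻¹) by group, e, hdu, mul_inv_cancel_right,
            mul_assoc, hud, zOf_sq h hz, mul_one]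
      exact (mul_inv_eq_iff_eq_mul.1 this).symm
  obtain ⟨e, he, hea, hea', -⟩ := h.third hab.symm ha' hne.symm
  have hx'E : x' ∈ Ev β a' := by
    have := conj_mem_map (Ev_smul g β a) hxE
    rwa [mem_St.1 hg, hga] at this
  have hx'Q : x' ∉ Qv β := fun hh => hxQ (by simpa [hx'd, mul_assoc] using h.conj_mem_Qv (inv_mem hg) hh)
  have e1 : x' • a = e := h.swap ha' hab.symm he hne.symm hea' hea hx'E hx'Q
  have e2 : x • e = a' := h.swap hab.symm he ha' hea hne hea'.symm hxE hxQ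
  have e3 : x' • a' = a' := (mem_Ev.1 hx'E).2
  have e4 : x • a' = e := h.swap hab.symm ha' he hne hea hea' hxE hxQ
  have hdda : (d * d) • a = a := h.Qv_fix hab.symm hdQ
  rw [hd, mul_smul (x * x') (x * x'), mul_smul x x' a, e1, e2, mul_smul x x' a', e3, e4] at hdda
  exact hea hdda

end CfsgLib.LocalEven.AmalgamGold
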