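/-
Transitivity on arcs from the elements fixing one arc and moving an extension.
-/
import Cfsg.Agent.Lib.LocalEven.AmalgamGold.Systems

set_option autoImplicit false
set_option linter.unusedSectionVars false

namespace CfsgLib.LocalEven.AmalgamGold

open Cfsg CfsgLib.LocalEven.CosetGraph CfsgLib.LocalEven.SylowIn CfsgLib.LocalEven.Amalgam

variable {X : Type*} [Group X] {M₁ M₂ : Subgroup X} {z : X}

/-- Arcs of length `k` with ends of the same kind are conjugate. -/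
def Trans (M₁ M₂ : Subgroup X) (k : ℕ) : Prop :=
  ∀ w w' : ℕ → CosetVertex M₁ M₂, Arc k w → Arc k w' → (IsA (w k) ↔ IsA (w' k)) →
    ∃ g : X, ∀ i ≤ k, g • w i = w' i

/-- An element fixes an arc of length `k` with end of the given kind and moves its extensions. -/
def Ext (M₁ M₂ : Subgroup X) (k : ℕ) (τ : Prop) : Prop :=
  ∃ (m : ℕ → CosetVertex M₁ M₂) (g : X), Arc k m ∧ (IsA (m k) ↔ τ) ∧ (∀ i ≤ k, g • m i = m i) ∧ g ∉ Qv (m k)

theorem Ext.of_arc {n k : ℕ} (hk : k ≤ n) {w : ℕ → CosetVertex M₁ M₂} (hw : Arc n w) {g : X}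
    (hg : ∀ i ≤ n, g • w i = w i) (hgQ : g ∉ Qv (w n)) {τ : Prop} (hτ : IsA (w n) ↔ τ) :
    Ext M₁ M₂ k τ :=
  ⟨fun i => w (i + (n - k)), g, hw.drop (by omega),
    by show IsA (w (k + (n - k))) ↔ τ; rwa [show k + (n - k) = n by omega],
    fun i hi => hg _ (by omega), by show g ∉ Qv (w (k + (n - k))); rwa [show k + (n - k) = n by omega]⟩

theorem trans_zero : Trans M₁ M₂ 0 := by
  intro w w' _ _ hτ
  obtain ⟨x, hx⟩ := vertex_cases (w 0)
  obtain ⟨y, hy⟩ := vertex_cases (w' 0)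
  refine ⟨y * x⁻¹, fun i hi => ?_⟩
  obtain rfl : i = 0 := by omega
  rcases hx with hx | hx <;> rcases hy with hy | hy <;> rw [hx, hy] at hτ ⊢
  · rw [mul_smul, inv_smul_smul]
  · simp [IsA] at hτ
  · simp [IsA] at hτ
  · rw [mul_smul, inv_smul_smul]

variable (h : Hyp M₁ M₂)
include h

theorem trans_succ {k : ℕ} (hT : Trans M₁ M₂ k) (hA : 1 ≤ k → Ext M₁ M₂ k True)
    (hB : 1 ≤ k → Ext M₁ M₂ k False) : Trans M₁ M₂ (k + 1) := by
  intro w w' hw hw' hτ
  have hτk : IsA (w k) ↔ IsA (w' k) := by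
    have h1 := isA_flip (hw.1 k (by omega))
    have h2 := isA_flip (hw'.1 k (by omega))
    tauto
  obtain ⟨g, hg⟩ := hT w w' (hw.mono (by omega)) (hw'.mono (by omega)) hτk
  have hd₁ : Adj (w' k) (g • w (k + 1)) := hg k le_rfl ▸ adj_smul g (hw.1 k (by omega))
  have hd₂ : Adj (w' k) (w' (k + 1)) := hw'.1 k (by omega)
  suffices hs : ∃ p : X, (∀ i ≤ k, p • w' i = w' i) ∧ p • (g • w (k + 1)) = w' (k + 1) by
    obtain ⟨p, hp, hp'⟩ := hs
    refine ⟨p * g, fun i hi => ?_⟩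
    rw [mul_smul]
    rcases Nat.lt_or_eq_of_le hi with hi' | rfl
    · rw [hg i (by omega), hp i (by omega)]
    · exact hp'
  rcases Nat.eq_zero_or_pos k with rfl | hk
  · obtain ⟨p, hp, hp'⟩ := neighbour_transitive hd₁ hd₂
    refine ⟨p, ?_, hp'⟩
    intro i hi
    obtain rfl : i = 0 := Nat.le_zero.1 hi
    exact mem_St.1 hp
  by_cases heq : g • w (k + 1) = w' (k + 1)
  · exact ⟨1, fun i _ => one_smul _ _, by rw [one_smul, heq]⟩
  obtain ⟨m, e, hm, hmτ, hme, heQ⟩ : ∃ m e, Arc k m ∧ (IsA (m k) ↔ IsA (w' k)) ∧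
      (∀ i ≤ k, e • m i = m i) ∧ e ∉ Qv (m k) := by
    by_cases hA' : IsA (w' k)
    · obtain ⟨m, e, h1, h2, h3, h4⟩ := hA hk
      exact ⟨m, e, h1, by tauto, h3, h4⟩
    · obtain ⟨m, e, h1, h2, h3, h4⟩ := hB hk
      exact ⟨m, e, h1, by tauto, h3, h4⟩
  obtain ⟨g₀, hg₀⟩ := hT m w' hm (hw'.mono (by omega)) hmτ
  set p := g₀ * e * g₀⁻¹ with hp
  have hfix : ∀ i ≤ k, p • w' i = w' i := fun i hi => by
    rw [hp, ← hg₀ i hi, mul_smul, mul_smul, inv_smul_smul, hme i hi]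
  have hpQ : p ∉ Qv (w' k) := fun hh => heQ (by
    rw [← hg₀ k le_rfl, h.mem_Qv_smul, hp] at hh
    simpa [mul_assoc] using hh)
  have hback : Adj (w' k) (w' (k - 1)) := by
    have := (hw'.1 (k - 1) (by omega)).symm
    rwa [show k - 1 + 1 = k by omega] at this
  have n1 : g • w (k + 1) ≠ w' (k - 1) := by
    rw [← hg (k - 1) (by omega)]
    intro e'
    refine hw.2 (k - 1) (by omega) ?_
    rw [show k - 1 + 2 = k + 1 by omega]
    exact (smul_left_cancel g e').symm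
  have n2 : w' (k + 1) ≠ w' (k - 1) := fun e' => hw'.2 (k - 1) (by omega) (by
    rw [show k - 1 + 2 = k + 1 by omega]; exact e'.symm)
  exact ⟨p, hfix, h.swap hback hd₁ hd₂ n1 n2 (Ne.symm heq) (mem_Ev.2 ⟨hfix k le_rfl, hfix (k - 1) (by omega)⟩) hpQ⟩

theorem trans_le {K : ℕ} (hext : ∀ k, 1 ≤ k → k < K → Ext M₁ M₂ k True ∧ Ext M₁ M₂ k False) :
    ∀ k ≤ K, Trans M₁ M₂ k := by
  intro k
  induction k with
  | zero => exact fun _ => trans_zero
  | succ k ih =>
    intro hk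
    exact trans_succ h (ih (by omega)) (fun h1 => (hext k h1 (by omega)).1) (fun h1 => (hext k h1 (by omega)).2)

/-- Arcs of length at most three with ends of the same kind are conjugate. -/
theorem trans_three : ∀ k ≤ 3, Trans M₁ M₂ k := by
  refine trans_le h fun k hk hk3 => ?_
  have key : ∀ c : CosetVertex M₁ M₂, Ext M₁ M₂ k (IsA c) := by
    intro c
    obtain ⟨d, hcd⟩ := exists_adj c
    obtain ⟨e, hde, hec⟩ := h.exists_ne hcd.symm
    have hw2 : Arc 2 (consW e (consW d (fun _ => c))) := by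
      refine Arc.cons (Arc.cons (k := 0) ⟨fun i hi => absurd hi (by omega), fun i hi => absurd hi (by omega)⟩
        hcd.symm (fun h1 => absurd h1 (by omega))) hde.symm fun _ => hec
    obtain ⟨q, hq, hqc⟩ := SetLike.not_le_iff_exists.1 (h.not_le_Qv hcd.symm)
    refine Ext.of_arc (n := 2) (by omega) hw2 (g := q) (fun i hi => ?_) hqc Iff.rfl
    rcases i with _ | _ | _ | i
    · exact h.Qv_fix hde hq
    · exact mem_St.1 (Qv_le_St d hq)
    · exact h.Qv_fix hcd.symm hq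
    · omega
  exact ⟨by simpa [IsA] using key (Sum.inl ((1 : X) : X ⧸ M₁)), by simpa [IsA] using key (Sum.inr ((1 : X) : X ⧸ M₂))⟩

variable (hz : Elt M₁ M₂ z)
include hz

omit h hz in
theorem crit_congr {w w' : ℕ → CosetVertex M₁ M₂} (hw : Crit z w) (he : ∀ i ≤ bz M₁ M₂ z, w i = w' i) :
    Crit z w' := by
  refine ⟨fun i hi => ?_, ?_, ?_⟩
  · rw [← he i (by omega), ← he (i + 1) (by omega)]; exact hw.1 i hi
  · rw [← he 0 (by omega)]; exact hw.2.1
  · rw [← he 0 (by omega), ← he _ le_rfl]; exact hw.2.2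

/-- With transitivity all arcs of critical length are critical. -/
theorem all_crit (hT : Trans M₁ M₂ (bz M₁ M₂ z)) {w' : ℕ → CosetVertex M₁ M₂}
    (hw' : Arc (bz M₁ M₂ z) w') (h0 : IsA (w' 0)) : Crit z w' := by
  obtain ⟨w, hw⟩ := exists_crit h hz
  obtain ⟨g, hg⟩ := hT w w' (crit_arc h hw) hw' (by
    rw [hw.1.parity le_rfl, hw'.1.parity le_rfl]
    have := hw.2.1
    tauto)
  exact crit_congr (crit_smul h hz hw g) hg

end CfsgLib.LocalEven.AmalgamGold
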