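/-
The critical distance is not an even number at least four, and is not two.
-/
import Cfsg.Agent.Lib.LocalEven.AmalgamGold.Arcs
import Cfsg.Agent.Lib.Solvable.FrattiniFitting

set_option autoImplicit false
set_option linter.unusedSectionVars false
set_option linter.style.haveILetI false

namespace CfsgLib.LocalEven.AmalgamGold

open Cfsg CfsgLib.LocalEven.CosetGraph CfsgLib.LocalEven.SylowIn CfsgLib.LocalEven.Amalgam

variable {X : Type*} [Group X] {M₁ M₂ : Subgroup X} {z : X}
variable (h : Hyp M₁ M₂) (hz : Elt M₁ M₂ z)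
include h hz

theorem crit_rev {w : ℕ → CosetVertex M₁ M₂} (hw : Crit z w) (he : Even (bz M₁ M₂ z)) :
    Crit z (revW (bz M₁ M₂ z) w) := by
  set b := bz M₁ M₂ z
  have hA : IsA (w b) := by rw [hw.1.parity le_rfl]; have := hw.2.1; tauto
  refine ⟨hw.1.rev, by simpa [revW] using hA, fun hle => hw.2.2 fun x hx => ?_⟩
  refine mem_Qv_of_cent h hz hA (mem_St.2 (Y_fix h hz hw.1 hw.2.1 le_rfl hx)) fun y hy => ?_
  have hwb : revW b w (bz M₁ M₂ z) = w 0 := by simp [revW, b]
  have hy' : y ∈ Qv (w 0) := hwb ▸ hle (show y ∈ Y z (revW b w 0) by simpa [revW] using hy)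
  exact (Y_comm_Qv h hz hw.2.1 hy' hx).symm

/-- At a critical walk of even length the centres next to the ends agree. -/
theorem crit_R {w : ℕ → CosetVertex M₁ M₂} (hw : Crit z w) (he : Even (bz M₁ M₂ z)) :
    zOf z (w 1) = zOf z (w (bz M₁ M₂ z - 1)) := by
  set b := bz M₁ M₂ z
  have hb2 := two_le_b h hz
  have hr := crit_rev h hz hw he
  have hA0 := hw.2.1
  have hAb : IsA (w b) := by rw [hw.1.parity le_rfl]; tauto
  have h01 := hw.1 0 (by omega)
  have hlast : Adj (w b) (w (b - 1)) := by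
    have := (hw.1 (b - 1) (by omega)).symm
    rwa [show b - 1 + 1 = b by omega] at this
  obtain ⟨c, hc, hc1⟩ := h.exists_ne h01
  obtain ⟨c', hc', hc1'⟩ := h.exists_ne hlast
  set u := zOf z c with hu
  set t := zOf z c' with ht
  have hut : u ∈ Y z (w 0) := zOf_mem_Y hc
  have htt : t ∈ Y z (w b) := zOf_mem_Y hc'
  have hu_fix : u • w b = w b ∧ u • w (b - 1) = w (b - 1) :=
    ⟨Y_fix h hz hw.1 hA0 le_rfl hut, Y_fix h hz (hw.1.mono (Nat.sub_le b 1)) hA0 (by omega) hut⟩
  have ht_fix : t • w 0 = w 0 ∧ t • w 1 = w 1 := by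
    constructor
    · simpa [revW] using Y_fix h hz hr.1 hr.2.1 le_rfl (show t ∈ Y z (revW b w 0) by simpa [revW] using htt)
    · have := Y_fix h hz (hr.1.mono (Nat.sub_le b 1)) hr.2.1 (by omega)
        (show t ∈ Y z (revW b w 0) by simpa [revW] using htt)
      rwa [revW, show b - (b - 1) = 1 by omega] at this
  have hu_out : u ∉ Qv (w b) := crit_not_mem h hz hw hc hc1
  have ht_out : t ∉ Qv (w 0) := by
    have := crit_not_mem h hz hr (c := c') (by simpa [revW] using hc')
      (by simpa [revW, show b - 1 = b - 1 from rfl] using hc1')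
    simpa [revW] using this
  obtain ⟨e, hce, hec1, hec, -⟩ := h.third h01 hc hc1.symm
  obtain ⟨e', hce', hec1', hec', -⟩ := h.third hlast hc' hc1'.symm
  have e1 : t • c = e := h.swap h01 hc hce hc1 hec1 hec (mem_Ev.2 ht_fix) ht_out
  have e2 : u • c' = e' := h.swap hlast hc' hce' hc1' hec1' hec' (mem_Ev.2 hu_fix) hu_out
  have l : u * t * u * t = zOf z (w 1) := by
    have : t * u * t = zOf z e := by rw [← e1, zOf_smul h hz, ht, zOf_inv h hz]
    rw [show u * t * u * t = u * (t * u * t) by group, this, hu]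
    exact zOf_mul h hz hc hce h01 hA0 hec.symm hc1 hec1
  have r : u * t * u * t = zOf z (w (b - 1)) := by
    have : u * t * u = zOf z e' := by rw [← e2, zOf_smul h hz, hu, zOf_inv h hz]
    rw [this, ht]
    exact zOf_mul h hz hce' hc' hlast hAb hec' hec1' hc1'
  rw [← l, r]

theorem even_four (hb : 4 ≤ bz M₁ M₂ z) (he : Even (bz M₁ M₂ z)) : False := by
  set b := bz M₁ M₂ z with hbdef
  obtain ⟨w, hw⟩ := exists_crit h hz
  have hA0 := hw.2.1
  have hAb : IsA (w b) := by rw [hw.1.parity le_rfl]; tauto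
  have harc := crit_arc h hw
  have h01 := hw.1 0 (by omega)
  have hr := crit_rev h hz hw he
  -- a mover at an end of the first kind
  obtain ⟨y, hy, hyQ⟩ := SetLike.not_le_iff_exists.1 hw.2.2
  have extA : ∀ k ≤ b, Ext M₁ M₂ k True := fun k hk =>
    Ext.of_arc hk harc (fun i hi => Y_fix h hz (hw.1.mono hi) hA0 hi hy) hyQ (iff_true_intro hAb)
  -- a mover at an end of the second kind
  obtain ⟨x, hx, hx1⟩ := h.exists_ne h01
  have hBx : ¬ IsA x := by have := isA_flip hx; tauto
  obtain ⟨t, ht, htQ⟩ := SetLike.not_le_iff_exists.1 (crit_rev h hz hw he).2.2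
  have ht' : t ∈ Y z (w b) := by simpa [revW] using ht
  have htQ' : t ∉ Qv (w 0) := by simpa [revW] using htQ
  have htfix : ∀ i ≤ b, t • w i = w i := fun i hi => by
    have := Y_fix h hz (hr.1.mono (Nat.sub_le b i)) hr.2.1 (Nat.sub_le b i) ht
    rwa [revW, show b - (b - i) = i by omega] at this
  have htx : t • x ≠ x := h.move h01 hx hx1 (mem_Ev.2 ⟨htfix 0 (by omega), htfix 1 (by omega)⟩) htQ'
  have hle : Vd z x ≤ Qv (w (b - 2)) := by
    refine iSup₂_le fun μ hμ => ?_
    by_contra hn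
    have hμA : IsA μ := by have := isA_flip hμ; tauto
    have hwalk : Walk b (consW μ (consW x w)) := by
      have := (((hw.1.mono (Nat.sub_le b 2))).cons (v := x) hx.symm).cons (v := μ) hμ.symm
      rwa [show b - 2 + 1 + 1 = b by omega] at this
    have hcrit : Crit z (consW μ (consW x w)) := ⟨hwalk, hμA, by
      rw [show consW μ (consW x w) b = w (b - 2) by
        obtain ⟨j, hj⟩ : ∃ j, b = j + 2 := ⟨b - 2, by omega⟩
        rw [hj]; rfl]
      exact hn⟩
    have hR := crit_R h hz hcrit he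
    obtain ⟨j, hj⟩ : ∃ j, b = j + 3 := ⟨b - 3, by omega⟩
    rw [← hbdef, hj, show j + 3 - 1 = j + 2 by omega] at hR
    have hR' : zOf z x = zOf z (w j) := hR
    have h1 := zOf_smul h hz t x
    rw [hR', ← zOf_smul h hz t (w j), htfix j (by omega), ← hR'] at h1
    exact htx (zOf_inj h hz (adj_fix (mem_St.2 (htfix 0 (by omega))) hx) hx hA0 h1)
  have hfixV : ∀ i ≤ b - 1, ∀ u ∈ Vd z x, u • w i = w i := by
    intro i hi u hu
    rcases Nat.lt_or_ge i (b - 2) with hlt | hge
    · have := Vd_le_Q h hz (k := i + 1) (w := consW x w) ((hw.1.mono (by omega)).cons hx.symm) hBx (by omega) hu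
      exact mem_St.1 (Qv_le_St (w i) this)
    · rcases Nat.eq_or_lt_of_le hge with rfl | hgt
      · exact mem_St.1 (Qv_le_St _ (hle hu))
      · obtain rfl : i = b - 1 := by omega
        have hadj := hw.1 (b - 2) (by omega)
        rw [show b - 2 + 1 = b - 1 by omega] at hadj
        exact h.Qv_fix hadj (hle hu)
  have hlast : Adj (w b) (w (b - 1)) := by
    have := (hw.1 (b - 1) (by omega)).symm
    rwa [show b - 1 + 1 = b by omega] at this
  have hxQ0 : Vd z x ≤ Qv (w 0) := by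
    have := Vd_le_Q h hz (k := 1) (w := consW x w) ((hw.1.mono (by omega)).cons hx.symm) hBx (by omega)
    exact this
  obtain ⟨u, hu, hub⟩ : ∃ u ∈ Vd z x, u • w b ≠ w b := by
    by_contra! hall
    obtain ⟨c', hc', rfl⟩ : ∃ c', Adj (w b) c' ∧ t = zOf z c' := by
      rcases (mem_Y h hz hAb).1 ht' with rfl | e
      · exact absurd (one_mem _) htQ'
      · exact e
    have hR := crit_R h hz hw he
    have hnorm : ∀ v ∈ Vd z x, zOf z c' * v * (zOf z c')⁻¹ ∈ Vd z x := by
      intro v hv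
      have hv' := inv_mem hv
      have hvb := hall _ hv'
      have e : zOf z c' * v * (zOf z c')⁻¹ = zOf z c' * zOf z (v • c') * v := by
        rw [zOf_smul h hz, zOf_inv h hz]
        group
      rw [e]
      refine mul_mem ?_ hv
      have hadj : Adj (w b) (v • c') := adj_fix (mem_St.2 (by
        have := hall v hv; exact this)) hc'
      by_cases hd : v • c' = c'
      · rw [hd, zOf_sq h hz]; exact one_mem _
      · have hcl : c' ≠ w (b - 1) := fun ec => hd (by rw [ec]; exact hfixV _ le_rfl v hv)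
        have hvl : v • c' ≠ w (b - 1) := fun ec => hcl (smul_left_cancel v (ec.trans (hfixV _ le_rfl v hv).symm))
        rw [zOf_mul h hz hc' hadj hlast hAb (Ne.symm hd) hcl hvl, ← hR]
        exact z_mem_Vd hx.symm h01
    haveI := h.finite_Ev (w 0) x
    haveI : Finite ↥(Vd z x) :=
      Finite.of_injective _ (Subgroup.inclusion_injective (hxQ0.trans (h.Qv_le_Ev hx)))
    have hN : zOf z c' ∈ Subgroup.normalizer (Vd z x : Set X) :=
      Subgroup.mem_normalizer_fintype (S := (Vd z x : Set X)) hnorm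
    have hSt : St (w 0) ≤ Subgroup.normalizer (Vd z x : Set X) :=
      h.St_le hx ((inf_le_right : Ev (w 0) x ≤ St x).trans (St_le_normalizer_Vd h hz x)) hN
        (mem_St.2 (htfix 0 (by omega))) htx
    exact Vd_ne_bot h hz hx.symm hA0 (h.eq_bot_of_normal hx (hxQ0.trans (h.Qv_le_Ev hx)) hSt
      (St_le_normalizer_Vd h hz x))
  have harcx : Arc b (consW x w) := by
    have := (harc.mono (Nat.sub_le b 1)).cons (v := x) hx.symm fun _ => hx1
    rwa [show b - 1 + 1 = b by omega] at this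
  have huQ : u ∉ Qv (w (b - 1)) := fun hq => hub (h.Qv_fix hlast.symm hq)
  have hconsb : consW x w b = w (b - 1) := by
    obtain ⟨j, hj⟩ : ∃ j, b = j + 1 := ⟨b - 1, by omega⟩
    rw [hj]; rfl
  have extB : ∀ k ≤ b, Ext M₁ M₂ k False := fun k hk => by
    refine Ext.of_arc hk harcx (g := u) (fun i hi => ?_) (by rwa [hconsb]) ?_
    · cases i with
      | zero => exact mem_St.1 (Subgroup.mem_inf.1 (h.Qv_le_Ev hx (hxQ0 hu))).2
      | succ i => exact hfixV i (by omega) u hu
    · rw [hconsb, iff_false]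
      have := isA_flip hlast
      tauto
  have hT := trans_le h (K := b) (fun k hk1 hk2 => ⟨extA k (by omega), extB k (by omega)⟩) b le_rfl
  -- vary the last two vertices
  have hadj2 : Adj (w (b - 2)) (w (b - 1)) := by
    have := hw.1 (b - 2) (by omega)
    rwa [show b - 2 + 1 = b - 1 by omega] at this
  have hadj3 : Adj (w (b - 2)) (w (b - 3)) := by
    have := (hw.1 (b - 3) (by omega)).symm
    rwa [show b - 3 + 1 = b - 2 by omega] at this
  obtain ⟨d, hd, hd1, hd3, -⟩ := h.third hadj2 hadj3 (by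
    intro e; exact harc.2 (b - 3) (by omega) (by rw [show b - 3 + 2 = b - 1 by omega]; exact e.symm))
  obtain ⟨e, hde, hne⟩ := h.exists_ne hd.symm
  let w' : ℕ → CosetVertex M₁ M₂ := fun i => if i ≤ b - 2 then w i else if i = b - 1 then d else e
  have hw'arc : Arc b w' := by
    refine ⟨fun i hi => ?_, fun i hi => ?_⟩
    · simp only [w']
      by_cases h1 : i + 1 ≤ b - 2
      · rw [if_pos (by omega), if_pos h1]; exact hw.1 i (by omega)
      · by_cases h2 : i ≤ b - 2
        · obtain rfl : i = b - 2 := by omega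
          rw [if_pos le_rfl, if_neg (by omega), if_pos (by omega)]; exact hd
        · rw [if_neg h2, if_pos (by omega), if_neg (by omega), if_neg (by omega)]; exact hde
    · simp only [w']
      by_cases h1 : i + 2 ≤ b - 2
      · rw [if_pos (by omega), if_pos h1]; exact harc.2 i (by omega)
      · by_cases h2 : i + 2 = b - 1
        · rw [if_pos (by omega), if_neg (by omega), if_pos h2]
          obtain rfl : i = b - 3 := by omega
          exact hd3.symm
        · obtain rfl : i = b - 2 := by omega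
          rw [if_pos le_rfl, if_neg (by omega), if_neg (by omega)]; exact hne.symm
  have hw' := all_crit h hz hT hw'arc (by simpa [w'] using hA0)
  have hR := crit_R h hz hw he
  have hR' := crit_R h hz hw' he
  rw [← hbdef] at hR hR'
  simp only [w', if_pos (show 1 ≤ b - 2 by omega), if_neg (show ¬ b - 1 ≤ b - 2 by omega), if_pos] at hR'
  have hA2 : IsA (w (b - 2)) := by
    have h1 := isA_flip hlast
    have h2 := isA_flip hadj2
    tauto
  exact hd1 (zOf_inj h hz hd hadj2 hA2 (hR'.symm.trans hR))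

/-- The intersection of kernels over a ball is small when the critical distance is two. -/
theorem no_two (hb : bz M₁ M₂ z = 2) : False := by
  set α₀ : CosetVertex M₁ M₂ := Sum.inl ((1 : X) : X ⧸ M₁)
  have hα₀ : IsA α₀ := rfl
  obtain ⟨x, hx⟩ := exists_adj α₀
  obtain ⟨y, hy, hyx⟩ := h.exists_ne hx
  have hBy : ¬ IsA y := by have := isA_flip hy; tauto
  have hBx : ¬ IsA x := by have := isA_flip hx; tauto
  obtain ⟨μ, hμ, hμne⟩ := h.exists_ne hx.symm
  obtain ⟨ν, hν, hν1, hν2, hall⟩ := h.third hx.symm hμ hμne.symm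
  obtain ⟨lm, hlm, hlmne⟩ := h.exists_ne hy.symm
  obtain ⟨lm', hlm', hlm1, hlm2, hally⟩ := h.third hy.symm hlm hlmne.symm
  have hμA : IsA μ := by have := isA_flip hμ; tauto
  haveI := h.finite_Ev α₀ x
  haveI := h.finite_Qv x
  have hYout : ¬ Y z μ ≤ Qv α₀ := by
    have harc : Arc 2 (consW μ (consW x (fun _ => α₀))) := by
      refine Arc.cons (Arc.cons (k := 0) ⟨fun i hi => absurd hi (by omega), fun i hi => absurd hi (by omega)⟩
        hx.symm (fun h1 => absurd h1 (by omega))) hμ.symm fun _ => hμne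
    have hT := trans_three h 2 (by norm_num)
    rw [← hb] at hT harc
    have := (all_crit h hz hT harc hμA).2.2
    rwa [hb] at this
  -- the kernels on the balls of radius two
  set Cx := Qv x ⊓ Qv α₀ ⊓ Qv μ ⊓ Qv ν with hCx
  set Cy := Qv y ⊓ Qv α₀ ⊓ Qv lm ⊓ Qv lm' with hCy
  have hcentx : ∀ (c a b' : CosetVertex M₁ M₂), Adj c α₀ → Adj c a → Adj c b' → IsA a → IsA b' →
      (∀ d, Adj c d → d = α₀ ∨ d = a ∨ d = b') → ∀ g ∈ Qv c ⊓ Qv α₀ ⊓ Qv a ⊓ Qv b', ∀ v ∈ Vd z c,
      g * v = v * g := by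
    intro c a b' hcα hca hcb hAa hAb hall' g hg v hv
    have hle : Vd z c ≤ Subgroup.centralizer {g} := iSup₂_le fun d hd u hu => by
      rw [Subgroup.mem_centralizer_singleton_iff]
      rcases hall' d hd with rfl | rfl | rfl
      · exact (Y_comm_Qv h hz hα₀ hg.1.1.2 hu).symm
      · exact (Y_comm_Qv h hz hAa hg.1.2 hu).symm
      · exact (Y_comm_Qv h hz hAb hg.2 hu).symm
    exact (Subgroup.mem_centralizer_singleton_iff.1 (hle hv)).symm
  have hAν : IsA ν := by have := isA_flip hν; tauto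
  have hAlm : IsA lm := by have := isA_flip hlm; tauto
  have hAlm' : IsA lm' := by have := isA_flip hlm'; tauto
  set P := Cx ⊓ Cy with hP
  have hPbot : P = ⊥ := by
    by_contra hne
    -- `T = Q_α Y_μ` normalizes `P`
    have hTle : Ev α₀ x ≤ Subgroup.normalizer (P : Set X) := by
      obtain ⟨q, hq, hqQ⟩ := SetLike.not_le_iff_exists.1 hYout
      have hqE : q ∈ Ev α₀ x := (Ev_symm x α₀).le (h.Qv_le_Ev hx.symm (by
        have := le_Q (z := z) (k := 1) (w := consW μ (fun _ => x)) ((Walk.cons (k := 0) (fun i hi => absurd hi (by omega)) hμ.symm))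
          hμA (by omega) hq
        exact this))
      refine h.sup_Qv hx hqE hqQ ?_ ?_
      · refine Subgroup.le_normalizer_iff.2 fun g hg v hv => ?_
        have hgf : ∀ {c : CosetVertex M₁ M₂}, Adj α₀ c → g ∈ St c := fun hc => mem_St.2 (h.Qv_fix hc hg)
        have key : ∀ (c a b' : CosetVertex M₁ M₂), Adj α₀ c → Adj c a → Adj c b' →
            (∀ d, Adj c d → d = α₀ ∨ d = a ∨ d = b') → a ≠ α₀ → b' ≠ α₀ →
            v ∈ Qv c ⊓ Qv α₀ ⊓ Qv a ⊓ Qv b' → g * v * g⁻¹ ∈ Qv c ⊓ Qv α₀ ⊓ Qv a ⊓ Qv b' := by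
          intro c a b' hc hca hcb hall' hna hnb hv'
          have hgα : g • α₀ = α₀ := mem_St.1 (Qv_le_St α₀ hg)
          have hmem : ∀ d, Adj c d → v ∈ Qv d := fun d hd => by
            rcases hall' d hd with rfl | rfl | rfl
            exacts [hv'.1.1.2, hv'.1.2, hv'.2]
          have hpre : ∀ d, Adj c d → g * v * g⁻¹ ∈ Qv d := fun d hd => by
            have := conj_mem_map (h.Qv_smul g (g⁻¹ • d)) (hmem (g⁻¹ • d) (adj_fix (inv_mem (hgf hc)) hd))
            rwa [smul_inv_smul] at this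
          exact ⟨⟨⟨h.conj_mem_Qv (hgf hc) hv'.1.1.1, hpre α₀ hc.symm⟩, hpre a hca⟩, hpre b' hcb⟩
        exact ⟨key x μ ν hx hμ hν hall hμne hν1 hv.1, key y lm lm' hy hlm hlm' hally hlmne hlm1 hv.2⟩
      · refine (Subgroup.centralizer_le_normalizer _) ?_
        exact Subgroup.mem_centralizer_iff.2 fun v hv =>
          hcentx x μ ν hx.symm hμ hν hμA hAν hall v hv.1 q (Y_le_Vd hμ hq)
    have hPE : P ≤ Ev α₀ x := inf_le_left.trans
      (inf_le_left.trans (inf_le_left.trans (inf_le_right.trans (h.Qv_le_Ev hx))))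
    haveI : (P.subgroupOf (Ev α₀ x)).Normal :=
      (Subgroup.normal_subgroupOf_iff_le_normalizer hPE).2 hTle
    have hne' : Nontrivial ↥(P.subgroupOf (Ev α₀ x)) :=
      (Subgroup.nontrivial_iff_ne_bot _).2 fun e => hne (by
        rw [← Subgroup.map_subgroupOf_eq_of_le hPE, e, Subgroup.map_bot])
    obtain ⟨w₀, hw₀⟩ := exists_prime_orderOf_dvd_card' 2
      (show 2 ∣ Nat.card ↥(P.subgroupOf (Ev α₀ x) ⊓ Subgroup.center ↥(Ev α₀ x)) by
        have hnt := (haveI := (h.isPGroup_Ev hx).isNilpotent; Solvable.FrattiniFitting.inf_center_ne_bot _ (Subgroup.nontrivial_iff_ne_bot _ |>.1 hne'))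
        obtain ⟨n, hn⟩ := ((h.isPGroup_Ev hx).to_subgroup
          (P.subgroupOf (Ev α₀ x) ⊓ Subgroup.center ↥(Ev α₀ x))).exists_card_eq
        rw [hn]
        rcases n with _ | n
        · exact absurd (Subgroup.card_eq_one.1 (by rw [hn, pow_zero])) hnt
        · exact dvd_pow_self 2 n.succ_ne_zero)
    set wX : X := ((w₀ : ↥(Ev α₀ x)) : X) with hwX
    have hwmem := w₀.2
    have hwP : wX ∈ P := (Subgroup.mem_inf.1 hwmem).1
    have hwc : ∀ t ∈ Ev α₀ x, t * wX = wX * t := fun t ht =>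
      congrArg Subtype.val (Subgroup.mem_center_iff.1 (Subgroup.mem_inf.1 hwmem).2 ⟨t, ht⟩)
    have hw2 : wX * wX = 1 := by
      have := pow_orderOf_eq_one w₀
      rw [hw₀, pow_two] at this
      exact congrArg (fun s : ↥(P.subgroupOf (Ev α₀ x) ⊓ Subgroup.center ↥(Ev α₀ x)) => ((s : ↥(Ev α₀ x)) : X)) this
    have hwne : wX ≠ 1 := by
      intro e
      have : w₀ = 1 := Subtype.ext (Subtype.ext e)
      rw [this, orderOf_one] at hw₀
      norm_num at hw₀
    -- the stabilizers at both other neighbours centralize it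
    have hx' : ∀ g ∈ St x, g * wX = wX * g := fun g hg =>
      h.cent_edge hx hα₀ (hPE hwP) hw2 hwc hg
    obtain ⟨ly, hly, hlyQ⟩ : ∃ q ∈ Y z lm, q ∉ Qv α₀ := by
      have harc : Arc 2 (consW lm (consW y (fun _ => α₀))) := by
        refine Arc.cons (Arc.cons (k := 0) ⟨fun i hi => absurd hi (by omega), fun i hi => absurd hi (by omega)⟩
          hy.symm (fun h1 => absurd h1 (by omega))) hlm.symm fun _ => hlmne
      have hT := trans_three h 2 (by norm_num)
      rw [← hb] at hT harc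
      have := (all_crit h hz hT harc hAlm).2.2
      rw [hb] at this
      exact SetLike.not_le_iff_exists.1 this
    have hlyE : ly ∈ Ev α₀ y := (Ev_symm y α₀).le (h.Qv_le_Ev hy.symm (by
      have := le_Q (z := z) (k := 1) (w := consW lm (fun _ => y)) ((Walk.cons (k := 0) (fun i hi => absurd hi (by omega)) hlm.symm))
        hAlm (by omega) hly
      exact this))
    refine hwne (h.eq_one_of_cent hx hα₀ (hPE hwP) hw2 fun g hg => ?_)
    refine Subgroup.mem_centralizer_singleton_iff.1 (h.St_le hx (L := Subgroup.centralizer {wX})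
      (fun t ht => Subgroup.mem_centralizer_singleton_iff.2 (hwc t ht))
      (Subgroup.mem_centralizer_singleton_iff.2
        (hcentx y lm lm' hy.symm hlm hlm' hAlm hAlm' hally wX hwP.2 ly (Y_le_Vd hlm hly)).symm)
      (mem_St.2 (mem_Ev.1 hlyE).1) (h.move hy hx hyx.symm hlyE hlyQ) hg : g ∈ Subgroup.centralizer {wX})
  -- counting
  have e1 : Cx.relIndex (Qv x) ≤ 8 := by
    have a1 := h.relIndex_Qv_le hx (h.Qv_le_Ev' hx)
    have a2 := h.relIndex_Qv_le hμ.symm (h.Qv_le_Ev' hμ.symm)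
    have a3 := h.relIndex_Qv_le hν.symm (h.Qv_le_Ev' hν.symm)
    rw [hCx, show Qv x ⊓ Qv α₀ ⊓ Qv μ ⊓ Qv ν = (Qv α₀ ⊓ Qv x) ⊓ (Qv μ ⊓ Qv x) ⊓ (Qv ν ⊓ Qv x) by
      ext g; simp only [Subgroup.mem_inf]; tauto]
    calc _ ≤ _ := Subgroup.relIndex_inf_le
      _ ≤ _ := Nat.mul_le_mul (Subgroup.relIndex_inf_le.trans (Nat.mul_le_mul a1 a2)) a3
  have e2 : Nat.card Cx ≤ 8 := by
    haveI : Finite ↥Cx := Finite.of_injective _
      (Subgroup.inclusion_injective (inf_le_left.trans (inf_le_left.trans inf_le_left) : Cx ≤ Qv x))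
    have hCxy : Cx ≤ Ev y α₀ := (inf_le_left.trans (inf_le_left.trans inf_le_right)).trans
      ((h.Qv_le_Ev hy).trans (Ev_symm _ _).le)
    have a1 := h.relIndex_Qv_le hy.symm hCxy
    have b1 : Qv y ⊓ Cx ≤ Ev lm y := inf_le_left.trans (h.Qv_le_Ev' hlm.symm)
    have a2 := h.relIndex_Qv_le hlm.symm b1
    have b2 : Qv lm ⊓ (Qv y ⊓ Cx) ≤ Ev lm' y :=
      inf_le_right.trans (inf_le_left.trans (h.Qv_le_Ev' hlm'.symm))
    have a3 := h.relIndex_Qv_le hlm'.symm b2
    have hbot : Qv lm' ⊓ (Qv lm ⊓ (Qv y ⊓ Cx)) = ⊥ := by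
      rw [← le_bot_iff, ← hPbot]
      exact fun g hg => ⟨hg.2.2.2, ⟨⟨hg.2.2.1, hg.2.2.2.1.1.2⟩, hg.2.1⟩, hg.1⟩
    rw [← Subgroup.relIndex_bot_left, ← hbot,
      ← Subgroup.relIndex_mul_relIndex _ _ _ (inf_le_right : Qv lm' ⊓ (Qv lm ⊓ (Qv y ⊓ Cx)) ≤ _)
        ((inf_le_right : Qv lm ⊓ (Qv y ⊓ Cx) ≤ _).trans inf_le_right),
      ← Subgroup.relIndex_mul_relIndex _ _ _ (inf_le_right : Qv lm ⊓ (Qv y ⊓ Cx) ≤ _) inf_le_right]
    exact Nat.mul_le_mul a3 (Nat.mul_le_mul a2 a1)
  have e3 := Subgroup.relIndex_mul_relIndex ⊥ Cx (Qv x) bot_le (inf_le_left.trans (inf_le_left.trans inf_le_left))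
  have e4 := Subgroup.relIndex_mul_relIndex ⊥ (Qv x) (Ev α₀ x) bot_le (h.Qv_le_Ev' hx)
  simp only [Subgroup.relIndex_bot_left] at e3 e4
  rw [h.relIndex_Qv_Ev' hx] at e4
  have := h.card_Ev hx
  have e5 : Nat.card Cx * Cx.relIndex (Qv x) ≤ 8 * 8 := Nat.mul_le_mul e2 e1
  omega

end CfsgLib.LocalEven.AmalgamGold
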