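/-
Odd critical distance: every arc of critical length is critical, and neighbouring groups `V` meet in `Y`.
-/
import Cfsg.Agent.Lib.LocalEven.AmalgamGold.Arcs

set_option autoImplicit false
set_option linter.unusedSectionVars false
set_option linter.style.haveILetI false

namespace CfsgLib.LocalEven.AmalgamGold

open Cfsg CfsgLib.LocalEven.CosetGraph CfsgLib.LocalEven.SylowIn CfsgLib.LocalEven.Amalgam

variable {X : Type*} [Group X] {M₁ M₂ : Subgroup X} {z : X}

theorem not_isA {a c : CosetVertex M₁ M₂} (hac : Adj a c) (ha : IsA a) : ¬ IsA c := by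
  have := isA_flip hac; tauto

theorem isA_of_adj {c a : CosetVertex M₁ M₂} (hca : Adj c a) (hc : ¬ IsA c) : IsA a := by
  have := isA_flip hca; tauto

theorem consW_of_pos {v : CosetVertex M₁ M₂} {w : ℕ → CosetVertex M₁ M₂} {i : ℕ} (hi : 1 ≤ i) :
    consW v w i = w (i - 1) := by
  obtain ⟨j, rfl⟩ : ∃ j, i = j + 1 := ⟨i - 1, by omega⟩
  rfl

variable (h : Hyp M₁ M₂)
include h

theorem exists_arc_ext {k n : ℕ} {w : ℕ → CosetVertex M₁ M₂} (hw : Arc k w) :
    ∃ w' : ℕ → CosetVertex M₁ M₂, Arc (k + n) w' ∧ ∀ i ≤ k, w' i = w i := by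
  induction n with
  | zero => exact ⟨w, hw, fun i _ => rfl⟩
  | succ n ih =>
    obtain ⟨w', hw', he⟩ := ih
    obtain ⟨d, hd, hne⟩ : ∃ d, Adj (w' (k + n)) d ∧ (1 ≤ k + n → d ≠ w' (k + n - 1)) := by
      rcases Nat.eq_zero_or_pos (k + n) with h0 | hpos
      · obtain ⟨d, hd⟩ := exists_adj (w' (k + n))
        exact ⟨d, hd, fun h1 => by omega⟩
      · have hadj := (hw'.1 (k + n - 1) (by omega)).symm
        rw [show k + n - 1 + 1 = k + n by omega] at hadj
        obtain ⟨d, hd, hne⟩ := h.exists_ne hadj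
        exact ⟨d, hd, fun _ => hne⟩
    refine ⟨fun i => if i ≤ k + n then w' i else d, ⟨fun i hi => ?_, fun i hi => ?_⟩, fun i hi => ?_⟩
    · simp only
      by_cases h1 : i + 1 ≤ k + n
      · rw [if_pos (by omega), if_pos h1]; exact hw'.1 i (by omega)
      · obtain rfl : i = k + n := by omega
        rw [if_pos le_rfl, if_neg (by omega)]; exact hd
    · simp only
      by_cases h1 : i + 2 ≤ k + n
      · rw [if_pos (by omega), if_pos h1]; exact hw'.2 i h1
      · rw [if_pos (by omega), if_neg (by omega), show i = k + n - 1 by omega]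
        exact (hne (by omega)).symm
    · simp only
      rw [if_pos (by omega), he i hi]

variable (hz : Elt M₁ M₂ z)
include hz

theorem Y_inter {c a a' : CosetVertex M₁ M₂} (hca : Adj c a) (hca' : Adj c a') (ha : IsA a) (hne : a ≠ a')
    {u : X} (hu : u ∈ Y z a) (hu' : u ∈ Y z a') : u = 1 ∨ u = zOf z c := by
  have ha' : IsA a' := isA_of_adj hca' (not_isA hca.symm ha)
  rcases (mem_Y h hz ha).1 hu with e | ⟨d, hd, rfl⟩
  · exact Or.inl e
  by_cases hdc : d = c
  · exact Or.inr (by rw [hdc])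
  refine absurd (Y_inj h hz hca hca' ha ?_) hne
  rcases (mem_Y h hz ha').1 hu' with e | ⟨d', hd', e⟩
  · exact absurd e (zOf_ne_one h hz hd ha)
  have hd'c : d' ≠ c := fun e' => hdc (zOf_inj h hz hd hca.symm ha (by rw [e, e']))
  obtain ⟨f, hf, hfd, hfc, hall⟩ := h.third hd hca.symm hdc
  obtain ⟨f', hf', hfd', hfc', hall'⟩ := h.third hd' hca'.symm hd'c
  have e1 := zOf_mul h hz hd hca.symm hf ha hdc hfd.symm hfc.symm
  have e2 := zOf_mul h hz hd' hca'.symm hf' ha' hd'c hfd'.symm hfc'.symm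
  have eff : zOf z f = zOf z f' := by rw [← e1, ← e2, e]
  refine le_antisymm ((Subgroup.closure_le _).2 ?_) ((Subgroup.closure_le _).2 ?_)
  · rintro _ ⟨g, hg, rfl⟩
    rcases hall g hg with rfl | rfl | rfl
    · rw [e]; exact zOf_mem_Y hd'
    · exact zOf_mem_Y hca'.symm
    · rw [eff]; exact zOf_mem_Y hf'
  · rintro _ ⟨g, hg, rfl⟩
    rcases hall' g hg with rfl | rfl | rfl
    · rw [← e]; exact zOf_mem_Y hd
    · exact zOf_mem_Y hca.symm
    · rw [← eff]; exact zOf_mem_Y hf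

/-- Two conjugates at neighbours other than `x` differ at most by the one at `x`. -/
theorem zOf_class {μ x c c' : CosetVertex M₁ M₂} (hμx : Adj μ x) (hμ : IsA μ) (hc : Adj μ c) (hc' : Adj μ c')
    (hcx : c ≠ x) (hc'x : c' ≠ x) : zOf z c' = zOf z c ∨ zOf z c' = zOf z c * zOf z x := by
  by_cases e : c' = c
  · exact Or.inl (by rw [e])
  · exact Or.inr (zOf_mul h hz hc hμx hc' hμ hcx (Ne.symm e) hc'x.symm).symm

variable (hb : 3 ≤ bz M₁ M₂ z)
include hb

theorem Vd_le_Qv_nbr {c a : CosetVertex M₁ M₂} (hca : Adj c a) (ha : IsA a) : Vd z c ≤ Qv a :=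
  Vd_le_Q h hz (k := 1) (w := consW c (fun _ => a)) (Walk.cons (k := 0) (fun i hi => absurd hi (by omega)) hca)
    (not_isA hca.symm ha) (by omega)

theorem Vd_comm {c : CosetVertex M₁ M₂} (hc : ¬ IsA c) {u v : X} (hu : u ∈ Vd z c) (hv : v ∈ Vd z c) :
    u * v = v * u := by
  have hle : Vd z c ≤ Subgroup.centralizer {u} := iSup₂_le fun a ha y hy =>
    Subgroup.mem_centralizer_singleton_iff.2 (Y_comm_Qv h hz (isA_of_adj ha hc)
      (Vd_le_Qv_nbr h hz hb ha (isA_of_adj ha hc) hu) hy).symm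
  exact (Subgroup.mem_centralizer_singleton_iff.1 (hle hv)).symm

theorem Vd_sq {c : CosetVertex M₁ M₂} (hc : ¬ IsA c) {u : X} (hu : u ∈ Vd z c) : u * u = 1 := by
  let K : Subgroup X :=
    { carrier := {v | v ∈ Vd z c ∧ v * v = 1}
      one_mem' := ⟨one_mem _, one_mul 1⟩
      mul_mem' := fun {p q} hp hq => ⟨mul_mem hp.1 hq.1, by
        rw [mul_assoc, ← mul_assoc q, Vd_comm h hz hb hc hq.1 hp.1, mul_assoc p q q, hq.2, mul_one, hp.2]⟩
      inv_mem' := fun {p} hp => ⟨inv_mem hp.1, by rw [← mul_inv_rev, hp.2, inv_one]⟩ }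
  have hle : Vd z c ≤ K := iSup₂_le fun a ha y hy =>
    ⟨Y_le_Vd ha hy, Y_sq h hz (isA_of_adj ha hc) hy⟩
  exact (hle hu).2

/-- At a vertex of the second kind the kernels of the neighbours cut out different subgroups. -/
theorem nd_B {c a a' : CosetVertex M₁ M₂} (hca : Adj c a) (hca' : Adj c a') (hc : ¬ IsA c) (hne : a ≠ a') :
    ∃ t ∈ Qv c, t ∈ Qv a' ∧ t ∉ Qv a := by
  by_contra! hall
  obtain ⟨a'', hca'', ha1, ha2, hcases⟩ := h.third hca hca' hne
  have hA := isA_of_adj hca hc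
  have hA' := isA_of_adj hca' hc
  have hA'' := isA_of_adj hca'' hc
  haveI := h.finite_Qv c
  haveI : Finite ↥(Qv a' ⊓ Qv c : Subgroup X) :=
    Finite.of_injective _ (Subgroup.inclusion_injective inf_le_right)
  -- the three intersections are equal
  have heq : Qv a' ⊓ Qv c = Qv a ⊓ Qv c := by
    obtain ⟨g, hg, hgc, hga⟩ := h.trans2 hca hca' hne hca' hca hne.symm
    refine le_antisymm (fun t ht => ⟨hall t ht.2 ht.1, ht.2⟩) (le_of_eq (Eq.symm ?_))
    haveI : Finite ↥(Qv a ⊓ Qv c : Subgroup X) :=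
      Finite.of_injective _ (Subgroup.inclusion_injective inf_le_right)
    refine Subgroup.eq_of_le_of_card_ge (fun t ht => ⟨hall t ht.2 ht.1, ht.2⟩) (le_of_eq ?_)
    rw [show Qv a ⊓ Qv c = (Qv a' ⊓ Qv c).map (MulAut.conj g).toMonoidHom by
      rw [map_inf_conj, h.Qv_smul, h.Qv_smul, mem_St.1 hg, hga]]
    exact Subgroup.card_map_of_injective (MulAut.conj g).injective
  set K := Qv a ⊓ Qv c with hK
  have hnorm : ∀ {g : X} {d : CosetVertex M₁ M₂}, g ∈ St c → g • d = d → ∀ t ∈ Qv d ⊓ Qv c,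
      g * t * g⁻¹ ∈ Qv d ⊓ Qv c := fun {g d} hg hgd t ht =>
    ⟨h.conj_mem_Qv (mem_St.2 hgd) ht.1, h.conj_mem_Qv hg ht.2⟩
  have hKn : St c ≤ Subgroup.normalizer (K : Set X) := by
    refine h.St_le_two hca hca' hne ?_ ?_
    · exact Subgroup.le_normalizer_iff.2 fun g hg t ht =>
        hnorm (Subgroup.mem_inf.1 hg).1 (mem_Ev.1 hg).2 t ht
    · exact Subgroup.le_normalizer_iff.2 fun g hg t ht =>
        heq ▸ hnorm (Subgroup.mem_inf.1 hg).1 (mem_Ev.1 hg).2 t (heq.symm ▸ ht)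
  have hsame : ∀ {d : CosetVertex M₁ M₂}, Adj c d → ∀ t ∈ Qv c, (t ∈ Qv d ↔ t ∈ Qv a) := by
    intro d hd t ht
    obtain ⟨g, hg, rfl⟩ := neighbour_transitive hca hd
    have e : Qv (g • a) ⊓ Qv c = K := by
      rw [← (map_conj_eq_iff (T := K)).2 (hKn hg), hK, map_inf_conj, h.Qv_smul, h.Qv_smul, mem_St.1 hg]
    have := SetLike.ext_iff.1 e t
    rw [hK, Subgroup.mem_inf, Subgroup.mem_inf] at this
    tauto
  obtain ⟨τ, hτ, hτc⟩ := SetLike.not_le_iff_exists.1 (h.not_le_Qv hca''.symm)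
  have hτE : τ ∈ Ev c a'' := h.Qv_le_Ev' hca'' hτ
  have hτa : τ • a = a' := h.swap hca'' hca hca' ha1.symm ha2.symm hne.symm hτE hτc
  obtain ⟨c1, hc1, hc1c⟩ := h.exists_ne hca.symm
  set r₁ := zOf z c1 with hr₁
  set r₂ := zOf z (τ • c1) with hr₂
  have hτc1 : Adj a' (τ • c1) := hτa ▸ adj_smul τ hc1
  have hτc1c : τ • c1 ≠ c := fun e => hc1c (smul_left_cancel τ (e.trans (mem_Ev.1 hτE).1.symm))
  have h1 : r₁ ∈ Vd z c := z_mem_Vd hca hc1
  have h2 : r₂ ∈ Vd z c := z_mem_Vd hca' hτc1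
  set u := zOf z c with hu
  have huV : u ∈ Vd z c := z_mem_Vd hca hca.symm
  have hQ : ∀ t ∈ Qv c, t * (r₁ * r₂) = r₁ * r₂ * t := by
    intro t ht
    by_cases htK : t ∈ Qv a
    · have e1 := Y_comm_Qv h hz hA htK (zOf_mem_Y hc1 : r₁ ∈ Y z a)
      have e2 := Y_comm_Qv h hz hA' ((hsame hca' t ht).2 htK) (zOf_mem_Y hτc1 : r₂ ∈ Y z a')
      rw [← mul_assoc, e1, mul_assoc, e2, ← mul_assoc]
    · have key : ∀ {d d1 : CosetVertex M₁ M₂}, Adj c d → Adj d d1 → d1 ≠ c →
          t * zOf z d1 * t⁻¹ = zOf z d1 * u := by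
        intro d d1 hd hd1 hne1
        have hdA := isA_of_adj hd hc
        have htd : t ∉ Qv d := fun hq => htK ((hsame hd t ht).1 hq)
        obtain ⟨f, hf, hfc, hfd, -⟩ := h.third hd.symm hd1 hne1.symm
        have hsw : t • d1 = f := h.swap hd.symm hd1 hf hne1 hfc hfd (h.Qv_le_Ev' hd.symm ht) htd
        rw [← zOf_smul h hz, hsw, hu]
        exact (zOf_mul h hz hd1 hd.symm hf hdA hne1 hfd.symm hfc.symm).symm
      have e : t * (r₁ * r₂) * t⁻¹ = r₁ * r₂ := by
        rw [show t * (r₁ * r₂) * t⁻¹ = t * r₁ * t⁻¹ * (t * r₂ * t⁻¹) by group, key hca hc1 hc1c,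
          key hca' hτc1 hτc1c, mul_assoc, ← mul_assoc u, Vd_comm h hz hb hc huV h2, mul_assoc r₂, hu,
          zOf_sq h hz, mul_one]
      exact mul_inv_eq_iff_eq_mul.1 e
  have hττ : τ * τ ∈ Qv a := (hsame hca'' _ (h.mul_mem_Qv hca'' hτE hτE hτc hτc)).1 (mul_mem hτ hτ)
  have hτr : τ * (r₁ * r₂) = r₁ * r₂ * τ := by
    have e1 : τ * r₁ * τ⁻¹ = r₂ := by rw [hr₂, zOf_smul h hz]
    have e2 : τ * r₂ * τ⁻¹ = r₁ := by
      rw [← e1, show τ * (τ * r₁ * τ⁻¹) * τ⁻¹ = τ * τ * r₁ * (τ * τ)⁻¹ by group,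
        Y_comm_Qv h hz hA hττ (zOf_mem_Y hc1 : r₁ ∈ Y z a), mul_inv_cancel_right]
    have : τ * (r₁ * r₂) * τ⁻¹ = r₁ * r₂ := by
      rw [show τ * (r₁ * r₂) * τ⁻¹ = τ * r₁ * τ⁻¹ * (τ * r₂ * τ⁻¹) by group, e1, e2, Vd_comm h hz hb hc h2 h1]
    exact mul_inv_eq_iff_eq_mul.1 this
  have hT : ∀ t ∈ Ev c a'', t * (r₁ * r₂) = r₁ * r₂ * t := fun t ht => by
    refine Subgroup.mem_centralizer_singleton_iff.1 (h.sup_Qv hca'' hτE hτc
      (L := Subgroup.centralizer {r₁ * r₂}) ?_ (Subgroup.mem_centralizer_singleton_iff.2 hτr) ht)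
    exact fun q hq => Subgroup.mem_centralizer_singleton_iff.2 (hQ q hq)
  have hrE : r₁ * r₂ ∈ Ev a'' c := h.Qv_le_Ev hca''.symm (mul_mem (Vd_le_Qv_nbr h hz hb hca'' hA'' h1)
    (Vd_le_Qv_nbr h hz hb hca'' hA'' h2))
  have hSt := fun g hg => h.cent_edge hca''.symm hA'' hrE (Vd_sq h hz hb hc (mul_mem h1 h2))
    (fun t ht => hT t ((Ev_symm a'' c).le ht)) (g := g) hg
  obtain ⟨e, he, hec⟩ : ∃ e ∈ Ev c a, e ∉ Qv c := by
    by_contra! hall'
    have := h.relIndex_Qv_Ev hca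
    rw [Subgroup.relIndex_eq_one.2 hall'] at this
    omega
  have hea' : e • a' = a'' := h.swap hca hca' hca'' hne.symm ha1 ha2 he hec
  have hec' : e • c = c := (mem_Ev.1 he).1
  have e1 : Adj a (e • c1) := by
    have := adj_smul e hc1
    rwa [(mem_Ev.1 he).2] at this
  have e1c : e • c1 ≠ c := fun e' => hc1c (smul_left_cancel e (e'.trans hec'.symm))
  have e2 : Adj a'' (e • τ • c1) := hea' ▸ adj_smul e hτc1
  have e2c : e • τ • c1 ≠ c := fun e' => hτc1c (smul_left_cancel e (e'.trans hec'.symm))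
  have heq2 : r₁ * r₂ = zOf z (e • c1) * zOf z (e • τ • c1) := by
    rw [zOf_smul h hz e c1, zOf_smul h hz e (τ • c1), ← hr₁, ← hr₂,
      show e * r₁ * e⁻¹ * (e * r₂ * e⁻¹) = e * (r₁ * r₂) * e⁻¹ by group,
      hSt e (Subgroup.mem_inf.1 he).1, mul_inv_cancel_right]
  have hmem : r₂ ∈ Y z a'' := by
    rcases zOf_class h hz hca.symm hA hc1 e1 hc1c e1c with e' | e' <;> rw [e', ← hr₁] at heq2
    · rw [mul_left_cancel heq2]; exact zOf_mem_Y e2
    · rw [mul_assoc] at heq2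
      rw [mul_left_cancel heq2]
      exact mul_mem (zOf_mem_Y hca''.symm) (zOf_mem_Y e2)
  rcases Y_inter h hz hca' hca'' hA' ha2.symm (zOf_mem_Y hτc1) hmem with e' | e'
  · exact zOf_ne_one h hz hτc1 hA' e'
  · exact hτc1c (zOf_inj h hz hτc1 hca'.symm hA' e')

/-- Two neighbours' kernels generate the stabilizer. -/
theorem St_le_kernels {c a a' : CosetVertex M₁ M₂} (hca : Adj c a) (hca' : Adj c a') (hc : ¬ IsA c) (hne : a ≠ a')
    {L : Subgroup X} (hL : Qv a ≤ L) (hL' : Qv a' ≤ L) : St c ≤ L := by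
  obtain ⟨k, hkc, hka', hka⟩ := nd_B h hz hb hca hca' hc hne
  have hQc : Qv c ≤ L := fun t ht => by
    by_cases hta : t ∈ Qv a
    · exact hL hta
    · have := mul_mem (hL (h.mul_mem_Qv hca.symm (h.Qv_le_Ev' hca.symm ht) (h.Qv_le_Ev' hca.symm hkc) hta hka))
        (inv_mem (hL' hka'))
      rwa [mul_inv_cancel_right] at this
  have key : ∀ {d : CosetVertex M₁ M₂}, Adj c d → Qv d ≤ L → Ev c d ≤ L := fun {d} hd hd' => by
    obtain ⟨g, hg, hgc⟩ := SetLike.not_le_iff_exists.1 (h.not_le_Qv hd.symm)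
    exact h.sup_Qv hd (h.Qv_le_Ev' hd hg) hgc hQc (hd' hg)
  exact h.St_le_two hca hca' hne (key hca hL) (key hca' hL')

variable (ho : Odd (bz M₁ M₂ z))
include ho

theorem crit_end {w : ℕ → CosetVertex M₁ M₂} (hw : Crit z w) : ¬ IsA (w (bz M₁ M₂ z)) := by
  rw [hw.1.parity le_rfl]
  have := hw.2.1
  have := Nat.not_even_iff_odd.2 ho
  tauto

theorem rev_shift {w : ℕ → CosetVertex M₁ M₂} (hw : Crit z w) :
    ∃ μ, Adj (w (bz M₁ M₂ z)) μ ∧ Crit z (consW μ (revW (bz M₁ M₂ z) w)) := by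
  set b := bz M₁ M₂ z with hbdef
  by_contra hcon
  push Not at hcon
  have hA0 := hw.2.1
  have harc := crit_arc h hw
  have hBb : ¬ IsA (w b) := crit_end h hz hb ho hw
  have hrev : Walk (b - 1) (revW b w) := hw.1.rev.mono (Nat.sub_le b 1)
  have hwalk : ∀ {μ}, Adj (w b) μ → Walk b (consW μ (revW b w)) := fun {μ} hμ => by
    have := hrev.cons (v := μ) (by simpa [revW] using hμ.symm)
    rwa [show b - 1 + 1 = b by omega] at this
  have hend : ∀ μ, consW μ (revW b w) b = w 1 := fun μ => by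
    rw [consW_of_pos (by omega), revW, show b - (b - 1) = 1 by omega]
  have hle : ∀ {μ}, Adj (w b) μ → Y z μ ≤ Qv (w 1) := fun {μ} hμ => by
    by_contra hn
    exact hcon μ hμ ⟨hwalk hμ, isA_of_adj hμ hBb, by rwa [← hbdef, hend]⟩
  have h01 := hw.1 0 (by omega)
  have hlast : Adj (w b) (w (b - 1)) := by
    have := (hw.1 (b - 1) (by omega)).symm
    rwa [show b - 1 + 1 = b by omega] at this
  obtain ⟨u, hu, huQ⟩ := SetLike.not_le_iff_exists.1 hw.2.2
  have hufix : ∀ i ≤ b, u • w i = w i := fun i hi => Y_fix h hz (hw.1.mono hi) hA0 hi hu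
  obtain ⟨μ, hμ, hμne⟩ := h.exists_ne hlast
  have huμ : u • μ ≠ μ := h.move hlast hμ hμne (mem_Ev.2 ⟨hufix b le_rfl, hufix (b - 1) (by omega)⟩) huQ
  have hμA := isA_of_adj hμ hBb
  obtain ⟨v, hv, hvu⟩ : ∃ v ∈ Y z μ, u * v * u⁻¹ ≠ v := by
    by_contra! hall
    refine huμ (Y_inj h hz (adj_fix (mem_St.2 (hufix b le_rfl)) hμ) hμ ((isA_smul u μ).2 hμA) ?_)
    rw [← Y_smul h hz]
    refine le_antisymm ?_ fun y hy => ⟨y, hy, hall y hy⟩
    rintro _ ⟨y, hy, rfl⟩
    show u * y * u⁻¹ ∈ Y z μ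
    rw [hall y hy]; exact hy
  have hvfix : ∀ i ≤ b, v • w i = w i := fun i hi => by
    rcases Nat.eq_zero_or_pos i with rfl | hpos
    · exact h.Qv_fix h01.symm (hle hμ hv)
    · have := Y_fix h hz ((hwalk hμ).mono (show b - i + 1 ≤ b by omega)) hμA (by omega) hv
      rwa [show consW μ (revW b w) (b - i + 1) = w (b - (b - i)) from rfl, show b - (b - i) = i by omega] at this
  have hvQ : v ∉ Qv (w 0) := fun hq => hvu (by
    rw [← Y_comm_Qv h hz hA0 hq hu, mul_inv_cancel_right])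
  have extA : ∀ k ≤ b, Ext M₁ M₂ k True := fun k hk =>
    Ext.of_arc hk harc.rev (g := v) (fun i hi => hvfix _ (Nat.sub_le b i)) (by simpa [revW, hbdef] using hvQ)
      (by simpa [revW, hbdef] using hA0)
  have extB : ∀ k ≤ b, Ext M₁ M₂ k False := fun k hk =>
    Ext.of_arc hk harc hufix huQ (iff_false_intro hBb)
  have hT := trans_le h (K := b) (fun k _ hk => ⟨extA k hk.le, extB k hk.le⟩) b le_rfl
  refine hcon μ hμ (all_crit h hz hT ?_ hμA)
  have harc' : Arc (b - 1) (revW b w) := harc.rev.mono (Nat.sub_le b 1)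
  have := harc'.cons (v := μ) (by simpa [revW] using hμ.symm) (fun _ => by simpa [revW] using hμne)
  rwa [show b - 1 + 1 = b by omega] at this

omit hz hb ho in
/-- A pair of vertices of the second kind at distance `b - 1` whose groups act on each other. -/
def Mut (z : X) (x : ℕ → CosetVertex M₁ M₂) : Prop :=
  Arc (bz M₁ M₂ z - 1) x ∧ ¬ IsA (x 0) ∧ ¬ Vd z (x 0) ≤ Qv (x (bz M₁ M₂ z - 1))

theorem mut_end {x : ℕ → CosetVertex M₁ M₂} (hx : Mut z x) : ¬ IsA (x (bz M₁ M₂ z - 1)) := by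
  rw [hx.1.1.parity le_rfl]
  obtain ⟨j, hj⟩ := ho
  have : Even (bz M₁ M₂ z - 1) := ⟨j, by omega⟩
  have := hx.2.1
  tauto

theorem mut_of_crit {w : ℕ → CosetVertex M₁ M₂} (hw : Crit z w) : Mut z (fun i => w (i + 1)) := by
  have h01 := hw.1 0 (by omega)
  refine ⟨(crit_arc h hw).drop (by omega), not_isA h01 hw.2.1, fun hle => hw.2.2 ?_⟩
  have := (Y_le_Vd (z := z) h01.symm).trans hle
  beta_reduce at this
  rwa [show bz M₁ M₂ z - 1 + 1 = bz M₁ M₂ z by omega] at this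

theorem mut_rev {x : ℕ → CosetVertex M₁ M₂} (hx : Mut z x) : Mut z (revW (bz M₁ M₂ z - 1) x) := by
  obtain ⟨μ, hμ, hn⟩ : ∃ μ, Adj (x 0) μ ∧ ¬ Y z μ ≤ Qv (x (bz M₁ M₂ z - 1)) := by
    by_contra! hall
    exact hx.2.2 (iSup₂_le hall)
  have hwalk : Walk (bz M₁ M₂ z) (consW μ x) := by
    have := hx.1.1.cons hμ.symm
    rwa [show bz M₁ M₂ z - 1 + 1 = bz M₁ M₂ z by omega] at this
  have hw : Crit z (consW μ x) := ⟨hwalk, isA_of_adj hμ hx.2.1, by rwa [consW_of_pos (show 1 ≤ bz M₁ M₂ z by omega)]⟩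
  obtain ⟨ν, hν, hν'⟩ := rev_shift h hz hb ho hw
  rw [consW_of_pos (show 1 ≤ bz M₁ M₂ z by omega)] at hν
  refine ⟨hx.1.rev, by simpa [revW] using mut_end h hz hb ho hx, fun hle => hν'.2.2 ?_⟩
  simp only [revW, Nat.sub_zero, Nat.sub_self] at hle
  rw [consW_of_pos (show 1 ≤ bz M₁ M₂ z by omega), revW,
    consW_of_pos (show 1 ≤ bz M₁ M₂ z - (bz M₁ M₂ z - 1) by omega),
    show bz M₁ M₂ z - (bz M₁ M₂ z - 1) - 1 = 0 by omega]
  exact (Y_le_Vd hν).trans hle

theorem mut_crit {x : ℕ → CosetVertex M₁ M₂} (hx : Mut z x) {μ : CosetVertex M₁ M₂} (hμ : Adj (x 0) μ)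
    (hne : μ ≠ x 1) : Crit z (consW μ x) := by
  set b := bz M₁ M₂ z with hbdef
  have hx0 := hx.1.1 0 (by omega)
  obtain ⟨μ₁, hμ₁, hn⟩ : ∃ μ, Adj (x 0) μ ∧ ¬ Y z μ ≤ Qv (x (b - 1)) := by
    by_contra! hall
    exact hx.2.2 (iSup₂_le hall)
  have hw : Crit z (consW μ₁ x) := by
    refine ⟨?_, isA_of_adj hμ₁ hx.2.1, by rwa [← hbdef, consW_of_pos (show 1 ≤ b by omega)]⟩
    have := hx.1.1.cons hμ₁.symm
    rwa [show b - 1 + 1 = b by omega] at this
  have hμ₁1 : μ₁ ≠ x 1 := by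
    have := (crit_arc h hw).2 0 (by omega)
    exact this
  by_cases he : μ = μ₁
  · rw [he]; exact hw
  obtain ⟨ν, hν, hν'⟩ := rev_shift h hz hb ho hw
  obtain ⟨t, ht, htQ⟩ := SetLike.not_le_iff_exists.1 hν'.2.2
  have htfix : ∀ i ≤ b - 1, t • x i = x i := fun i hi => by
    have := Y_fix h hz (hν'.1.mono (show b - 1 - i + 1 ≤ b by omega)) hν'.2.1 (by omega) ht
    rw [show consW ν (revW b (consW μ₁ x)) (b - 1 - i + 1) = consW μ₁ x (b - (b - 1 - i)) from rfl,
      consW_of_pos (by omega), show b - (b - 1 - i) - 1 = i by omega] at this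
    exact this
  have htx : t ∉ Qv (x 0) := by
    rw [← hbdef, consW_of_pos (by omega), revW, consW_of_pos (by omega),
      show b - (b - 1) - 1 = 0 by omega] at htQ
    exact htQ
  have hswap : t • μ₁ = μ := h.swap hx0 hμ₁ hμ hμ₁1 hne he
    (mem_Ev.2 ⟨htfix 0 (by omega), htfix 1 (by omega)⟩) htx
  refine crit_congr (crit_smul h hz hw t) fun i hi => ?_
  cases i with
  | zero => exact hswap
  | succ i => exact htfix i (by omega)

/-- Shifting a critical walk backwards by two. -/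
theorem shift {w : ℕ → CosetVertex M₁ M₂} (hw : Crit z w) {x : CosetVertex M₁ M₂} (hx : Adj (w 0) x)
    (hx1 : x ≠ w 1) : ¬ Vd z x ≤ Qv (w (bz M₁ M₂ z - 2)) := by
  set b := bz M₁ M₂ z with hbdef
  have hA0 := hw.2.1
  have harc := crit_arc h hw
  have hBb : ¬ IsA (w b) := crit_end h hz hb ho hw
  have h01 := hw.1 0 (by omega)
  have hadj2 : Adj (w (b - 2)) (w (b - 1)) := by
    have := hw.1 (b - 2) (by omega)
    rwa [show b - 2 + 1 = b - 1 by omega] at this
  have hlast : Adj (w (b - 1)) (w b) := by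
    have := hw.1 (b - 1) (by omega)
    rwa [show b - 1 + 1 = b by omega] at this
  -- both kinds of movers give a contradiction
  obtain ⟨y₀, hy₀, hy₀Q⟩ := SetLike.not_le_iff_exists.1 hw.2.2
  have full : (∀ k ≤ b, Ext M₁ M₂ k True) → ∀ x', Adj (w 0) x' → x' ≠ w 1 → ¬ Vd z x' ≤ Qv (w (b - 2)) := by
    intro extA x' hx' hx'1 hle
    have extB : ∀ k ≤ b, Ext M₁ M₂ k False := fun k hk =>
      Ext.of_arc hk harc (fun i hi => Y_fix h hz (hw.1.mono hi) hA0 hi hy₀) hy₀Q (iff_false_intro hBb)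
    have hT := trans_le h (K := b) (fun k _ hk => ⟨extA k hk.le, extB k hk.le⟩) b le_rfl
    obtain ⟨μ, hμ, hμ1⟩ := h.exists_ne hx'.symm
    have harc' : Arc b (consW μ (consW x' w)) := by
      have := ((harc.mono (Nat.sub_le b 2)).cons (v := x') hx'.symm fun _ => hx'1).cons (v := μ) hμ.symm
        fun _ => hμ1
      rwa [show b - 2 + 1 + 1 = b by omega] at this
    refine (all_crit h hz hT harc' (isA_of_adj hμ (not_isA hx' hA0))).2.2 ?_
    rw [← hbdef, consW_of_pos (show 1 ≤ b by omega), consW_of_pos (show 1 ≤ b - 1 by omega), show b - 1 - 1 = b - 2 by omega]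
    exact (Y_le_Vd hμ).trans hle
  intro hle
  -- elements of the shifted group fix the walk
  have fixes : ∀ x', Adj (w 0) x' → x' ≠ w 1 → Vd z x' ≤ Qv (w (b - 2)) → ∀ u ∈ Vd z x',
      u • x' = x' ∧ ∀ i ≤ b - 1, u • w i = w i := by
    intro x' hx' hx'1 hle' u hu
    have hBx := not_isA hx' hA0
    refine ⟨mem_St.1 (Subgroup.mem_inf.1 (h.Qv_le_Ev hx' (Vd_le_Qv_nbr h hz hb hx'.symm hA0 hu))).2,
      fun i hi => ?_⟩
    rcases Nat.lt_or_ge i (b - 2) with hlt | hge
    · exact mem_St.1 (Qv_le_St _ (Vd_le_Q h hz (k := i + 1) (w := consW x' w)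
        ((hw.1.mono (show i ≤ b by omega)).cons hx'.symm) hBx (by omega) hu))
    · rcases Nat.eq_or_lt_of_le hge with rfl | hgt
      · exact mem_St.1 (Qv_le_St _ (hle' hu))
      · obtain rfl : i = b - 1 := by omega
        exact h.Qv_fix hadj2 (hle' hu)
  have step1 : ∀ x', Adj (w 0) x' → x' ≠ w 1 → Vd z x' ≤ Qv (w (b - 2)) → Vd z x' ≤ Qv (w (b - 1)) := by
    intro x' hx' hx'1 hle' u hu
    by_contra huQ
    obtain ⟨hux, hufix⟩ := fixes x' hx' hx'1 hle' u hu
    refine full (fun k hk => ?_) x' hx' hx'1 hle'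
    have harc' : Arc b (consW x' w) := by
      have := (harc.mono (Nat.sub_le b 1)).cons (v := x') hx'.symm fun _ => hx'1
      rwa [show b - 1 + 1 = b by omega] at this
    refine Ext.of_arc hk harc' (g := u) (fun i hi => ?_) (by rwa [consW_of_pos (by omega)]) ?_
    · cases i with
      | zero => exact hux
      | succ i => exact hufix i (by omega)
    · rw [consW_of_pos (by omega), iff_true]
      exact isA_of_adj hlast.symm hBb
  have step2 : ∀ x', Adj (w 0) x' → x' ≠ w 1 → Vd z x' ≤ Qv (w (b - 2)) →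
      ∀ u ∈ Vd z x', u ∈ Qv (w b) → ∀ v ∈ Vd z (w b), u * v = v * u := by
    intro x' hx' hx'1 hle' u hu huQ v hv
    have hle1 := step1 x' hx' hx'1 hle'
    suffices hcent : Vd z (w b) ≤ Subgroup.centralizer {u} from
      (Subgroup.mem_centralizer_singleton_iff.1 (hcent hv)).symm
    refine iSup₂_le fun μ hμ y hy => Subgroup.mem_centralizer_singleton_iff.2 ?_
    have hμA := isA_of_adj hμ hBb
    by_contra hne
    have huμ : u • μ = μ := h.Qv_fix hμ huQ
    have huQμ : u ∉ Qv μ := fun hq => hne (Y_comm_Qv h hz hμA hq hy).symm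
    have hμne : μ ≠ w (b - 1) := fun e => huQμ (e ▸ hle1 hu)
    obtain ⟨-, hufix⟩ := fixes x' hx' hx'1 hle' u hu
    refine full (fun k hk => ?_) x' hx' hx'1 hle'
    let m : ℕ → CosetVertex M₁ M₂ := fun i => if i ≤ b - 1 then w (i + 1) else μ
    have harc' : Arc b m := by
      refine ⟨fun i hi => ?_, fun i hi => ?_⟩
      · simp only [m]
        by_cases h1 : i + 1 ≤ b - 1
        · rw [if_pos (by omega), if_pos h1]; exact hw.1 (i + 1) (by omega)
        · rw [if_pos (by omega), if_neg h1, show i + 1 = b by omega]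
          exact hμ
      · simp only [m]
        by_cases h1 : i + 2 ≤ b - 1
        · rw [if_pos (by omega), if_pos h1]; exact harc.2 (i + 1) (by omega)
        · rw [if_pos (by omega), if_neg h1, show i + 1 = b - 1 by omega]
          exact hμne.symm
    refine Ext.of_arc hk harc' (g := u) (fun i hi => ?_) ?_ ?_
    · simp only [m]
      by_cases h1 : i ≤ b - 1
      · rw [if_pos h1]
        rcases Nat.lt_or_ge (i + 1) b with hlt | hge
        · exact hufix (i + 1) (by omega)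
        · rw [show i + 1 = b by omega]; exact mem_St.1 (Qv_le_St _ huQ)
      · rw [if_neg h1]; exact huμ
    · simp only [m]; rw [if_neg (by omega)]; exact huQμ
    · simp only [m]; rw [if_neg (by omega), iff_true]; exact hμA
  obtain ⟨x₂, hx₂, hx₂1, hx₂x, hall⟩ := h.third h01 hx hx1.symm
  obtain ⟨g, hgE, hgQ⟩ : ∃ g ∈ Ev (w 0) (w 1), g ∉ Qv (w 0) := by
    by_contra! hall'
    have := h.relIndex_Qv_Ev h01
    rw [Subgroup.relIndex_eq_one.2 hall'] at this
    omega
  have hgx : g • x = x₂ := h.swap h01 hx hx₂ hx1 hx₂1 hx₂x hgE hgQ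
  set W : Subgroup X := Vd z x ⊔ Vd z (w 1) with hW
  have hWQ : W ≤ Qv (w 0) := sup_le (Vd_le_Qv_nbr h hz hb hx.symm hA0) (Vd_le_Qv_nbr h hz hb h01.symm hA0)
  haveI := h.finite_Qv (w 0)
  haveI : Finite ↥W := Finite.of_injective _ (Subgroup.inclusion_injective hWQ)
  obtain ⟨ν, hν, hν'⟩ := rev_shift h hz hb ho hw
  obtain ⟨v, hv, hvQ⟩ := SetLike.not_le_iff_exists.1 hν'.2.2
  rw [← hbdef, consW_of_pos (by omega), revW, show b - (b - 1) = 1 by omega] at hvQ
  have hvfix : ∀ i, 1 ≤ i → i ≤ b → v • w i = w i := fun i hi hib => by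
    have := Y_fix h hz (hν'.1.mono (show b - i + 1 ≤ b by omega)) hν'.2.1 (by omega) hv
    rw [show consW ν (revW b w) (b - i + 1) = w (b - (b - i)) from rfl, show b - (b - i) = i by omega] at this
    exact this
  have hvV : v ∈ Vd z (w b) := Y_le_Vd hν hv
  have h12 := hw.1 1 (by omega)
  have hv0 : v • w 0 ≠ w 0 := h.move h12 h01.symm (harc.2 0 (by omega))
    (mem_Ev.2 ⟨hvfix 1 le_rfl (by omega), hvfix 2 (by omega) (by omega)⟩) hvQ
  have hv1 : v • w 1 = w 1 := hvfix 1 le_rfl (by omega)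
  -- `v` normalizes `W`
  have hvW : v ∈ Subgroup.normalizer (W : Set X) := by
    have hBx := not_isA hx hA0
    have hc : zOf z x ∉ Qv (w b) := crit_not_mem h hz hw hx hx1
    have key : ∀ u ∈ Vd z x, v * u * v⁻¹ ∈ W := by
      intro u hu
      have hzV : zOf z x ∈ Vd z (w 1) := z_mem_Vd h01.symm hx
      have hzx : zOf z x ∈ Vd z x := z_mem_Vd hx.symm hx
      by_cases huQ : u ∈ Qv (w b)
      · rw [← step2 x hx hx1 hle u hu huQ v hvV, mul_inv_cancel_right]
        exact Subgroup.mem_sup_left hu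
      · have hu1 : u ∈ Ev (w b) (w (b - 1)) :=
          (Ev_symm _ _).le (h.Qv_le_Ev hlast (step1 x hx hx1 hle hu))
        have hz1 : zOf z x ∈ Ev (w b) (w (b - 1)) :=
          (Ev_symm _ _).le (h.Qv_le_Ev hlast (step1 x hx hx1 hle hzx))
        have hu0 : zOf z x * u ∈ Qv (w b) := h.mul_mem_Qv hlast.symm hz1 hu1 hc huQ
        have hcomm := step2 x hx hx1 hle _ (mul_mem hzx hu) hu0 v hvV
        have e : v * u * v⁻¹ = v * zOf z x * v⁻¹ * zOf z x * u := by
          calc v * u * v⁻¹ = v * ((zOf z x * zOf z x) * u) * v⁻¹ := by rw [zOf_sq h hz, one_mul]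
            _ = v * zOf z x * ((zOf z x * u) * v⁻¹) := by group
            _ = v * zOf z x * (v⁻¹ * (v * (zOf z x * u)) * v⁻¹) := by group
            _ = _ := by rw [← hcomm]; group
        rw [e]
        exact mul_mem (Subgroup.mem_sup_right (mul_mem (conj_mem_Vd h hz hv1 hzV) hzV)) (Subgroup.mem_sup_left hu)
    refine (map_conj_eq_iff (T := W)).1 (Subgroup.eq_of_le_of_card_ge ?_
      (Subgroup.card_map_of_injective (MulAut.conj v).injective).ge)
    rw [hW, Subgroup.map_sup]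
    refine sup_le ?_ ?_
    · rintro _ ⟨u, hu, rfl⟩
      exact key u hu
    · rw [Vd_smul h hz, hv1]
      exact le_sup_right
  have hQa : Qv (w 0) ≤ Subgroup.normalizer (W : Set X) := fun q hq => by
    refine (map_conj_eq_iff (T := W)).1 ?_
    rw [hW, Subgroup.map_sup, Vd_smul h hz, Vd_smul h hz, h.Qv_fix hx hq, h.Qv_fix h01 hq]
  have hQa' : Qv (v • w 0) ≤ Subgroup.normalizer (W : Set X) := fun q hq => by
    have := mul_mem (mul_mem hvW (hQa (h.mem_Qv_smul.1 hq))) (inv_mem hvW)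
    rwa [show v * (v⁻¹ * q * v) * v⁻¹ = q by group] at this
  have hSt1 : St (w 1) ≤ Subgroup.normalizer (W : Set X) :=
    St_le_kernels h hz hb h01.symm (adj_fix (mem_St.2 hv1) h01.symm) (not_isA h01 hA0) (Ne.symm hv0) hQa hQa'
  have hgW := (map_conj_eq_iff (T := W)).2 (hSt1 (Subgroup.mem_inf.1 hgE).2)
  have hWeq : W = ⨆ (c : CosetVertex M₁ M₂) (_ : Adj (w 0) c), Vd z c := by
    refine le_antisymm (sup_le (le_iSup₂_of_le x hx le_rfl) (le_iSup₂_of_le (w 1) h01 le_rfl))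
      (iSup₂_le fun c hc => ?_)
    rcases hall c hc with rfl | rfl | rfl
    · exact le_sup_right
    · exact le_sup_left
    · rw [← hgW, hW, Subgroup.map_sup, Vd_smul h hz, hgx]
      exact le_sup_left
  have hSt0 : St (w 0) ≤ Subgroup.normalizer (W : Set X) := by
    rw [hWeq]
    refine le_normalizer_of_map_conj fun k hk => ?_
    simp only [Subgroup.map_iSup, Vd_smul h hz]
    refine le_antisymm (iSup₂_le fun c hc => le_iSup₂_of_le (k • c) (adj_fix hk hc) le_rfl)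
      (iSup₂_le fun c hc => le_iSup₂_of_le (k⁻¹ • c) (adj_fix (inv_mem hk) hc) ?_)
    rw [smul_inv_smul]
  have hbot := h.eq_bot_of_normal h01 (hWQ.trans (h.Qv_le_Ev h01)) hSt0 hSt1
  exact Vd_ne_bot h hz h01.symm hA0 (le_bot_iff.1 (hbot ▸ (le_sup_right : Vd z (w 1) ≤ W)))

theorem exists_mut : ∃ x : ℕ → CosetVertex M₁ M₂, Mut z x :=
  let ⟨_, hw⟩ := exists_crit h hz
  ⟨_, mut_of_crit h hz hb ho hw⟩

/-- Shifting a pair backwards. -/
theorem mut_back {x : ℕ → CosetVertex M₁ M₂} (hx : Mut z x) {q p : CosetVertex M₁ M₂} (hq : Adj (x 0) q)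
    (hq1 : q ≠ x 1) (hp : Adj q p) (hp0 : p ≠ x 0) : Mut z (consW p (consW q x)) := by
  set b := bz M₁ M₂ z with hbdef
  have hcrit := mut_crit h hz hb ho hx hq hq1
  refine ⟨?_, not_isA hp (isA_of_adj hq hx.2.1), fun hle => shift h hz hb ho hcrit hp hp0 ?_⟩
  · have := ((hx.1.mono (show b - 3 ≤ b - 1 by omega)).cons hq.symm fun _ => hq1).cons (v := p) hp.symm
      fun _ => hp0
    rwa [show b - 3 + 1 + 1 = b - 1 by omega] at this
  · rw [← hbdef, consW_of_pos (show 1 ≤ b - 1 by omega), show b - 1 - 1 = b - 2 by omega] at hle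
    exact hle

omit hz hb ho in
theorem mut_congr {x x' : ℕ → CosetVertex M₁ M₂} (hx : Mut z x) (he : ∀ i ≤ bz M₁ M₂ z - 1, x i = x' i) :
    Mut z x' := by
  refine ⟨⟨fun i hi => ?_, fun i hi => ?_⟩, ?_, ?_⟩
  · rw [← he i (by omega), ← he (i + 1) (by omega)]; exact hx.1.1 i hi
  · rw [← he i (by omega), ← he (i + 2) hi]; exact hx.1.2 i hi
  · rw [← he 0 (by omega)]; exact hx.2.1
  · rw [← he 0 (by omega), ← he _ le_rfl]; exact hx.2.2

/-- Shifting a pair forwards along an arc. -/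
theorem mut_fwd {s : ℕ → CosetVertex M₁ M₂} (hx : Mut z s) (hs : Arc (bz M₁ M₂ z + 1) s) :
    Mut z (fun i => s (i + 2)) := by
  set b := bz M₁ M₂ z with hbdef
  have h1 := hs.1 (b - 1) (by omega)
  have h2 := hs.1 b (by omega)
  rw [show b - 1 + 1 = b by omega] at h1
  have n1 : s b ≠ s (b - 2) := fun e => hs.2 (b - 2) (by omega) (by
    rw [show b - 2 + 2 = b by omega]; exact e.symm)
  have n2 : s (b + 1) ≠ s (b - 1) := fun e => hs.2 (b - 1) (by omega) (by
    rw [show b - 1 + 2 = b + 1 by omega]; exact e.symm)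
  have hback := mut_back h hz hb ho (mut_rev h hz hb ho hx) (q := s b) (p := s (b + 1))
    (by simpa [revW] using h1) (by simpa [revW, ← hbdef, show b - 1 - 1 = b - 2 by omega] using n1) h2
    (by simpa [revW] using n2)
  refine mut_congr h (mut_rev h hz hb ho hback) fun i hi => ?_
  rw [revW, ← hbdef]
  obtain ⟨j, hj⟩ : ∃ j, b - 1 - i = j := ⟨_, rfl⟩
  rcases j with _ | _ | j
  · rw [hj]; show s (b + 1) = s (i + 2); congr 1; omega
  · rw [hj]; show s b = s (i + 2); congr 1; omega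
  · rw [hj]; show s (b - 1 - j) = s (i + 2); congr 1; omega

theorem all_mut {y : ℕ → CosetVertex M₁ M₂} (hy : Arc (bz M₁ M₂ z - 1) y) (hy0 : ¬ IsA (y 0)) : Mut z y := by
  set b := bz M₁ M₂ z with hbdef
  obtain ⟨x, hx⟩ := exists_mut h hz hb ho
  have hxlast : Adj (x (b - 1)) (x (b - 2)) := by
    have := (hx.1.1 (b - 2) (by omega)).symm
    rwa [show b - 2 + 1 = b - 1 by omega] at this
  have hy01 := hy.1 0 (by omega)
  obtain ⟨c, hc, hc1⟩ := h.exists_ne hy01
  -- align the end of `x` with the beginning of `y`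
  obtain ⟨g, hg⟩ := trans_three h 1 (by norm_num) (consW (x (b - 1)) fun _ => x (b - 2)) (consW (y 0) fun _ => c)
    (Arc.cons (k := 0) ⟨fun i hi => absurd hi (by omega), fun i hi => absurd hi (by omega)⟩ hxlast
      (fun h1 => absurd h1 (by omega)))
    (Arc.cons (k := 0) ⟨fun i hi => absurd hi (by omega), fun i hi => absurd hi (by omega)⟩ hc
      (fun h1 => absurd h1 (by omega)))
    (iff_of_true (isA_of_adj hxlast (mut_end h hz hb ho hx)) (isA_of_adj hc hy0))
  have hg0 : g • x (b - 1) = y 0 := hg 0 (by omega)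
  have hg1 : g • x (b - 2) = c := hg 1 le_rfl
  let s : ℕ → CosetVertex M₁ M₂ := fun i => if i ≤ b - 1 then g • x i else y (i - (b - 1))
  have hs : Arc (b - 1 + (b - 1)) s := by
    refine ⟨fun i hi => ?_, fun i hi => ?_⟩
    · simp only [s]
      by_cases h1 : i + 1 ≤ b - 1
      · rw [if_pos (by omega), if_pos h1]; exact adj_smul g (hx.1.1 i (by omega))
      · by_cases h2 : i ≤ b - 1
        · obtain rfl : i = b - 1 := by omega
          rw [if_pos le_rfl, if_neg (by omega), hg0, show b - 1 + 1 - (b - 1) = 1 by omega]; exact hy01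
        · rw [if_neg h2, if_neg (by omega), show i + 1 - (b - 1) = i - (b - 1) + 1 by omega]
          exact hy.1 _ (by omega)
    · simp only [s]
      by_cases h1 : i + 2 ≤ b - 1
      · rw [if_pos (by omega), if_pos h1]
        exact fun e => hx.1.2 i (by omega) (smul_left_cancel g e)
      · by_cases h2 : i ≤ b - 1
        · rw [if_pos h2, if_neg (by omega)]
          rcases Nat.eq_or_lt_of_le h2 with rfl | hlt
          · rw [hg0, show b - 1 + 2 - (b - 1) = 2 by omega]; exact hy.2 0 (by omega)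
          · obtain rfl : i = b - 2 := by omega
            rw [hg1, show b - 2 + 2 - (b - 1) = 1 by omega]; exact hc1
        · rw [if_neg h2, if_neg (by omega), show i + 2 - (b - 1) = i - (b - 1) + 2 by omega]
          exact hy.2 _ (by omega)
  have hMg : Mut z (fun i => g • x i) := by
    refine ⟨hx.1.smul g, fun e => hx.2.1 ((isA_smul g _).1 e), fun hle => hx.2.2 ?_⟩
    have hle : Vd z (g • x 0) ≤ Qv (g • x (b - 1)) := hle
    rwa [← Vd_smul h hz, ← h.Qv_smul, Subgroup.map_le_map_iff_of_injective (MulAut.conj g).injective] at hle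
  have hind : ∀ j, 2 * j ≤ b - 1 → Mut z (fun i => s (i + 2 * j)) := by
    intro j
    induction j with
    | zero => exact fun _ => mut_congr h hMg fun i hi => (if_pos hi).symm
    | succ j ih =>
      intro hj
      exact mut_fwd h hz hb ho (ih (by omega))
        (hs.drop (j := 2 * j) (n := b + 1) (by omega)) |> fun H => mut_congr h H fun i _ => by
          show s (i + 2 + 2 * j) = s (i + 2 * (j + 1)); congr 1; omega
  obtain ⟨n, hn⟩ := ho
  refine mut_congr h (hind n (by omega)) fun i _ => ?_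
  simp only [s]
  by_cases h1 : i + 2 * n ≤ b - 1
  · rw [if_pos h1, show i + 2 * n = b - 1 by omega, hg0, show i = 0 by omega]
  · rw [if_neg h1]; congr 1; omega

theorem all_crit_odd {w : ℕ → CosetVertex M₁ M₂} (hw : Arc (bz M₁ M₂ z) w) (h0 : IsA (w 0)) : Crit z w := by
  set b := bz M₁ M₂ z with hbdef
  have h01 := hw.1 0 (by omega)
  have hmut := all_mut h hz hb ho (y := fun i => w (i + 1)) (hw.drop (by omega)) (not_isA h01 h0)
  refine crit_congr (mut_crit h hz hb ho hmut (μ := w 0) h01.symm (hw.2 0 (by omega))) fun i _ => ?_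
  cases i <;> rfl

end CfsgLib.LocalEven.AmalgamGold
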