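/-
Odd critical distance: the groups `V` of two neighbours of a vertex of the first kind meet in its four-group.
-/
import Cfsg.Agent.Lib.LocalEven.AmalgamGold.Odd

set_option autoImplicit false
set_option linter.unusedSectionVars false
set_option linter.style.haveILetI false

namespace CfsgLib.LocalEven.AmalgamGold

open Cfsg CfsgLib.LocalEven.CosetGraph CfsgLib.LocalEven.SylowIn CfsgLib.LocalEven.Amalgam

variable {X : Type*} [Group X] {M₁ M₂ : Subgroup X} {z : X}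
variable (h : Hyp M₁ M₂) (hz : Elt M₁ M₂ z)
include h hz

variable (hb : 3 ≤ bz M₁ M₂ z)
include hb

theorem Vd_rearr {c : CosetVertex M₁ M₂} (hc : ¬ IsA c) {p q r s : X} (hq : q ∈ Vd z c) (hr : r ∈ Vd z c) :
    p * q * (r * s) = p * r * (q * s) := by
  rw [mul_assoc, ← mul_assoc q, Vd_comm h hz hb hc hq hr, mul_assoc r, ← mul_assoc]

/-- The group at `x` is generated by one four-group and one conjugate from each of the other two. -/
theorem Vd_decomp {x lam μ₁ μ₂ a₁ b₁ : CosetVertex M₁ M₂} (hxl : Adj x lam) (hA : IsA lam) (h1 : Adj x μ₁)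
    (h2 : Adj x μ₂) (n1 : μ₁ ≠ lam) (n2 : μ₂ ≠ lam) (n : μ₁ ≠ μ₂) (ha : Adj μ₁ a₁) (hax : a₁ ≠ x)
    (hb₁ : Adj μ₂ b₁) (hbx : b₁ ≠ x) {v : X} (hv : v ∈ Vd z x) :
    ∃ y ∈ Y z lam, v = y ∨ v = y * zOf z a₁ ∨ v = y * zOf z b₁ ∨ v = y * (zOf z a₁ * zOf z b₁) := by
  have hBx := not_isA hxl.symm hA
  set A : X := zOf z a₁ with hAd
  set B : X := zOf z b₁ with hBd
  have hAm : A ∈ Vd z x := z_mem_Vd h1 ha
  have hBm : B ∈ Vd z x := z_mem_Vd h2 hb₁
  let S : Subgroup X :=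
    { carrier := {v | ∃ y ∈ Y z lam, ∃ i : X, (i = 1 ∨ i = A) ∧ ∃ j : X, (j = 1 ∨ j = B) ∧ v = y * (i * j)}
      one_mem' := ⟨1, one_mem _, 1, Or.inl rfl, 1, Or.inl rfl, by simp⟩
      mul_mem' := by
        rintro p q ⟨y, hy, i, hi, j, hj, rfl⟩ ⟨y', hy', i', hi', j', hj', rfl⟩
        refine ⟨y * y', mul_mem hy hy', i * i', ?_, j * j', ?_, ?_⟩
        · rcases hi with rfl | rfl <;> rcases hi' with rfl | rfl <;> simp [hAd, zOf_sq h hz]
        · rcases hj with rfl | rfl <;> rcases hj' with rfl | rfl <;> simp [hBd, zOf_sq h hz]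
        · have him : i ∈ Vd z x := by rcases hi with rfl | rfl; exacts [one_mem _, hAm]
          have hjm : j ∈ Vd z x := by rcases hj with rfl | rfl; exacts [one_mem _, hBm]
          have him' : i' ∈ Vd z x := by rcases hi' with rfl | rfl; exacts [one_mem _, hAm]
          rw [Vd_rearr h hz hb hBx (mul_mem him hjm) (Y_le_Vd hxl hy'), Vd_rearr h hz hb hBx hjm him']
      inv_mem' := by
        rintro p ⟨y, hy, i, hi, j, hj, rfl⟩
        refine ⟨y, hy, i, hi, j, hj, inv_eq_of_mul_eq_one_right (Vd_sq h hz hb hBx (mul_mem (Y_le_Vd hxl hy) ?_))⟩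
        rcases hi with rfl | rfl <;> rcases hj with rfl | rfl <;>
          simp [hAm, hBm, mul_mem, one_mem] }
  have hle : Vd z x ≤ S := by
    refine iSup₂_le fun d hd y hy => ?_
    have hdA := isA_of_adj hd hBx
    by_cases e : d = lam
    · subst e
      exact ⟨y, hy, 1, Or.inl rfl, 1, Or.inl rfl, by simp⟩
    obtain ⟨f, hf, hf1, hf2, hall⟩ := h.third h1 h2 n
    have hlamf : lam = f := by
      rcases hall lam hxl with e' | e' | e'
      exacts [absurd e'.symm n1, absurd e'.symm n2, e']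
    have hd12 : d = μ₁ ∨ d = μ₂ := by
      rcases hall d hd with e' | e' | e'
      exacts [Or.inl e', Or.inr e', absurd (e'.trans hlamf.symm) e]
    have hux : zOf z x ∈ Y z lam := zOf_mem_Y hxl.symm
    rcases (mem_Y h hz hdA).1 hy with rfl | ⟨c, hc, rfl⟩
    · exact one_mem _
    by_cases hcx : c = x
    · exact ⟨zOf z x, hux, 1, Or.inl rfl, 1, Or.inl rfl, by simp [hcx]⟩
    rcases hd12 with rfl | rfl
    · rcases zOf_class h hz h1.symm hdA ha hc hax hcx with e' | e'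
      · exact ⟨1, one_mem _, A, Or.inr rfl, 1, Or.inl rfl, by simp [e', hAd]⟩
      · exact ⟨zOf z x, hux, A, Or.inr rfl, 1, Or.inl rfl, by
          rw [e', mul_one, Vd_comm h hz hb hBx hAm (z_mem_Vd hxl hxl.symm)]⟩
    · rcases zOf_class h hz h2.symm hdA hb₁ hc hbx hcx with e' | e'
      · exact ⟨1, one_mem _, 1, Or.inl rfl, B, Or.inr rfl, by simp [e', hBd]⟩
      · exact ⟨zOf z x, hux, 1, Or.inl rfl, B, Or.inr rfl, by
          rw [e', one_mul, Vd_comm h hz hb hBx hBm (z_mem_Vd hxl hxl.symm)]⟩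
  obtain ⟨y, hy, i, hi, j, hj, rfl⟩ := hle hv
  refine ⟨y, hy, ?_⟩
  rcases hi with rfl | rfl <;> rcases hj with rfl | rfl <;> simp

/-- A conjugate from further out lies in no other group `V`. -/
theorem no_meet_gen {lam x x' μ a₁ : CosetVertex M₁ M₂} (hA : IsA lam) (hx : Adj lam x) (hx' : Adj lam x')
    (hne : x ≠ x') (hμ : Adj x μ) (hμl : μ ≠ lam) (ha : Adj μ a₁) (hax : a₁ ≠ x)
    (hmem : zOf z a₁ ∈ Vd z x') : False := by
  have hBx := not_isA hx hA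
  have hμA := isA_of_adj hμ hBx
  obtain ⟨μ₂, hμ₂, hμ₂l, hμ₂μ, hall⟩ := h.third hx.symm hμ hμl.symm
  obtain ⟨q, hq, hqx⟩ := SetLike.not_le_iff_exists.1 (h.not_le_Qv hx)
  have hqμ : q • μ = μ₂ := h.swap hx.symm hμ hμ₂ hμl hμ₂l hμ₂μ (h.Qv_le_Ev' hx.symm hq) hqx
  have h1 : Y z μ ≤ Vd z x' := by
    intro y hy
    rcases (mem_Y h hz hμA).1 hy with rfl | ⟨c, hc, rfl⟩
    · exact one_mem _
    have hux : zOf z x ∈ Vd z x' := z_mem_Vd hx'.symm hx
    by_cases hcx : c = x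
    · rw [hcx]; exact hux
    · rcases zOf_class h hz hμ.symm hμA ha hc hax hcx with e | e <;> rw [e]
      exacts [hmem, mul_mem hmem hux]
  have h2 : Y z μ₂ ≤ Vd z x' := by
    rw [← hqμ, ← Y_smul h hz]
    rintro _ ⟨y, hy, rfl⟩
    exact conj_mem_Vd h hz (h.Qv_fix hx' hq) (h1 hy)
  have hle : Vd z x ≤ Vd z x' := iSup₂_le fun d hd => by
    rcases hall d hd with rfl | rfl | rfl
    exacts [Y_le_Vd hx'.symm, h1, h2]
  obtain ⟨g, hg, hgx⟩ := neighbour_transitive hx hx'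
  have hQ : Vd z x' ≤ Qv lam := Vd_le_Qv_nbr h hz hb hx'.symm hA
  haveI := h.finite_Qv lam
  haveI : Finite ↥(Vd z x') := Finite.of_injective _ (Subgroup.inclusion_injective hQ)
  have heq : Vd z x = Vd z x' := Subgroup.eq_of_le_of_card_ge hle (by
    rw [← hgx, ← Vd_smul h hz]
    exact le_of_eq (Subgroup.card_map_of_injective (MulAut.conj g).injective))
  have hSl : St lam ≤ Subgroup.normalizer (Vd z x : Set X) := h.St_le_two hx hx' hne
    ((inf_le_right : Ev lam x ≤ St x).trans (St_le_normalizer_Vd h hz x))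
    ((inf_le_right : Ev lam x' ≤ St x').trans (heq ▸ St_le_normalizer_Vd h hz x'))
  exact Vd_ne_bot h hz hx.symm hA (h.eq_bot_of_normal hx (hle.trans (hQ.trans (h.Qv_le_Ev hx))) hSl
    (St_le_normalizer_Vd h hz x))

/-- An element of both groups is in the four-group or is the product of two conjugates from further out. -/
theorem meet_dec {lam x x' μ₁ μ₂ a₁ b₁ : CosetVertex M₁ M₂} (hA : IsA lam) (hx : Adj lam x) (hx' : Adj lam x')
    (hne : x ≠ x') (h1 : Adj x μ₁) (h2 : Adj x μ₂) (n1 : μ₁ ≠ lam) (n2 : μ₂ ≠ lam) (n : μ₁ ≠ μ₂)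
    (ha : Adj μ₁ a₁) (hax : a₁ ≠ x) (hb₁ : Adj μ₂ b₁) (hbx : b₁ ≠ x) {e : X} (he : e ∈ Vd z x)
    (he' : e ∈ Vd z x') :
    e ∈ Y z lam ∨ ∃ y ∈ Y z lam, e = y * (zOf z a₁ * zOf z b₁) := by
  obtain ⟨y, hy, e' | e' | e' | e'⟩ := Vd_decomp h hz hb hx.symm hA h1 h2 n1 n2 n ha hax hb₁ hbx he
  · exact Or.inl (e' ▸ hy)
  · refine (no_meet_gen h hz hb hA hx hx' hne h1 n1 ha hax ?_).elim
    rw [e'] at he'
    simpa [← mul_assoc] using mul_mem (inv_mem (Y_le_Vd hx'.symm hy)) he'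
  · refine (no_meet_gen h hz hb hA hx hx' hne h2 n2 hb₁ hbx ?_).elim
    rw [e'] at he'
    simpa [← mul_assoc] using mul_mem (inv_mem (Y_le_Vd hx'.symm hy)) he'
  · exact Or.inr ⟨y, hy, e'⟩

/-- The edge group moves an element of both groups by at most the conjugate at the edge. -/
theorem meet_conj {lam x x' : CosetVertex M₁ M₂} (hA : IsA lam) (hx : Adj lam x) (hx' : Adj lam x')
    (hne : x ≠ x') {e : X} (he : e ∈ Vd z x) (he' : e ∈ Vd z x') {g : X} (hg : g ∈ Ev lam x) :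
    g * e * g⁻¹ = e ∨ g * e * g⁻¹ = e * zOf z x := by
  have hBx := not_isA hx hA
  obtain ⟨μ₁, h1, n1⟩ := h.exists_ne hx.symm
  obtain ⟨μ₂, h2, n2, n, hall⟩ := h.third hx.symm h1 n1.symm
  obtain ⟨a₁, ha, hax⟩ := h.exists_ne h1.symm
  obtain ⟨b₁, hb₁, hbx⟩ := h.exists_ne h2.symm
  obtain ⟨hgl, hgx⟩ := mem_Ev.1 hg
  set u := zOf z x with hud
  have huu : u * u = 1 := zOf_sq h hz x
  have huV : u ∈ Vd z x := z_mem_Vd hx.symm hx
  have hY : ∀ y ∈ Y z lam, ∃ i, (i = 1 ∨ i = u) ∧ g * y * g⁻¹ = y * i := by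
    intro y hy
    rcases (mem_Y h hz hA).1 hy with rfl | ⟨c, hc, rfl⟩
    · exact ⟨1, Or.inl rfl, by simp⟩
    rw [← zOf_smul h hz]
    by_cases hcx : c = x
    · exact ⟨1, Or.inl rfl, by rw [hcx, hgx, mul_one]⟩
    rcases zOf_class h hz hx hA hc (adj_fix (mem_St.2 hgl) hc) hcx
      (fun e => hcx (smul_left_cancel g (e.trans hgx.symm))) with e' | e'
    · exact ⟨1, Or.inl rfl, by rw [e', mul_one]⟩
    · exact ⟨u, Or.inr rfl, e'⟩
  have hZ : ∀ {μ c ν d : CosetVertex M₁ M₂}, Adj x μ → Adj μ c → c ≠ x → g • μ = ν → Adj ν d → d ≠ x →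
      ∃ i, (i = 1 ∨ i = u) ∧ g * zOf z c * g⁻¹ = zOf z d * i := by
    intro μ c ν d hμ hc hcx hν hd hdx
    rw [← zOf_smul h hz]
    have hν' : Adj ν x := by have := adj_smul g hμ.symm; rwa [hν, hgx] at this
    have hgc : Adj ν (g • c) := hν ▸ adj_smul g hc
    rcases zOf_class h hz hν' (isA_of_adj hν'.symm hBx) hd hgc hdx
      (fun e => hcx (smul_left_cancel g (e.trans hgx.symm))) with e' | e'
    · exact ⟨1, Or.inl rfl, by rw [e', mul_one]⟩
    · exact ⟨u, Or.inr rfl, e'⟩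
  have hAB : ∃ i, (i = 1 ∨ i = u) ∧
      g * (zOf z a₁ * zOf z b₁) * g⁻¹ = zOf z a₁ * zOf z b₁ * i := by
    have e0 : g * (zOf z a₁ * zOf z b₁) * g⁻¹ = g * zOf z a₁ * g⁻¹ * (g * zOf z b₁ * g⁻¹) := by group
    have him : ∀ {i : X}, (i = 1 ∨ i = u) → i ∈ Vd z x := by rintro _ (rfl | rfl); exacts [one_mem _, huV]
    have hij : ∀ {i j : X}, (i = 1 ∨ i = u) → (j = 1 ∨ j = u) → (i * j = 1 ∨ i * j = u) := by
      rintro _ _ (rfl | rfl) (rfl | rfl) <;> simp [huu]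
    rcases hall (g • μ₁) (adj_fix (mem_St.2 hgx) h1) with e1 | e1 | e1
    · exact absurd (smul_left_cancel g (e1.trans hgl.symm)) n1
    · have e2 : g • μ₂ = μ₂ := by
        rcases hall (g • μ₂) (adj_fix (mem_St.2 hgx) h2) with e2 | e2 | e2
        · exact absurd (smul_left_cancel g (e2.trans hgl.symm)) n2
        · exact absurd (smul_left_cancel g (e2.trans e1.symm)) n
        · exact e2
      obtain ⟨i, hi, ei⟩ := hZ h1 ha hax e1 ha hax
      obtain ⟨j, hj, ej⟩ := hZ h2 hb₁ hbx e2 hb₁ hbx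
      refine ⟨i * j, hij hi hj, ?_⟩
      rw [e0, ei, ej, Vd_rearr h hz hb hBx (him hi) (z_mem_Vd h2 hb₁)]
    · have e2 : g • μ₂ = μ₁ := by
        rcases hall (g • μ₂) (adj_fix (mem_St.2 hgx) h2) with e2 | e2 | e2
        · exact absurd (smul_left_cancel g (e2.trans hgl.symm)) n2
        · exact e2
        · exact absurd (smul_left_cancel g (e2.trans e1.symm)) n
      obtain ⟨i, hi, ei⟩ := hZ h1 ha hax e1 hb₁ hbx
      obtain ⟨j, hj, ej⟩ := hZ h2 hb₁ hbx e2 ha hax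
      refine ⟨i * j, hij hi hj, ?_⟩
      rw [e0, ei, ej, Vd_rearr h hz hb hBx (him hi) (z_mem_Vd h1 ha),
        Vd_comm h hz hb hBx (z_mem_Vd h2 hb₁) (z_mem_Vd h1 ha)]
  have key : ∃ i, (i = 1 ∨ i = u) ∧ g * e * g⁻¹ = e * i := by
    rcases meet_dec h hz hb hA hx hx' hne h1 h2 n1 n2 n.symm ha hax hb₁ hbx he he' with e' | ⟨y, hy, rfl⟩
    · exact hY e e'
    obtain ⟨i, hi, ei⟩ := hY y hy
    obtain ⟨j, hj, ej⟩ := hAB
    have him : i ∈ Vd z x := by rcases hi with rfl | rfl; exacts [one_mem _, huV]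
    refine ⟨i * j, by rcases hi with rfl | rfl <;> rcases hj with rfl | rfl <;> simp [huu], ?_⟩
    rw [show g * (y * (zOf z a₁ * zOf z b₁)) * g⁻¹ = g * y * g⁻¹ * (g * (zOf z a₁ * zOf z b₁) * g⁻¹) by group,
      ei, ej, Vd_rearr h hz hb hBx him (mul_mem (z_mem_Vd h1 ha) (z_mem_Vd h2 hb₁))]
  obtain ⟨i, rfl | rfl, e'⟩ := key
  · exact Or.inl (by rw [e', mul_one])
  · exact Or.inr e'

/-- Two neighbouring groups meet in the four-group. -/
theorem meet {lam x x' : CosetVertex M₁ M₂} (hA : IsA lam) (hx : Adj lam x) (hx' : Adj lam x') (hne : x ≠ x')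
    {e : X} (he : e ∈ Vd z x) (he' : e ∈ Vd z x') : e ∈ Y z lam := by
  have hBx := not_isA hx hA
  obtain ⟨x'', hx'', n1, n2, -⟩ := h.third hx hx' hne
  -- the kernel at `lam` centralizes everything in both groups
  have hQ : ∀ {e : X}, e ∈ Vd z x → e ∈ Vd z x' → ∀ t ∈ Qv lam, t * e = e * t := by
    intro e he he' t ht
    refine mul_inv_eq_iff_eq_mul.1 ?_
    rcases meet_conj h hz hb hA hx hx' hne he he' (h.Qv_le_Ev hx ht) with e1 | e1
    · exact e1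
    rcases meet_conj h hz hb hA hx' hx hne.symm he' he (h.Qv_le_Ev hx' ht) with e2 | e2
    · exact e2
    · exact absurd (zOf_inj h hz hx hx' hA (mul_left_cancel (e1.symm.trans e2))) hne
  -- products of two elements outside the four-group are inside
  have hprod : ∀ {p q : X}, p ∈ Vd z x → p ∈ Vd z x' → q ∈ Vd z x → q ∈ Vd z x' →
      p ∉ Y z lam → q ∉ Y z lam → p * q ∈ Y z lam := by
    intro p q hp hp' hq hq' hpn hqn
    obtain ⟨μ₁, h1, m1⟩ := h.exists_ne hx.symm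
    obtain ⟨μ₂, h2, m2, m, -⟩ := h.third hx.symm h1 m1.symm
    obtain ⟨a₁, ha, hax⟩ := h.exists_ne h1.symm
    obtain ⟨b₁, hb₁, hbx⟩ := h.exists_ne h2.symm
    rcases meet_dec h hz hb hA hx hx' hne h1 h2 m1 m2 m.symm ha hax hb₁ hbx hp hp' with e1 | ⟨y, hy, rfl⟩
    · exact absurd e1 hpn
    rcases meet_dec h hz hb hA hx hx' hne h1 h2 m1 m2 m.symm ha hax hb₁ hbx hq hq' with e2 | ⟨y', hy', rfl⟩
    · exact absurd e2 hqn
    have hab : zOf z a₁ * zOf z b₁ ∈ Vd z x := mul_mem (z_mem_Vd h1 ha) (z_mem_Vd h2 hb₁)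
    rw [Vd_rearr h hz hb hBx hab (Y_le_Vd hx.symm hy'), Vd_sq h hz hb hBx hab, mul_one]
    exact mul_mem hy hy'
  have hwx' : zOf z x' ∈ Vd z x := z_mem_Vd hx.symm hx'
  have hwx'' : zOf z x' ∈ Vd z x' := z_mem_Vd hx'.symm hx'
  obtain ⟨q, hq, hql⟩ := SetLike.not_le_iff_exists.1 (h.not_le_Qv hx.symm)
  have hqE : q ∈ Ev lam x := h.Qv_le_Ev' hx hq
  obtain ⟨f, hf, hf', hfe, hfq⟩ : ∃ f, f ∈ Vd z x ∧ f ∈ Vd z x' ∧ (f ∈ Y z lam → e ∈ Y z lam) ∧
      q * f * q⁻¹ = f := by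
    rcases meet_conj h hz hb hA hx hx' hne he he' hqE with e1 | e1
    · exact ⟨e, he, he', id, e1⟩
    · refine ⟨e * zOf z x', mul_mem he hwx', mul_mem he' hwx'', fun hm => ?_, ?_⟩
      · simpa [mul_assoc, zOf_sq h hz] using mul_mem hm (zOf_mem_Y hx' : zOf z x' ∈ Y z lam)
      · have e2 : q * zOf z x' * q⁻¹ = zOf z x' * zOf z x := by
          rw [← zOf_smul h hz, h.swap hx hx' hx'' hne.symm n1 n2 hqE hql]
          exact (zOf_mul h hz hx' hx hx'' hA hne.symm n2.symm n1.symm).symm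
        have hu : zOf z x ∈ Vd z x := z_mem_Vd hx.symm hx
        calc q * (e * zOf z x') * q⁻¹ = q * e * q⁻¹ * (q * zOf z x' * q⁻¹) := by group
          _ = _ := by
            rw [e1, e2, Vd_rearr h hz hb hBx hu hwx', zOf_sq h hz, mul_one]
  refine hfe ?_
  by_contra hfY
  have hcentE : ∀ {f : X}, f ∈ Vd z x → f ∈ Vd z x' → q * f * q⁻¹ = f → ∀ t ∈ Ev lam x, t * f = f * t := by
    intro f hf hf' hfq t ht
    exact Subgroup.mem_centralizer_singleton_iff.1 (h.sup_Qv hx hqE hql (L := Subgroup.centralizer {f})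
      (fun s hs => Subgroup.mem_centralizer_singleton_iff.2 (hQ hf hf' s hs))
      (Subgroup.mem_centralizer_singleton_iff.2 (mul_inv_eq_iff_eq_mul.1 hfq)) ht)
  obtain ⟨τ, hτ, hτl⟩ : ∃ τ ∈ Ev lam x'', τ ∉ Qv lam := by
    by_contra! hall
    have := h.relIndex_Qv_Ev hx''
    rw [Subgroup.relIndex_eq_one.2 hall] at this
    omega
  have hτx : τ • x = x' := h.swap hx'' hx hx' n1.symm n2.symm hne.symm hτ hτl
  have hτx' : τ • x' = x := h.swap hx'' hx' hx n2.symm n1.symm hne hτ hτl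
  have hEl : ∀ {f : X}, f ∈ Vd z x → f ∈ Vd z x' → q * f * q⁻¹ = f → τ * f * τ⁻¹ = f → f = 1 := by
    intro f hf hf' hfq hfτ
    refine h.eq_one_of_cent hx hA (h.Qv_le_Ev hx (Vd_le_Qv_nbr h hz hb hx.symm hA hf)) (Vd_sq h hz hb hBx hf)
      fun g hg => ?_
    exact Subgroup.mem_centralizer_singleton_iff.1 (h.St_le hx (L := Subgroup.centralizer {f})
      (fun t ht => Subgroup.mem_centralizer_singleton_iff.2 (hcentE hf hf' hfq t ht))
      (Subgroup.mem_centralizer_singleton_iff.2 (mul_inv_eq_iff_eq_mul.1 hfτ))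
      (Subgroup.mem_inf.1 hτ).1 (by rw [hτx]; exact hne.symm) hg : g ∈ Subgroup.centralizer {f})
  have hg1 : τ * f * τ⁻¹ ∈ Vd z x := hτx' ▸ conj_mem_map (Vd_smul h hz τ x') hf'
  have hg2 : τ * f * τ⁻¹ ∈ Vd z x' := hτx ▸ conj_mem_map (Vd_smul h hz τ x) hf
  have hgY : τ * f * τ⁻¹ ∉ Y z lam := fun hm => hfY (by
    have := conj_mem_Y h hz (g := τ⁻¹) hm
    rw [mem_St.1 ((St lam).inv_mem (Subgroup.mem_inf.1 hτ).1)] at this
    simpa [mul_assoc] using this)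
  set y := f * (τ * f * τ⁻¹) with hyd
  have hy : y ∈ Y z lam := hprod hf hf' hg1 hg2 hfY hgY
  have hττ : τ * τ ∈ Qv lam := h.mul_mem_Qv hx'' hτ hτ hτl hτl
  have hττf : τ * τ * f * (τ * τ)⁻¹ = f := by rw [hQ hf hf' _ hττ, mul_inv_cancel_right]
  have hτy : τ * y * τ⁻¹ = y := by
    rw [hyd, show τ * (f * (τ * f * τ⁻¹)) * τ⁻¹ = τ * f * τ⁻¹ * (τ * τ * f * (τ * τ)⁻¹) by group, hττf,
      Vd_comm h hz hb hBx hg1 hf]
  have hfsq : f * f = 1 := Vd_sq h hz hb hBx hf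
  rcases (mem_Y h hz hA).1 hy with e1 | ⟨c, hc, e1⟩
  · refine hfY ?_
    rw [hEl hf hf' hfq ?_]
    · exact one_mem _
    · rw [hyd] at e1
      exact (eq_inv_of_mul_eq_one_right e1).trans (inv_eq_of_mul_eq_one_right hfsq)
  · have hcx : c = x'' := by
      by_contra hcne
      refine h.move hx'' hc hcne hτ hτl (zOf_inj h hz (adj_fix (Subgroup.mem_inf.1 hτ).1 hc) hc hA ?_)
      rw [zOf_smul h hz, ← e1, hτy]
    rw [hcx] at e1
    have hu : zOf z x ∈ Vd z x := z_mem_Vd hx.symm hx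
    have hu' : zOf z x ∈ Vd z x' := z_mem_Vd hx'.symm hx
    have hconj : τ * f * τ⁻¹ = f * zOf z x'' := by
      rw [← e1, hyd, ← mul_assoc, hfsq, one_mul]
    have hτu : τ * zOf z x * τ⁻¹ = zOf z x' := by rw [← zOf_smul h hz, hτx]
    have e2 := hEl (mul_mem hf hu) (mul_mem hf' hu') (by
      rw [show q * (f * zOf z x) * q⁻¹ = q * f * q⁻¹ * (q * zOf z x * q⁻¹) by group, hfq,
        ← zOf_smul h hz, (mem_Ev.1 hqE).2]) (by
      rw [show τ * (f * zOf z x) * τ⁻¹ = τ * f * τ⁻¹ * (τ * zOf z x * τ⁻¹) by group, hconj, hτu, mul_assoc,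
        zOf_mul h hz hx'' hx' hx hA n2 n1 hne.symm])
    refine hfY ?_
    rw [eq_inv_of_mul_eq_one_left e2, zOf_inv h hz]
    exact zOf_mem_Y hx

end CfsgLib.LocalEven.AmalgamGold
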