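/-
The critical distance is no odd number of at least five.
-/
import Cfsg.Agent.Lib.LocalEven.AmalgamGold.Meet

set_option autoImplicit false
set_option linter.unusedSectionVars false
set_option linter.style.haveILetI false

namespace CfsgLib.LocalEven.AmalgamGold

open Cfsg CfsgLib.LocalEven.CosetGraph CfsgLib.LocalEven.SylowIn CfsgLib.LocalEven.Amalgam

variable {X : Type*} [Group X] {M₁ M₂ : Subgroup X} {z : X}
variable (h : Hyp M₁ M₂) (hz : Elt M₁ M₂ z) (hb : 5 ≤ bz M₁ M₂ z) (ho : Odd (bz M₁ M₂ z))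
include h hz hb ho

/-- The commutator of two conjugates at the ends of an arc of length `b + 1`. -/
theorem five_core {p : ℕ → CosetVertex M₁ M₂} (hp : Arc (bz M₁ M₂ z + 1) p) (h0 : IsA (p 0))
    {q r : CosetVertex M₁ M₂} (hq : Adj (p 0) q) (hq1 : q ≠ p 1) (hr : Adj (p (bz M₁ M₂ z + 1)) r)
    (hr1 : r ≠ p (bz M₁ M₂ z)) :
    (∀ i, i ≤ bz M₁ M₂ z → zOf z q • p i = p i) ∧
    (∀ i, 1 ≤ i → i ≤ bz M₁ M₂ z + 1 → zOf z r • p i = p i) ∧
    zOf z r ∉ Qv (p 1) ∧
    zOf z r • p 0 ≠ p 0 ∧
    zOf z q * zOf z r * zOf z q * zOf z r = zOf z q * zOf z (zOf z r • q) ∧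
    zOf z q * zOf z r * zOf z q * zOf z r = zOf z (zOf z q • r) * zOf z r ∧
    zOf z q * zOf z r * zOf z q * zOf z r ∈ Vd z (p 1) ∧
    zOf z q * zOf z r * zOf z q * zOf z r ∈ Vd z (p (bz M₁ M₂ z)) ∧
    zOf z q * zOf z r * zOf z q * zOf z r ≠ 1 := by
  set b := bz M₁ M₂ z with hbdef
  set u := zOf z q with hud
  set w := zOf z r with hwd
  have hAe : IsA (p (b + 1)) := by
    rw [hp.1.parity le_rfl]
    have : Even (b + 1) := ho.add_one
    tauto
  have hrev : Arc b (revW (b + 1) p) := hp.rev.mono (by omega)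
  have hrc := all_crit_odd h hz (by omega) ho hrev (by simpa [revW] using hAe)
  have hu : ∀ i, i ≤ b → u • p i = p i := fun i hi => by
    exact Y_fix h hz (hp.1.mono (show i ≤ b + 1 by omega)) h0 hi (zOf_mem_Y hq)
  have hw : ∀ i, 1 ≤ i → i ≤ b + 1 → w • p i = p i := fun i hi hib => by
    have := Y_fix h hz (hrev.1.mono (show b + 1 - i ≤ b by omega)) (by simpa [revW] using hAe) (by omega)
      (show w ∈ Y z (revW (b + 1) p 0) by simpa [revW] using (zOf_mem_Y hr : w ∈ Y z (p (b + 1))))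
    rwa [revW, show b + 1 - (b + 1 - i) = i by omega] at this
  have hwQ : w ∉ Qv (p 1) := by
    have := crit_not_mem h hz hrc (c := r) (by simpa [revW] using hr) (by simpa [revW] using hr1)
    rwa [← hbdef, revW, show b + 1 - b = 1 by omega] at this
  have h01 := hp.1 0 (by omega)
  have h12 := hp.1 1 (by omega)
  have hw0 : w • p 0 ≠ p 0 := h.move h12 h01.symm (hp.2 0 (by omega))
    (mem_Ev.2 ⟨hw 1 le_rfl (by omega), hw 2 (by omega) (by omega)⟩) hwQ
  have hbb : Adj (p b) (p (b + 1)) := hp.1 b (by omega)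
  have e1 : u * w * u * w = u * zOf z (w • q) := by
    rw [zOf_smul h hz, hwd, zOf_inv h hz, ← hud]
    group
  have e2 : u * w * u * w = zOf z (u • r) * w := by
    rw [zOf_smul h hz, hud, zOf_inv h hz, ← hwd]
  have hwq : Adj (p 1) (w • p 0) := by
    have := adj_fix (mem_St.2 (hw 1 le_rfl (by omega))) h01.symm
    exact this
  refine ⟨hu, hw, hwQ, hw0, e1, e2, ?_, ?_, fun e => ?_⟩
  · rw [e1]
    exact mul_mem (z_mem_Vd h01.symm hq) (z_mem_Vd hwq (adj_smul w hq))
  · rw [e2]
    exact mul_mem (z_mem_Vd (adj_fix (mem_St.2 (hu b le_rfl)) hbb) (adj_smul u hr)) (z_mem_Vd hbb hr)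
  · rw [e1] at e
    have e' : u = zOf z (w • q) := by
      rw [eq_inv_of_mul_eq_one_left e, zOf_inv h hz]
    rcases Y_inter h hz h01.symm hwq h0 (Ne.symm hw0) (zOf_mem_Y hq : u ∈ Y z (p 0))
      (by rw [show zOf z q = _ from e']; exact zOf_mem_Y (adj_smul w hq)) with e'' | e''
    · exact zOf_ne_one h hz hq h0 e''
    · exact hq1 (zOf_inj h hz hq h01 h0 e'')

/-- The distance is five and the commutator is the middle conjugate. -/
theorem five_comm {p : ℕ → CosetVertex M₁ M₂} (hp : Arc (bz M₁ M₂ z + 1) p) (h0 : IsA (p 0))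
    {q r : CosetVertex M₁ M₂} (hq : Adj (p 0) q) (hq1 : q ≠ p 1) (hr : Adj (p (bz M₁ M₂ z + 1)) r)
    (hr1 : r ≠ p (bz M₁ M₂ z)) :
    bz M₁ M₂ z = 5 ∧ zOf z q * zOf z r * zOf z q * zOf z r = zOf z (p 3) := by
  set b := bz M₁ M₂ z with hbdef
  obtain ⟨m, hm⟩ := id ho
  have hb3 : 3 ≤ bz M₁ M₂ z := by omega
  have hp0 := fun i (hi : i ≤ b + 1) => hp.1.parity hi
  have hA : ∀ i, i ≤ b + 1 → Even i → IsA (p i) := fun i hi he => by rw [hp0 i hi]; tauto
  have hA1 : IsA (p (b - 1)) := hA _ (by omega) ⟨m, by omega⟩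
  have hA2 : IsA (p 2) := hA 2 (by omega) (by norm_num)
  have hA3 : IsA (p (b - 3)) := hA _ (by omega) ⟨m - 1, by omega⟩
  have hA4 : IsA (p (b + 1)) := hA _ le_rfl ⟨m + 1, by omega⟩
  have hB1 : ¬ IsA (p 1) := not_isA (hp.1 0 (by omega)) h0
  have hlast : Adj (p (b - 1)) (p b) := by
    have := hp.1 (b - 1) (by omega)
    rwa [show b - 1 + 1 = b by omega] at this
  have hback : Adj (p (b - 1)) (p (b - 2)) := by
    have := (hp.1 (b - 2) (by omega)).symm
    rwa [show b - 2 + 1 = b - 1 by omega] at this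
  have hne : p b ≠ p (b - 2) := fun e => hp.2 (b - 2) (by omega) (by
    rw [show b - 2 + 2 = b by omega]; exact e.symm)
  obtain ⟨s, hs, hsb, hs2, hall⟩ := h.third hlast hback hne
  obtain ⟨s₁, hs₁, hs₁1⟩ := h.exists_ne hs.symm
  obtain ⟨r', hr', hr'1⟩ := h.exists_ne hs₁.symm
  let p' : ℕ → CosetVertex M₁ M₂ := fun i => if i ≤ b - 1 then p i else if i = b then s else s₁
  have hp'i : ∀ i, i ≤ b - 1 → p' i = p i := fun i hi => if_pos hi
  have hp'b : p' b = s := by simp only [p']; rw [if_neg (by omega)]; simp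
  have hp'b1 : p' (b + 1) = s₁ := by simp only [p']; rw [if_neg (by omega), if_neg (by omega)]
  have hp' : Arc (b + 1) p' := by
    refine ⟨fun i hi => ?_, fun i hi => ?_⟩
    · by_cases h1 : i + 1 ≤ b - 1
      · rw [hp'i i (by omega), hp'i _ h1]; exact hp.1 i (by omega)
      · by_cases h2 : i = b - 1
        · rw [h2, hp'i _ le_rfl, show b - 1 + 1 = b by omega, hp'b]; exact hs
        · obtain rfl : i = b := by omega
          rw [hp'b, hp'b1]; exact hs₁
    · by_cases h1 : i + 2 ≤ b - 1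
      · rw [hp'i i (by omega), hp'i _ h1]; exact hp.2 i (by omega)
      · by_cases h2 : i + 2 = b
        · rw [h2, hp'b, hp'i i (by omega), show i = b - 2 by omega]; exact hs2.symm
        · obtain rfl : i = b - 1 := by omega
          rw [hp'i _ le_rfl, show b - 1 + 2 = b + 1 by omega, hp'b1]; exact hs₁1.symm
  obtain ⟨hu, hw, hwQ, hw0, e1, e2, hc1, hcb, hne1⟩ := five_core h hz hb ho hp h0 hq hq1 hr hr1
  have hp'0 : p' 0 = p 0 := hp'i 0 (by omega)
  have hp'1 : p' 1 = p 1 := hp'i 1 (by omega)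
  obtain ⟨-, hw', hwQ', hw0', e1', -, hc1', hcb', -⟩ := five_core h hz hb ho hp' (hp'0 ▸ h0) (q := q) (r := r')
    (hp'0 ▸ hq) (hp'1 ▸ hq1) (hp'b1 ▸ hr') (hp'b ▸ hr'1)
  simp only [hp'0, hp'1, ← hbdef, hp'b] at hwQ' hw0' hc1' hcb' hw'
  have hw'1 : zOf z r' • p 1 = p 1 := hp'1 ▸ hw' 1 le_rfl (by omega)
  have hw'2 : zOf z r' • p 2 = p 2 := hp'i 2 (by omega) ▸ hw' 2 (by omega) (by omega)
  have h01 := hp.1 0 (by omega)
  have h12 := hp.1 1 (by omega)
  obtain ⟨μ, hμ, hμ0, hμ2, -⟩ := h.third h01.symm h12 (hp.2 0 (by omega))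
  have ew : zOf z r • p 0 = μ := h.swap h12 h01.symm hμ (hp.2 0 (by omega)) hμ2 hμ0
    (mem_Ev.2 ⟨hw 1 le_rfl (by omega), hw 2 (by omega) (by omega)⟩) hwQ
  have ew' : zOf z r' • p 0 = μ := h.swap h12 h01.symm hμ (hp.2 0 (by omega)) hμ2 hμ0
    (mem_Ev.2 ⟨hw'1, hw'2⟩) hwQ'
  have hμA : IsA μ := isA_of_adj hμ hB1
  set c := zOf z q * zOf z r * zOf z q * zOf z r with hcd
  set c' := zOf z q * zOf z r' * zOf z q * zOf z r' with hc'd
  have hcls : c' = c ∨ c' = c * zOf z (p 1) := by
    have ha1 : Adj μ (zOf z r • q) := ew ▸ adj_smul _ hq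
    have ha2 : Adj μ (zOf z r' • q) := ew' ▸ adj_smul _ hq
    have n1 : zOf z r • q ≠ p 1 := fun e =>
      hq1 (smul_left_cancel _ (e.trans (hw 1 le_rfl (by omega)).symm))
    have n2 : zOf z r' • q ≠ p 1 := fun e => hq1 (smul_left_cancel _ (e.trans hw'1.symm))
    rcases zOf_class h hz hμ.symm hμA ha1 ha2 n1 n2 with e | e
    · exact Or.inl (by rw [e1', e1, e])
    · exact Or.inr (by rw [e1', e1, e, mul_assoc])
  rcases hcls with hcc | hcc
  · -- the two commutators agree
    have hcY : c ∈ Y z (p (b - 1)) := meet h hz hb3 hA1 hlast hs hsb.symm hcb (hcc ▸ hcb')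
    rcases (mem_Y h hz hA1).1 hcY with e | ⟨η, hη, e⟩
    · exact absurd e hne1
    have hη2 : η = p (b - 2) := by
      by_contra hη2
      let d : ℕ → CosetVertex M₁ M₂ := fun i => if i ≤ b - 1 then p (b - 1 - i) else q
      have hd : Arc b d := by
        refine ⟨fun i hi => ?_, fun i hi => ?_⟩
        · simp only [d]
          by_cases h1 : i + 1 ≤ b - 1
          · rw [if_pos (by omega), if_pos h1]
            have := (hp.1 (b - 1 - (i + 1)) (by omega)).symm
            rwa [show b - 1 - (i + 1) + 1 = b - 1 - i by omega] at this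
          · rw [if_pos (by omega), if_neg h1, show b - 1 - i = 0 by omega]; exact hq
        · simp only [d]
          by_cases h1 : i + 2 ≤ b - 1
          · rw [if_pos (by omega), if_pos h1]
            have := (hp.2 (b - 1 - (i + 2)) (by omega)).symm
            rwa [show b - 1 - (i + 2) + 2 = b - 1 - i by omega] at this
          · rw [if_pos (by omega), if_neg h1, show b - 1 - i = 1 by omega]; exact hq1.symm
      have hd0 : d 0 = p (b - 1) := by simp [d]
      have hdb : d b = q := by simp only [d]; rw [if_neg (by omega)]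
      have hd1 : d 1 = p (b - 2) := by simp only [d]; rw [if_pos (by omega)]; congr 1
      have hn := crit_not_mem h hz (all_crit_odd h hz hb3 ho hd (hd0 ▸ hA1)) (c := η) (hd0 ▸ hη) (hd1 ▸ hη2)
      rw [← hbdef, hdb, ← e] at hn
      exact hn (Vd_le_Q h hz (k := 2) (w := consW (p 1) (consW (p 0) fun _ => q))
        (Walk.cons (Walk.cons (k := 0) (fun i hi => absurd hi (by omega)) hq) h01.symm) hB1 (by omega) hc1)
    rw [hη2] at e
    by_cases hb5 : b = 5
    · exact ⟨hb5, by rw [e, hb5]⟩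
    -- extend backwards
    exfalso
    obtain ⟨q₂, hq₂, hq₂n⟩ := h.exists_ne hq.symm
    obtain ⟨q₃, hq₃, hq₃n⟩ := h.exists_ne hq₂.symm
    let d : ℕ → CosetVertex M₁ M₂ := fun i =>
      if i ≤ b - 3 then p (b - 3 - i) else if i = b - 2 then q else if i = b - 1 then q₂ else q₃
    have hdi : ∀ i, i ≤ b - 3 → d i = p (b - 3 - i) := fun i hi => if_pos hi
    have hdq : d (b - 2) = q := by simp only [d]; rw [if_neg (by omega)]; simp
    have hdq2 : d (b - 1) = q₂ := by simp only [d]; rw [if_neg (by omega), if_neg (by omega)]; simp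
    have hdq3 : d b = q₃ := by simp only [d]; rw [if_neg (by omega), if_neg (by omega), if_neg (by omega)]
    have hd : Arc b d := by
      refine ⟨fun i hi => ?_, fun i hi => ?_⟩
      · by_cases h1 : i + 1 ≤ b - 3
        · rw [hdi i (by omega), hdi _ h1]
          have := (hp.1 (b - 3 - (i + 1)) (by omega)).symm
          rwa [show b - 3 - (i + 1) + 1 = b - 3 - i by omega] at this
        · by_cases h2 : i = b - 3
          · rw [h2, hdi _ le_rfl, show b - 3 + 1 = b - 2 by omega, hdq, Nat.sub_self]; exact hq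
          · by_cases h3 : i = b - 2
            · rw [h3, hdq, show b - 2 + 1 = b - 1 by omega, hdq2]; exact hq₂
            · obtain rfl : i = b - 1 := by omega
              rw [hdq2, show b - 1 + 1 = b by omega, hdq3]; exact hq₃
      · by_cases h1 : i + 2 ≤ b - 3
        · rw [hdi i (by omega), hdi _ h1]
          have := (hp.2 (b - 3 - (i + 2)) (by omega)).symm
          rwa [show b - 3 - (i + 2) + 2 = b - 3 - i by omega] at this
        · by_cases h2 : i + 2 = b - 2
          · rw [h2, hdq, hdi i (by omega), show b - 3 - i = 1 by omega]; exact hq1.symm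
          · by_cases h3 : i + 2 = b - 1
            · rw [h3, hdq2, hdi i (by omega), show b - 3 - i = 0 by omega]; exact hq₂n.symm
            · obtain rfl : i = b - 2 := by omega
              rw [hdq, show b - 2 + 2 = b by omega, hdq3]; exact hq₃n.symm
    have hd0 : d 0 = p (b - 3) := by rw [hdi 0 (by omega), Nat.sub_zero]
    have hd1 : d 1 = p (b - 4) := by rw [hdi 1 (by omega)]; congr 1
    have hadj : Adj (d 0) (p (b - 2)) := by
      rw [hd0]
      have := hp.1 (b - 3) (by omega)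
      rwa [show b - 3 + 1 = b - 2 by omega] at this
    have hn := crit_not_mem h hz (all_crit_odd h hz hb3 ho hd (hd0 ▸ hA3)) hadj (by
      rw [hd1]
      have := hp.2 (b - 4) (by omega)
      rw [show b - 4 + 2 = b - 2 by omega] at this
      exact this.symm)
    rw [← hbdef, hdq3, ← e] at hn
    exact hn (Vd_le_Q h hz (k := 4) (w := consW (p 1) (consW (p 0) (consW q (consW q₂ fun _ => q₃))))
      (Walk.cons (Walk.cons (Walk.cons (Walk.cons (k := 0) (fun i hi => absurd hi (by omega)) hq₃) hq₂) hq)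
        h01.symm) hB1 (by omega) hc1)
  · -- the two commutators differ
    exfalso
    obtain ⟨δ, hδ, hδn⟩ := h.exists_ne hs₁.symm
    have hcVd : c ∈ Vd z (p b) := hcb
    have hBb : ¬ IsA (p b) := not_isA hlast hA1
    let d : ℕ → CosetVertex M₁ M₂ := fun i => if i ≤ b - 1 then p' (i + 2) else δ
    have hd : Arc b d := by
      refine ⟨fun i hi => ?_, fun i hi => ?_⟩
      · simp only [d]
        by_cases h1 : i + 1 ≤ b - 1
        · rw [if_pos (by omega), if_pos h1]; exact hp'.1 (i + 2) (by omega)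
        · rw [if_pos (by omega), if_neg h1, show i + 2 = b + 1 by omega, hp'b1]; exact hδ
      · simp only [d]
        by_cases h1 : i + 2 ≤ b - 1
        · rw [if_pos (by omega), if_pos h1]; exact hp'.2 (i + 2) (by omega)
        · rw [if_pos (by omega), if_neg h1, show i + 2 = b by omega, hp'b]; exact hδn.symm
    have hd0 : d 0 = p 2 := by simp only [d]; rw [if_pos (by omega)]; exact hp'i 2 (by omega)
    have hd1 : d 1 = p 3 := by simp only [d]; rw [if_pos (by omega)]; exact hp'i 3 (by omega)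
    have hdb : d b = δ := by simp only [d]; rw [if_neg (by omega)]
    have hn := crit_not_mem h hz (all_crit_odd h hz hb3 ho hd (hd0 ▸ hA2)) (c := p 1) (hd0 ▸ h12.symm)
      (hd1 ▸ hp.2 1 (by omega))
    rw [← hbdef, hdb] at hn
    have hBs : ¬ IsA s := not_isA hs hA1
    have hc'Q : c' ∈ Qv δ := Vd_le_Q h hz (k := 2) (w := consW s (consW s₁ fun _ => δ))
      (Walk.cons (Walk.cons (k := 0) (fun i hi => absurd hi (by omega)) hδ) hs₁) hBs (by omega) hcb'
    have hcQ : c ∈ Qv δ := by
      by_cases hb7 : 5 < b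
      · exact Vd_le_Q h hz (k := 4) (w := consW (p b) (consW (p (b - 1)) (consW s (consW s₁ fun _ => δ))))
          (Walk.cons (Walk.cons (Walk.cons (Walk.cons (k := 0) (fun i hi => absurd hi (by omega)) hδ) hs₁) hs)
            hlast.symm) hBb (by omega) hcVd
      have hb5 : b = 5 := by omega
      have hbb : Adj (p b) (p (b + 1)) := hp.1 b (by omega)
      have key : ∀ {v r₀ : CosetVertex M₁ M₂}, Adj (p b) v → v ≠ p (b - 1) → Adj v r₀ → r₀ ≠ p b →
          zOf z r₀ ∈ Ev δ s₁ ∧ zOf z r₀ ∉ Qv δ := by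
        intro v r₀ hv hvn hr₀ hr₀n
        have hvA := isA_of_adj hv hBb
        let a : ℕ → CosetVertex M₁ M₂ := consW v (consW (p b) (consW (p (b - 1)) (consW s (consW s₁ fun _ => δ))))
        have ha : Arc 5 a := by
          refine Arc.cons (Arc.cons (Arc.cons (Arc.cons (Arc.cons (k := 0)
            ⟨fun i hi => absurd hi (by omega), fun i hi => absurd hi (by omega)⟩ hδ
            (fun h1 => absurd h1 (by omega))) hs₁ (fun _ => by exact hδn.symm)) hs (fun _ => by exact hs₁1.symm))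
            hlast.symm (fun _ => by exact hsb.symm)) hv.symm fun _ => by exact hvn
        have hac := all_crit_odd h hz hb3 ho (w := a) (by rwa [← hbdef, hb5]) hvA
        have hnQ := crit_not_mem h hz hac (c := r₀) hr₀ hr₀n
        rw [← hbdef, hb5] at hnQ
        exact ⟨mem_Ev.2 ⟨Y_fix h hz (k := 5) ha.1 hvA (by omega) (zOf_mem_Y hr₀),
          Y_fix h hz (k := 4) (ha.1.mono (by omega)) hvA (by omega) (zOf_mem_Y hr₀)⟩, hnQ⟩
      have hbn : p (b + 1) ≠ p (b - 1) := fun e => hp.2 (b - 1) (by omega) (by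
        rw [show b - 1 + 2 = b + 1 by omega]; exact e.symm)
      have hub : zOf z q • p b = p b := hu b le_rfl
      have hub1 : zOf z q • p (b - 1) = p (b - 1) := hu (b - 1) (by omega)
      obtain ⟨k1, k2⟩ := key (adj_fix (mem_St.2 hub) hbb)
        (fun e => hbn (smul_left_cancel _ (e.trans hub1.symm))) (adj_smul (zOf z q) hr)
        (fun e => hr1 (smul_left_cancel _ (e.trans hub.symm)))
      obtain ⟨k3, k4⟩ := key hbb hbn hr hr1
      rw [e2]
      exact h.mul_mem_Qv hδ.symm k1 k3 k2 k4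
    refine hn ?_
    have : c * c' = zOf z (p 1) := by
      rw [hcc, ← mul_assoc, Vd_sq h hz hb3 hB1 hc1, one_mul]
    rw [← this]
    exact mul_mem hcQ hc'Q

/-- The critical distance is not an odd number of at least five. -/
theorem no_five : False := by
  set a₀ : CosetVertex M₁ M₂ := Sum.inl ((1 : X) : X ⧸ M₁)
  obtain ⟨s, hs, -⟩ := exists_arc_ext h (k := 0) (n := 9) (w := fun _ => a₀)
    ⟨fun i hi => absurd hi (by omega), fun i hi => absurd hi (by omega)⟩
  set b := bz M₁ M₂ z with hbdef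
  -- the distance is five
  have hb5 : b = 5 := by
    obtain ⟨s', hs', he⟩ := exists_arc_ext h (k := 0) (n := b + 1) (w := fun _ => a₀)
      ⟨fun i hi => absurd hi (by omega), fun i hi => absurd hi (by omega)⟩
    rw [Nat.zero_add] at hs'
    obtain ⟨q, hq, hq1⟩ := h.exists_ne (hs'.1 0 (by omega))
    obtain ⟨r, hr, hr1⟩ := h.exists_ne (hs'.1 b (by omega)).symm
    exact (five_comm h hz hb ho hs' (by rw [he 0 le_rfl]; rfl) hq hq1 hr hr1).1
  obtain ⟨s, hs, he⟩ := exists_arc_ext h (k := 0) (n := 8) (w := fun _ => a₀)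
    ⟨fun i hi => absurd hi (by omega), fun i hi => absurd hi (by omega)⟩
  rw [Nat.zero_add] at hs
  have hA0 : IsA (s 0) := by rw [he 0 le_rfl]; rfl
  have hA8 : IsA (s 8) := by rw [hs.1.parity le_rfl]; exact iff_of_true hA0 (by decide)
  have hA4 : IsA (s 4) := by rw [hs.1.parity (by omega)]; exact iff_of_true hA0 (by decide)
  obtain ⟨q, hq, hq1⟩ := h.exists_ne (hs.1 0 (by omega))
  obtain ⟨r, hr, hr1⟩ := h.exists_ne (hs.1 7 (by omega)).symm
  set x := zOf z q with hxd
  set y := zOf z r with hyd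
  have half : ∀ {t : ℕ → CosetVertex M₁ M₂} {q r : CosetVertex M₁ M₂}, Arc 8 t → IsA (t 0) → IsA (t 8) →
      Adj (t 0) q → q ≠ t 1 → Adj (t 8) r → r ≠ t 7 →
      (zOf z q * zOf z r) * (zOf z q * zOf z r) * ((zOf z q * zOf z r) * (zOf z q * zOf z r)) =
        zOf z (t 3) := by
    intro t q r ht h0 h8 hq hq1 hr hr1
    set y := zOf z r with hyd
    have hr' : Arc 8 (revW 8 t) := ht.rev
    have hyfix : ∀ i, 3 ≤ i → i ≤ 8 → y • t i = t i := fun i hi hi' => by
      have := Y_fix h hz (hr'.1.mono (show 8 - i ≤ 8 by omega)) (by simpa [revW] using h8) (by omega)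
        (show y ∈ Y z (revW 8 t 0) from zOf_mem_Y hr)
      rwa [revW, show 8 - (8 - i) = i by omega] at this
    have hyQ : y ∉ Qv (t 3) := by
      have hc := all_crit_odd h hz (by omega) ho (w := revW 8 t) (hr'.mono (by omega)) (by simpa [revW] using h8)
      have := crit_not_mem h hz hc (c := r) (by simpa [revW] using hr) (by simpa [revW] using hr1)
      rwa [← hbdef, hb5] at this
    have h34 := ht.1 3 (by omega)
    have h23 := ht.1 2 (by omega)
    have hy3 : y • t 3 = t 3 := hyfix 3 le_rfl (by omega)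
    have hy2 : y • t 2 ≠ t 2 := h.move h34 h23.symm (ht.2 2 (by omega))
      (mem_Ev.2 ⟨hy3, hyfix 4 (by omega) (by omega)⟩) hyQ
    let a : ℕ → CosetVertex M₁ M₂ := consW (t 0) (consW (t 1) (consW (t 2) (consW (t 3)
      (consW (y • t 2) (consW (y • t 1) fun _ => y • t 0)))))
    have ha : Arc 6 a := by
      refine Arc.cons (Arc.cons (Arc.cons (Arc.cons (Arc.cons (Arc.cons (k := 0)
        ⟨fun i hi => absurd hi (by omega), fun i hi => absurd hi (by omega)⟩
        (adj_smul y (ht.1 0 (by omega))).symm (fun h1 => absurd h1 (by omega)))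
        (adj_smul y (ht.1 1 (by omega))).symm fun _ e => ht.2 0 (by omega) (smul_left_cancel y e).symm) ?_ ?_)
        h23 fun _ => hy2.symm) (ht.1 1 (by omega)) fun _ => ht.2 1 (by omega)) (ht.1 0 (by omega))
        fun _ => ht.2 0 (by omega)
      · show Adj (t 3) (y • t 2)
        have := (adj_smul y h23).symm
        rwa [hy3] at this
      · intro _
        show t 3 ≠ y • t 1
        exact fun e => ht.2 1 (by omega) (smul_left_cancel y (e.symm.trans hy3.symm))
    have := (five_comm h hz hb ho (p := a) (q := q) (r := y • q) (by rw [← hbdef, hb5]; exact ha) h0 hq hq1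
      (by rw [← hbdef, hb5]; exact adj_smul y hq)
      (by rw [← hbdef, hb5]; exact fun e => hq1 (smul_left_cancel y e))).2
    rw [zOf_smul h hz, hyd, zOf_inv h hz, ← hyd] at this
    rw [show a 3 = t 3 from rfl] at this
    rw [← this]
    group
  have e1 := half hs hA0 hA8 hq hq1 hr hr1
  have e2 := half hs.rev (q := r) (r := q) (by simpa [revW] using hA8) (by simpa [revW] using hA0)
    (by simpa [revW] using hr) (by simpa [revW] using hr1) (by simpa [revW] using hq)
    (by simpa [revW] using hq1)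
  rw [← hxd, ← hyd] at e1 e2
  have e3 : (y * x) * (y * x) * ((y * x) * (y * x)) = ((x * y) * (x * y) * ((x * y) * (x * y)))⁻¹ := by
    simp only [mul_inv_rev, hxd, hyd, zOf_inv h hz]
  rw [e3, e1, zOf_inv h hz, show revW 8 s 3 = s 5 from rfl] at e2
  exact hs.2 3 (by omega) (zOf_inj h hz (hs.1 3 (by omega)).symm (hs.1 4 (by omega)) hA4 e2)

end CfsgLib.LocalEven.AmalgamGold
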