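/-
The critical distance is not three.
-/
import Cfsg.Agent.Lib.LocalEven.AmalgamGold.Five
import Cfsg.Agent.Lib.LocalEven.AmalgamGold.Even

set_option autoImplicit false
set_option linter.unusedSectionVars false
set_option linter.style.haveILetI false

namespace CfsgLib.LocalEven.AmalgamGold

open Cfsg CfsgLib.LocalEven.CosetGraph CfsgLib.LocalEven.SylowIn CfsgLib.LocalEven.Amalgam

variable {X : Type*} [Group X] {M₁ M₂ : Subgroup X} {z : X}

/-- The centralizer of `Vd` in the kernel. -/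
noncomputable def Cv (z : X) (c : CosetVertex M₁ M₂) : Subgroup X :=
  Qv c ⊓ Subgroup.centralizer (Vd z c : Set X)

/-- The intersection of the centralizers at the neighbours. -/
noncomputable def Kv (z : X) (a : CosetVertex M₁ M₂) : Subgroup X :=
  ⨅ (c : CosetVertex M₁ M₂) (_ : Adj a c), Cv z c

theorem mem_Kv {a : CosetVertex M₁ M₂} {k : X} : k ∈ Kv z a ↔ ∀ c, Adj a c → k ∈ Cv z c := by
  simp [Kv, Subgroup.mem_iInf]

variable (h : Hyp M₁ M₂)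
include h

/-- Every involution in the centre of an edge group has critical distance three. -/
theorem bz_eq_three (hz : Elt M₁ M₂ z) : bz M₁ M₂ z = 3 := by
  have h2 := two_le_b h hz
  rcases Nat.even_or_odd (bz M₁ M₂ z) with he | ho
  · exfalso
    by_cases hb : bz M₁ M₂ z = 2
    · exact no_two h hz hb
    · obtain ⟨m, hm⟩ := id he
      exact even_four h hz (by omega) he
  · by_contra hb
    obtain ⟨m, hm⟩ := id ho
    exact no_five h hz (by omega) ho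

variable (hz : Elt M₁ M₂ z) (hb : bz M₁ M₂ z = 3)
include hz hb

theorem crit3 {μ x lam y a : CosetVertex M₁ M₂} (hμA : IsA μ) (h1 : Adj μ x) (h2 : Adj x lam) (h3 : Adj lam y)
    (n1 : μ ≠ lam) (n2 : x ≠ y) (ha : Adj μ a) (hax : a ≠ x) : zOf z a ∉ Qv y := by
  have harc : Arc 3 (consW μ (consW x (consW lam fun _ => y))) := by
    refine Arc.cons (Arc.cons (Arc.cons (k := 0)
      ⟨fun i hi => absurd hi (by omega), fun i hi => absurd hi (by omega)⟩ h3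
      (fun h1 => absurd h1 (by omega))) h2 (fun _ => by exact n2)) h1 (fun _ => by exact n1)
  have hT := trans_three h 3 le_rfl
  rw [← hb] at hT harc
  have := crit_not_mem h hz (all_crit h hz hT harc hμA) (c := a) ha hax
  rwa [hb] at this

/-- The commutator of generators of two neighbouring groups. -/
theorem comm3 {lam x y y' μ a ν c : CosetVertex M₁ M₂} (hA : IsA lam) (hx : Adj lam x) (hy : Adj lam y)
    (hy' : Adj lam y') (nxy : x ≠ y) (nxy' : x ≠ y') (nyy' : y ≠ y') (hμ : Adj x μ) (hμl : μ ≠ lam)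
    (ha : Adj μ a) (hax : a ≠ x) (hν : Adj y ν) (hνl : ν ≠ lam) (hc : Adj ν c) (hcy : c ≠ y) :
    zOf z c * zOf z a * zOf z c = zOf z a * zOf z y' := by
  have hb3 : 3 ≤ bz M₁ M₂ z := hb.ge
  have hBx := not_isA hx hA
  have hBy := not_isA hy hA
  have hμA := isA_of_adj hμ hBx
  have hνA := isA_of_adj hν hBy
  set u := zOf z a with hud
  set w := zOf z c with hwd
  have huVx : u ∈ Vd z x := z_mem_Vd hμ ha
  have hwVy : w ∈ Vd z y := z_mem_Vd hν hc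
  have huQ := crit3 h hz hb hμA hμ.symm hx.symm hy hμl nxy ha hax
  have hwQ := crit3 h hz hb hνA hν.symm hy.symm hx hνl nxy.symm hc hcy
  have huE : u ∈ Ev lam y := h.Qv_le_Ev hy (Vd_le_Qv_nbr h hz hb3 hx.symm hA huVx)
  have hwE : w ∈ Ev lam x := h.Qv_le_Ev hx (Vd_le_Qv_nbr h hz hb3 hy.symm hA hwVy)
  have hwμ : w • μ ≠ μ := h.move hx.symm hμ hμl ((Ev_symm _ _).le hwE) hwQ
  have huν : u • ν ≠ ν := h.move hy.symm hν hνl ((Ev_symm _ _).le huE) huQ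
  have hw1 : w • x = x := (mem_Ev.1 hwE).2
  have hu1 : u • y = y := (mem_Ev.1 huE).2
  have hμ' : Adj x (w • μ) := adj_fix (mem_St.2 hw1) hμ
  have hν' : Adj y (u • ν) := adj_fix (mem_St.2 hu1) hν
  have e1 : u * w * u * w = u * zOf z (w • a) := by
    rw [zOf_smul h hz, hwd, zOf_inv h hz, ← hud]; group
  have e2 : u * w * u * w = zOf z (u • c) * w := by
    rw [zOf_smul h hz, hud, zOf_inv h hz, ← hwd]
  have hd := meet h hz hb3 hA hx hy nxy (e := u * w * u * w)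
    (by rw [e1]; exact mul_mem huVx (z_mem_Vd hμ' (adj_smul w ha)))
    (by rw [e2]; exact mul_mem (z_mem_Vd hν' (adj_smul u hc)) hwVy)
  have hne : ∀ {p q : CosetVertex M₁ M₂}, Adj q p → Adj μ q → q = x →
      ∀ {v : X}, (v = 1 ∨ v = zOf z q) → zOf z (w • a) ≠ u * v := by
    rintro p q - - rfl v hv e
    have hm : zOf z (w • a) ∈ Y z μ := by
      rw [e]
      rcases hv with rfl | rfl
      · simpa using (zOf_mem_Y ha : u ∈ Y z μ)
      · exact mul_mem (zOf_mem_Y ha) (zOf_mem_Y hμ.symm)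
    have hwa : Adj (w • μ) (w • a) := adj_smul w ha
    rcases Y_inter h hz hμ hμ' hμA (Ne.symm hwμ) hm (zOf_mem_Y hwa) with e' | e'
    · exact zOf_ne_one h hz hwa ((isA_smul w μ).2 hμA) e'
    · exact hax (smul_left_cancel w ((zOf_inj h hz hwa hμ'.symm ((isA_smul w μ).2 hμA) e').trans hw1.symm))
  have hsq : u * u = 1 := zOf_sq h hz a
  have hwsq : w * w = 1 := zOf_sq h hz c
  have e3 : zOf z (w • a) = w * u * w := by rw [zOf_smul h hz, hwd, zOf_inv h hz]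
  have hfinal : ∀ {v : X}, u * w * u * w = v → w * u * w = u * v := fun {v} e => by
    rw [← e, mul_assoc u, mul_assoc u, ← mul_assoc u u, hsq, one_mul]
  rcases (mem_Y h hz hA).1 hd with e | ⟨η, hη, e⟩
  · exact absurd (e3.trans (hfinal e)) (hne hμ hμ.symm rfl (Or.inl rfl))
  obtain ⟨f, hf, hfx, hfy, hall⟩ := h.third hx hy nxy
  have hfy' : f = y' := by
    rcases hall y' hy' with e' | e' | e'
    exacts [absurd e'.symm nxy', absurd e'.symm nyy', e'.symm]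
  rcases hall η hη with rfl | rfl | rfl
  · exact absurd (e3.trans (hfinal e)) (hne hμ hμ.symm rfl (Or.inr rfl))
  · exfalso
    have e4 : zOf z (u • c) = zOf z η * w := by rw [← e, e2, mul_assoc, hwsq, mul_one]
    have hwa : Adj (u • ν) (u • c) := adj_smul u hc
    have hm : zOf z (u • c) ∈ Y z ν := e4 ▸ mul_mem (zOf_mem_Y hν.symm) (zOf_mem_Y hc)
    rcases Y_inter h hz hν hν' hνA (Ne.symm huν) hm (zOf_mem_Y hwa) with e' | e'
    · exact zOf_ne_one h hz hwa ((isA_smul u ν).2 hνA) e'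
    · exact hcy (smul_left_cancel u ((zOf_inj h hz hwa hν'.symm ((isA_smul u ν).2 hνA) e').trans hu1.symm))
  · rw [← hfy']; exact hfinal e

/-- Two four-groups generate the group at a vertex of the second kind. -/
theorem Vd_gen {lam x μ a : CosetVertex M₁ M₂} (hA : IsA lam) (hx : Adj lam x) (hμ : Adj x μ) (hμl : μ ≠ lam)
    (ha : Adj μ a) (hax : a ≠ x) {v : X} (hv : v ∈ Vd z x) :
    v ∈ Y z lam ∨ ∃ t ∈ Y z lam, v = t * zOf z a := by
  have hb3 : 3 ≤ bz M₁ M₂ z := hb.ge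
  have hBx := not_isA hx hA
  obtain ⟨y, hy, nyx⟩ := h.exists_ne hx
  obtain ⟨y', hy', n1, n2, -⟩ := h.third hx hy nyx.symm
  obtain ⟨ν, hν, hνl⟩ := h.exists_ne hy.symm
  obtain ⟨c, hc, hcy⟩ := h.exists_ne hν.symm
  have hνA := isA_of_adj hν (not_isA hy hA)
  have hwQ := crit3 h hz hb hνA hν.symm hy.symm hx hνl nyx hc hcy
  have hwE : zOf z c ∈ Ev lam x := h.Qv_le_Ev hx (Vd_le_Qv_nbr h hz hb3 hy.symm hA (z_mem_Vd hν hc))
  have hwμ := h.move hx.symm hμ hμl ((Ev_symm _ _).le hwE) hwQ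
  have hμ' : Adj x (zOf z c • μ) := adj_fix (mem_St.2 (mem_Ev.1 hwE).2) hμ
  have hμ'l : zOf z c • μ ≠ lam := fun e => hμl (smul_left_cancel _ (e.trans (mem_Ev.1 hwE).1.symm))
  have eb : zOf z (zOf z c • a) = zOf z a * zOf z y' := by
    rw [zOf_smul h hz, zOf_inv h hz]
    exact comm3 h hz hb hA hx hy hy' nyx.symm n1.symm n2.symm hμ hμl ha hax hν hνl hc hcy
  have hyV : zOf z y' ∈ Vd z x := z_mem_Vd hx.symm hy'
  have haV : zOf z a ∈ Vd z x := z_mem_Vd hμ ha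
  have hY : zOf z y' ∈ Y z lam := zOf_mem_Y hy'
  obtain ⟨t, ht, e | e | e | e⟩ := Vd_decomp h hz hb3 hx.symm hA hμ hμ' hμl hμ'l (Ne.symm hwμ) ha hax
    (adj_smul (zOf z c) ha) (fun e => hax (smul_left_cancel _ (e.trans (mem_Ev.1 hwE).2.symm))) hv
  · exact Or.inl (e ▸ ht)
  · exact Or.inr ⟨t, ht, e⟩
  · refine Or.inr ⟨t * zOf z y', mul_mem ht hY, ?_⟩
    rw [e, eb, Vd_comm h hz hb3 hBx haV hyV, mul_assoc]
  · refine Or.inl ?_
    rw [e, eb, ← mul_assoc (zOf z a), zOf_sq h hz, one_mul]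
    exact mul_mem ht hY

theorem Y_le_nbr {lam x : CosetVertex M₁ M₂} (hA : IsA lam) (hx : Adj lam x) : Y z lam ≤ Qv x :=
  le_Q (k := 1) (w := consW lam fun _ => x) (Walk.cons (k := 0) (fun i hi => absurd hi (by omega)) hx) hA
    (by omega)

/-- `Vd` meets the kernel of a neighbour at distance two in the four-group. -/
theorem Vd_inf_Qv {lam x y : CosetVertex M₁ M₂} (hA : IsA lam) (hx : Adj lam x) (hy : Adj lam y) (hne : x ≠ y)
    {v : X} (hv : v ∈ Vd z x) (hvQ : v ∈ Qv y) : v ∈ Y z lam := by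
  obtain ⟨μ, hμ, hμl⟩ := h.exists_ne hx.symm
  obtain ⟨a, ha, hax⟩ := h.exists_ne hμ.symm
  rcases Vd_gen h hz hb hA hx hμ hμl ha hax hv with e | ⟨t, ht, rfl⟩
  · exact e
  refine absurd ?_ (crit3 h hz hb (isA_of_adj hμ (not_isA hx hA)) hμ.symm hx.symm hy hμl hne ha hax)
  simpa using mul_mem (inv_mem (Y_le_nbr h hz hb hA hy ht)) hvQ

theorem Cv_le_Qv {c a : CosetVertex M₁ M₂} (hca : Adj c a) (hc : ¬ IsA c) : Cv z c ≤ Qv a := fun g hg =>
  mem_Qv_of_cent h hz (isA_of_adj hca hc) (mem_St.2 (h.Qv_fix hca hg.1)) fun _ hx =>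
    (Subgroup.mem_centralizer_iff.1 hg.2 _ (Y_le_Vd hca hx)).symm

theorem mem_Cv {lam x μ : CosetVertex M₁ M₂} (hA : IsA lam) (hx : Adj lam x) (hμ : Adj x μ) (hμl : μ ≠ lam)
    {g : X} (h1 : g ∈ Qv x) (h2 : g ∈ Qv lam) (h3 : g ∈ Qv μ) : g ∈ Cv z x := by
  obtain ⟨a, ha, hax⟩ := h.exists_ne hμ.symm
  have hμA := isA_of_adj hμ (not_isA hx hA)
  refine ⟨h1, Subgroup.mem_centralizer_iff.2 fun v hv => ?_⟩
  have ha' := Y_comm_Qv h hz hμA h3 (zOf_mem_Y ha : zOf z a ∈ Y z μ)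
  rcases Vd_gen h hz hb hA hx hμ hμl ha hax hv with e | ⟨t, ht, rfl⟩
  · exact (Y_comm_Qv h hz hA h2 e).symm
  · rw [mul_assoc, ← ha', ← mul_assoc, ← Y_comm_Qv h hz hA h2 ht, mul_assoc]

theorem Cv_conj {g x : X} {c d : CosetVertex M₁ M₂} (hgc : g • c = d) (hx : x ∈ Cv z c) :
    g * x * g⁻¹ ∈ Cv z d := by
  subst hgc
  refine ⟨conj_mem_map (h.Qv_smul g c) hx.1, Subgroup.mem_centralizer_iff.2 fun v hv => ?_⟩
  have hv' : g⁻¹ * v * g ∈ Vd z c := by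
    have := conj_mem_map (Vd_smul h hz g⁻¹ (g • c)) hv
    rwa [inv_smul_smul, inv_inv] at this
  have := Subgroup.mem_centralizer_iff.1 hx.2 _ hv'
  calc v * (g * x * g⁻¹) = g * (g⁻¹ * v * g * x) * g⁻¹ := by group
    _ = g * (x * (g⁻¹ * v * g)) * g⁻¹ := by rw [this]
    _ = _ := by group

theorem Kv_conj {g k : X} {a : CosetVertex M₁ M₂} (hg : g ∈ St a) (hk : k ∈ Kv z a) :
    g * k * g⁻¹ ∈ Kv z a :=
  mem_Kv.2 fun c hc => Cv_conj h hz hb (smul_inv_smul g c) (mem_Kv.1 hk _ (adj_fix (inv_mem hg) hc))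

theorem Kv_le {a c : CosetVertex M₁ M₂} (hA : IsA a) (hc : Adj a c) : Kv z a ≤ Qv a := fun _ hk =>
  Cv_le_Qv h hz hb hc.symm (not_isA hc hA) (mem_Kv.1 hk c hc)

theorem Y_le_Kv {a : CosetVertex M₁ M₂} (hA : IsA a) : Y z a ≤ Kv z a := fun v hv => mem_Kv.2 fun c hc =>
  ⟨Y_le_nbr h hz hb hA hc hv, Subgroup.mem_centralizer_iff.2 fun _ hu =>
    Vd_comm h hz hb.ge (not_isA hc hA) hu (Y_le_Vd hc.symm hv)⟩

/-- An element of the kernel at `x` exchanging the other neighbours of `lam` and trivial on `Cv` modulo `Vd`. -/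
theorem exists_n {lam x : CosetVertex M₁ M₂} (hA : IsA lam) (hx : Adj lam x) :
    ∃ n ∈ Qv x, n ∉ Qv lam ∧ ∀ c ∈ Cv z x, n * c * n⁻¹ * c⁻¹ ∈ Vd z x := by
  have hb3 : 3 ≤ bz M₁ M₂ z := hb.ge
  have hBx := not_isA hx hA
  obtain ⟨y, hy, nyx⟩ := h.exists_ne hx
  obtain ⟨ν, hν, hνl⟩ := h.exists_ne hy.symm
  obtain ⟨d, hd, hdy⟩ := h.exists_ne hν.symm
  have hwQ := crit3 h hz hb (isA_of_adj hν (not_isA hy hA)) hν.symm hy.symm hx hνl nyx hd hdy
  set w := zOf z d with hwd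
  have hwV : w ∈ Vd z y := z_mem_Vd hν hd
  have hwl : w ∈ Qv lam := Vd_le_Qv_nbr h hz hb3 hy.symm hA hwV
  have hwE : w ∈ Ev lam x := h.Qv_le_Ev hx hwl
  have hw1 : w • x = x := (mem_Ev.1 hwE).2
  obtain ⟨μ, hμ, hμl⟩ := h.exists_ne hx.symm
  set μ' := w • μ with hμ'd
  have hwμ : μ' ≠ μ := h.move hx.symm hμ hμl ((Ev_symm _ _).le hwE) hwQ
  have hμ' : Adj x μ' := adj_fix (mem_St.2 hw1) hμ
  have hwtriv : ∀ c ∈ Cv z x, w * c * w⁻¹ * c⁻¹ ∈ Vd z x := by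
    intro c hc
    refine Y_le_Vd hx.symm (Vd_inf_Qv h hz hb hA hy hx nyx ?_ ?_)
    · have hcy : c • y = y := h.Qv_fix hy (Cv_le_Qv h hz hb hx.symm hBx hc)
      have := mul_mem hwV (conj_mem_Vd h hz hcy (inv_mem hwV))
      rwa [show w * (c * w⁻¹ * c⁻¹) = w * c * w⁻¹ * c⁻¹ by group] at this
    · exact mul_mem (Cv_conj h hz hb hw1 hc).1 (inv_mem hc.1)
  -- conjugate `w` to an element `s` moving `μ` to `lam`
  obtain ⟨g, hg, hgμ, hgμ'⟩ := h.trans2 hμ hμ' hwμ.symm hμ hx.symm hμl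
  have hgx := mem_St.1 hg
  set s := g * w * g⁻¹ with hsd
  have hsμ : s • μ = lam := by
    rw [hsd, mul_smul, mul_smul, inv_smul_eq_iff.2 hgμ.symm, ← hμ'd, hgμ']
  have hsx : s • x = x := by rw [hsd, mul_smul, mul_smul, inv_smul_eq_iff.2 hgx.symm, hw1, hgx]
  have hstriv : ∀ c ∈ Cv z x, s * c * s⁻¹ * c⁻¹ ∈ Vd z x := by
    intro c hc
    have hgi : g⁻¹ • x = x := mem_St.1 (inv_mem hg)
    have hc' : g⁻¹ * c * g ∈ Cv z x := by simpa using Cv_conj h hz hb hgi hc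
    have := conj_mem_Vd h hz hgx (hwtriv _ hc')
    rwa [show g * (w * (g⁻¹ * c * g) * w⁻¹ * (g⁻¹ * c * g)⁻¹) * g⁻¹ = s * c * s⁻¹ * c⁻¹ by
      rw [hsd]; group] at this
  obtain ⟨q, hqx, hql, hqμ⟩ := nd_B h hz hb3 hμ hx.symm hBx hμl
  have hq1 : q • x = x := mem_St.1 (Qv_le_St x hqx)
  refine ⟨s * q * s⁻¹ * q⁻¹, mul_mem (h.conj_mem_Qv (mem_St.2 hsx) hqx) (inv_mem hqx), fun hn => hqμ ?_, ?_⟩
  · have e : s * q * s⁻¹ ∈ Qv lam := by
      have := mul_mem hn hql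
      rwa [inv_mul_cancel_right] at this
    rw [← hsμ, h.mem_Qv_smul] at e
    simpa [mul_assoc] using e
  · intro c hc
    -- write the commutator as `s * (q * s⁻¹ * q⁻¹)`
    have ht : ∀ c ∈ Cv z x, q * s⁻¹ * q⁻¹ * c * (q * s⁻¹ * q⁻¹)⁻¹ * c⁻¹ ∈ Vd z x := by
      intro c hc
      have hqi : q⁻¹ • x = x := mem_St.1 (inv_mem (Qv_le_St x hqx))
      have hc1 : q⁻¹ * c * q ∈ Cv z x := by simpa using Cv_conj h hz hb hqi hc
      have hsi : s⁻¹ • x = x := mem_St.1 (inv_mem (mem_St.2 hsx : s ∈ St x))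
      have hc2 : s⁻¹ * (q⁻¹ * c * q) * s ∈ Cv z x := by simpa using Cv_conj h hz hb hsi hc1
      have := conj_mem_Vd h hz hq1 (inv_mem (hstriv _ hc2))
      rwa [show q * (s * (s⁻¹ * (q⁻¹ * c * q) * s) * s⁻¹ * (s⁻¹ * (q⁻¹ * c * q) * s)⁻¹)⁻¹ * q⁻¹ =
        q * s⁻¹ * q⁻¹ * c * (q * s⁻¹ * q⁻¹)⁻¹ * c⁻¹ by group] at this
    have := mul_mem (conj_mem_Vd h hz hsx (ht c hc)) (hstriv c hc)
    rwa [show s * (q * s⁻¹ * q⁻¹ * c * (q * s⁻¹ * q⁻¹)⁻¹ * c⁻¹) * s⁻¹ * (s * c * s⁻¹ * c⁻¹) =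
      s * q * s⁻¹ * q⁻¹ * c * (s * q * s⁻¹ * q⁻¹)⁻¹ * c⁻¹ by group] at this

/-- The centralizers at two neighbours meet in the intersection of all three. -/
theorem Cv_inter {lam x y : CosetVertex M₁ M₂} (hA : IsA lam) (hx : Adj lam x) (hy : Adj lam y) (hne : x ≠ y)
    {p : X} (hpx : p ∈ Cv z x) (hpy : p ∈ Cv z y) : p ∈ Kv z lam := by
  have hb3 : 3 ≤ bz M₁ M₂ z := hb.ge
  obtain ⟨y', hy', n1, n2, hall⟩ := h.third hx hy hne
  refine mem_Kv.2 fun c hc => ?_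
  rcases hall c hc with rfl | rfl | rfl
  · exact hpx
  · exact hpy
  have hpl : p ∈ Qv lam := Cv_le_Qv h hz hb hx.symm (not_isA hx hA) hpx
  have hBc := not_isA hc hA
  obtain ⟨ν, hν, hνl⟩ := h.exists_ne hc.symm
  have hνA := isA_of_adj hν hBc
  -- the commutator with a generator lies in two different cyclic groups
  have key : ∀ {x y : CosetVertex M₁ M₂}, Adj lam x → Adj lam y → x ≠ y → c ≠ x → c ≠ y → p ∈ Cv z x →
      p ∈ Cv z y → ∀ {d : CosetVertex M₁ M₂}, Adj ν d → d ≠ c →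
      p * zOf z d * p⁻¹ = zOf z d ∨ p * zOf z d * p⁻¹ = zOf z d * zOf z y := by
    intro x y hx hy hne n1 n2 hpx hpy d hd hdc
    obtain ⟨n, hn, hnl, hntriv⟩ := exists_n h hz hb hA hx
    have hnE : n ∈ Ev lam x := h.Qv_le_Ev' hx hn
    have hny : n • y = c := h.swap hx hy hc hne.symm n1 n2 hnE hnl
    have hv : n * p * n⁻¹ * p⁻¹ ∈ Vd z x := hntriv p hpx
    have hp' : n * p * n⁻¹ ∈ Cv z c := Cv_conj h hz hb hny hpy
    set v := n * p * n⁻¹ * p⁻¹ with hvd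
    set w := zOf z d with hwd
    have hwV : w ∈ Vd z c := z_mem_Vd hν hd
    have e1 : p * w * p⁻¹ = v⁻¹ * w * v := by
      have e0 := Subgroup.mem_centralizer_iff.1 hp'.2 w hwV
      calc p * w * p⁻¹ = v⁻¹ * (n * p * n⁻¹ * w) * (n * p * n⁻¹)⁻¹ * v := by rw [hvd]; group
        _ = v⁻¹ * (w * (n * p * n⁻¹)) * (n * p * n⁻¹)⁻¹ * v := by rw [e0]
        _ = _ := by group
    have hBx := not_isA hx hA
    rw [inv_eq_of_mul_eq_one_right (Vd_sq h hz hb3 hBx hv)] at e1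
    have hwl : w ∈ Qv lam := Vd_le_Qv_nbr h hz hb3 hc.symm hA hwV
    obtain ⟨μ, hμ, hμl⟩ := h.exists_ne hx.symm
    obtain ⟨a, ha, hax⟩ := h.exists_ne hμ.symm
    rcases Vd_gen h hz hb hA hx hμ hμl ha hax hv with hvY | ⟨t, ht, e⟩
    · left
      rw [e1, mul_assoc, Y_comm_Qv h hz hA hwl hvY, ← mul_assoc, Y_sq h hz hA hvY, one_mul]
    · right
      have e2 := comm3 h hz hb hA hc hx hy n1 n2 hne hν hνl hd hdc hμ hμl ha hax
      rw [e1, e, show t * zOf z a * w * (t * zOf z a) = t * (zOf z a * w * (t * zOf z a)) by group,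
        Vd_comm h hz hb3 hBx (Y_le_Vd hx.symm ht) (z_mem_Vd hμ ha), ← mul_assoc (zOf z a * w), e2,
        mul_assoc w, ← Y_comm h hz hA ht (zOf_mem_Y hy), ← mul_assoc w, ← mul_assoc t, ← mul_assoc t,
        ← Y_comm_Qv h hz hA hwl ht, mul_assoc w t t, Y_sq h hz hA ht, mul_one]
  have hcomm : ∀ v ∈ Y z ν, p * v = v * p := by
    intro v hv
    rcases (mem_Y h hz hνA).1 hv with rfl | ⟨d, hd, rfl⟩
    · simp
    by_cases hdc : d = c
    · rw [hdc]; exact Y_comm_Qv h hz hA hpl (zOf_mem_Y hc)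
    refine mul_inv_eq_iff_eq_mul.1 ?_
    rcases key hx hy hne n1 n2 hpx hpy hd hdc with e1 | e1
    · exact e1
    rcases key hy hx hne.symm n2 n1 hpy hpx hd hdc with e2 | e2
    · exact e2
    · exact absurd (zOf_inj h hz hy hx hA (mul_left_cancel (e1.symm.trans e2))) hne.symm
  have hpc : p • c = c := h.Qv_fix hc hpl
  have hpν : p • ν = ν := by
    refine Y_inj h hz (adj_fix (mem_St.2 hpc) hν) hν ((isA_smul p ν).2 hνA) ?_
    rw [← Y_smul h hz]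
    ext v
    refine ⟨?_, fun hv => ⟨v, hv, mul_inv_eq_iff_eq_mul.2 (hcomm v hv)⟩⟩
    rintro ⟨v', hv', rfl⟩
    show p * v' * p⁻¹ ∈ _
    rwa [hcomm v' hv', mul_inv_cancel_right]
  exact mem_Cv h hz hb hA hc hν hνl (h.mem_Qv_of_fix hc.symm hν hνl.symm hpc (mem_St.1 (Qv_le_St lam hpl)) hpν)
    hpl (mem_Qv_of_cent h hz hνA (mem_St.2 hpν) hcomm)

/-- The elements fixed at an edge by an element exchanging the other two neighbours. -/
theorem fixed_Y {lam x : CosetVertex M₁ M₂} (hA : IsA lam) (hx : Adj lam x) {n v : X} (hn : n ∈ Ev lam x)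
    (hnl : n ∉ Qv lam) (hv : v ∈ Y z lam) (hfix : n * v * n⁻¹ = v) : v = 1 ∨ v = zOf z x := by
  rcases (mem_Y h hz hA).1 hv with e | ⟨c, hc, rfl⟩
  · exact Or.inl e
  right
  by_contra hne
  refine h.move hx hc (fun e => hne (by rw [e])) hn hnl ?_
  exact zOf_inj h hz (adj_fix (mem_St.2 (mem_Ev.1 hn).1) hc) hc hA (by rw [zOf_smul h hz, hfix])

/-- The only central involution at the edge inside `Kv` is the conjugate at the edge. -/
theorem central_Kv {lam x : CosetVertex M₁ M₂} (hA : IsA lam) (hx : Adj lam x) {e : X} (he : e ∈ Kv z lam)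
    (he2 : e * e = 1) (hcent : ∀ t ∈ Ev lam x, t * e = e * t) : e = 1 ∨ e = zOf z x := by
  have hb3 : 3 ≤ bz M₁ M₂ z := hb.ge
  have hBx := not_isA hx hA
  obtain ⟨y, hy, nyx⟩ := h.exists_ne hx
  obtain ⟨g, hg, hgx⟩ := neighbour_transitive hx hy
  obtain ⟨μ, hμ, hμl⟩ := h.exists_ne hx.symm
  obtain ⟨x', hx', hx'x⟩ := h.exists_ne hμ.symm
  have hμA := isA_of_adj hμ hBx
  -- the system of a central involution has critical distance three
  have hbad : ∀ f ∈ Ev lam x, f * f = 1 → f ≠ 1 → (∀ t ∈ Ev lam x, t * f = f * t) →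
      g * f * g⁻¹ ∈ Qv x' → False := by
    intro f hf hf2 hf1 hfc hfQ
    obtain ⟨x₀, e1, e2⟩ := edge_base hx hA
    have eT : Ev (Sum.inl ((1 : X) : X ⧸ M₁) : CosetVertex M₁ M₂) (Sum.inr ((1 : X) : X ⧸ M₂)) = M₁ ⊓ M₂ := by
      simp only [Ev, edgeStabilizer, stabilizer_inl_one, stabilizer_inr_one]
    have hmem : ∀ {t : X}, t ∈ M₁ ⊓ M₂ → x₀ * t * x₀⁻¹ ∈ Ev lam x := fun {t} ht => by
      rw [e1, e2, ← Ev_smul, eT]; exact ⟨t, ht, rfl⟩
    have hf' : x₀⁻¹ * f * x₀ ∈ M₁ ⊓ M₂ := by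
      rw [e1, e2, ← Ev_smul, eT, mem_map_conj] at hf; exact hf
    have hE : Elt M₁ M₂ (x₀⁻¹ * f * x₀) := by
      refine ⟨hf', fun e => hf1 ?_, ?_, fun t ht => ?_⟩
      · calc f = x₀ * (x₀⁻¹ * f * x₀) * x₀⁻¹ := by group
          _ = 1 := by rw [e]; group
      · calc _ = x₀⁻¹ * (f * f) * x₀ := by group
          _ = 1 := by rw [hf2]; group
      · calc t * (x₀⁻¹ * f * x₀) = x₀⁻¹ * (x₀ * t * x₀⁻¹ * f) * x₀ := by group
          _ = x₀⁻¹ * (f * (x₀ * t * x₀⁻¹)) * x₀ := by rw [hfc _ (hmem ht)]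
          _ = _ := by group
    set z' := x₀⁻¹ * f * x₀ with hz'
    have hb' := bz_eq_three h hE
    have hzx : zOf z' x = f := by rw [e2, zOf_base h hE, hz']; group
    have harc : Arc 3 (consW lam (consW x (consW μ fun _ => x'))) := by
      refine Arc.cons (Arc.cons (Arc.cons (k := 0)
        ⟨fun i hi => absurd hi (by omega), fun i hi => absurd hi (by omega)⟩ hx'
        (fun h1 => absurd h1 (by omega))) hμ (fun _ => by exact hx'x.symm)) hx (fun _ => by exact hμl.symm)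
    have hT := trans_three h 3 le_rfl
    rw [← hb'] at hT harc
    have hn := crit_not_mem h hE (all_crit h hE hT harc hA) (c := y) hy nyx
    rw [hb'] at hn
    exact hn (by rw [← hgx, zOf_smul h hE, hzx]; exact hfQ)
  have heE : e ∈ Ev lam x := h.Qv_le_Ev hx (Kv_le h hz hb hA hx he)
  by_cases hQ : g * e * g⁻¹ ∈ Qv x'
  · left
    by_contra hne
    exact hbad e heE he2 hne hcent hQ
  · right
    have huE : zOf z x ∈ Ev lam x := zOf_mem_Ev h hz hx hA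
    have huc : ∀ t ∈ Ev lam x, t * zOf z x = zOf z x * t := fun t ht =>
      zOf_comm h hz hx hA (Subgroup.mem_inf.1 ht).2
    have hu : zOf z x * zOf z x = 1 := zOf_sq h hz x
    by_contra hne
    refine hbad (e * zOf z x) (mul_mem heE huE) ?_ (fun e' => hne ?_) (fun t ht => ?_) ?_
    · calc _ = e * (zOf z x * e) * zOf z x := by group
        _ = (e * e) * (zOf z x * zOf z x) := by rw [← huc e heE]; group
        _ = 1 := by rw [he2, hu, one_mul]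
    · rw [eq_inv_of_mul_eq_one_left e', zOf_inv h hz]
    · rw [← mul_assoc, hcent t ht, mul_assoc, huc t ht, mul_assoc]
    · have hgu : g * zOf z x * g⁻¹ = zOf z y := by rw [← zOf_smul h hz, hgx]
      rw [show g * (e * zOf z x) * g⁻¹ = g * e * g⁻¹ * (g * zOf z x * g⁻¹) by group, hgu]
      have h1 : g * e * g⁻¹ ∈ Qv μ :=
        Cv_le_Qv h hz hb hμ hBx (mem_Kv.1 (Kv_conj h hz hb hg he) x hx)
      have h2 : zOf z y ∈ Qv μ := Vd_le_Qv_nbr h hz hb3 hμ hμA (z_mem_Vd hx.symm hy)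
      exact h.mul_mem_Qv hx'.symm ((Ev_symm _ _).le (h.Qv_le_Ev hx' h1))
        ((Ev_symm _ _).le (h.Qv_le_Ev hx' h2)) hQ
        (crit3 h hz hb hA hx hμ hx' hμl.symm hx'x.symm hy nyx)

/-- Commutators of an almost central element with the kernel lie in each cyclic group. -/
theorem Kv_comm {lam x : CosetVertex M₁ M₂} (hA : IsA lam) (hx : Adj lam x) {k : X} (hk : k ∈ Kv z lam)
    (hkc : ∀ t ∈ St lam, t * k * t⁻¹ * k⁻¹ ∈ Y z lam) {r : X} (hr : r ∈ Qv lam) :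
    r * k * r⁻¹ * k⁻¹ = 1 ∨ r * k * r⁻¹ * k⁻¹ = zOf z x := by
  have hb3 : 3 ≤ bz M₁ M₂ z := hb.ge
  have hBx := not_isA hx hA
  obtain ⟨y, hy, nyx⟩ := h.exists_ne hx
  obtain ⟨y', hy', n1, n2, -⟩ := h.third hx hy nyx.symm
  obtain ⟨μ, hμ, hμl⟩ := h.exists_ne hx.symm
  obtain ⟨a, ha, hax⟩ := h.exists_ne hμ.symm
  obtain ⟨ν, hν, hνl⟩ := h.exists_ne hy.symm
  obtain ⟨c, hc, hcy⟩ := h.exists_ne hν.symm
  obtain ⟨ν', hν', hν'l⟩ := h.exists_ne hy'.symm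
  obtain ⟨c', hc', hc'y⟩ := h.exists_ne hν'.symm
  set w := zOf z c with hwd
  set w' := zOf z c' with hw'd
  have hwV : w ∈ Vd z y := z_mem_Vd hν hc
  have hw'V : w' ∈ Vd z y' := z_mem_Vd hν' hc'
  have hwl := Vd_le_Qv_nbr h hz hb3 hy.symm hA hwV
  have hw'l := Vd_le_Qv_nbr h hz hb3 hy'.symm hA hw'V
  have hwQ := crit3 h hz hb (isA_of_adj hν (not_isA hy hA)) hν.symm hy.symm hx hνl nyx hc hcy
  have hw'Q := crit3 h hz hb (isA_of_adj hν' (not_isA hy' hA)) hν'.symm hy'.symm hx hν'l n1 hc' hc'y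
  have hkw : w * k = k * w := Subgroup.mem_centralizer_iff.1 (mem_Kv.1 hk y hy).2 w hwV
  have hkw' : w' * k = k * w' := Subgroup.mem_centralizer_iff.1 (mem_Kv.1 hk y' hy').2 w' hw'V
  -- elements of `Cv`
  obtain ⟨n, hn, hnl, hntriv⟩ := exists_n h hz hb hA hx
  have hnE : n ∈ Ev lam x := h.Qv_le_Ev' hx hn
  have hCv : ∀ t ∈ Cv z x, t * k * t⁻¹ * k⁻¹ = 1 ∨ t * k * t⁻¹ * k⁻¹ = zOf z x := by
    intro t ht
    have htl : t ∈ Qv lam := Cv_le_Qv h hz hb hx.symm hBx ht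
    have hfY : t * k * t⁻¹ * k⁻¹ ∈ Y z lam := hkc t (Qv_le_St lam htl)
    refine fixed_Y h hz hb hA hx hnE hnl hfY ?_
    set v := n * t * n⁻¹ * t⁻¹ with hvd
    set y₀ := n * k * n⁻¹ * k⁻¹ with hy₀d
    set f := t * k * t⁻¹ * k⁻¹ with hfd
    have hv : v ∈ Vd z x := hntriv t ht
    have hy₀ : y₀ ∈ Y z lam := hkc n (Subgroup.mem_inf.1 hnE).1
    have ev1 : v * y₀ = y₀ * v := Vd_comm h hz hb3 hBx hv (Y_le_Vd hx.symm hy₀)
    have ev2 : v * k = k * v := Subgroup.mem_centralizer_iff.1 (mem_Kv.1 hk x hx).2 v hv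
    have et : t * y₀ = y₀ * t := Y_comm_Qv h hz hA htl hy₀
    have ev3 : v * f = f * v := Vd_comm h hz hb3 hBx hv (Y_le_Vd hx.symm hfY)
    calc n * f * n⁻¹ = v * t * (y₀ * k) * (v * t)⁻¹ * (y₀ * k)⁻¹ := by rw [hfd, hvd, hy₀d]; group
      _ = v * (t * y₀) * k * t⁻¹ * v⁻¹ * k⁻¹ * y₀⁻¹ := by group
      _ = v * y₀ * f * k * v⁻¹ * k⁻¹ * y₀⁻¹ := by rw [et, hfd]; group
      _ = y₀ * (v * f) * k * v⁻¹ * k⁻¹ * y₀⁻¹ := by rw [ev1]; group
      _ = y₀ * f * (v * k) * v⁻¹ * k⁻¹ * y₀⁻¹ := by rw [ev3]; group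
      _ = y₀ * f * y₀⁻¹ := by rw [ev2]; group
      _ = f := by rw [Y_comm h hz hA hy₀ hfY, mul_inv_cancel_right]
  -- reduce to `Cv`
  have red : ∀ {p : X}, p * k = k * p → ∀ t : X, t * p * k * (t * p)⁻¹ * k⁻¹ = t * k * t⁻¹ * k⁻¹ := by
    intro p hp t
    calc _ = t * (p * k) * p⁻¹ * t⁻¹ * k⁻¹ := by group
      _ = _ := by rw [hp]; group
  have hwE : w ∈ Ev x lam := (Ev_symm _ _).le (h.Qv_le_Ev hx hwl)
  have hw'E : w' ∈ Ev x lam := (Ev_symm _ _).le (h.Qv_le_Ev hx hw'l)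
  have hww : w * w' * k = k * (w * w') := by rw [mul_assoc, hkw', ← mul_assoc, hkw, mul_assoc]
  have hwwμ : w * w' ∉ Qv μ := by
    intro hq
    have hC := mem_Cv h hz hb hA hx hμ hμl (h.mul_mem_Qv hx.symm hwE hw'E hwQ hw'Q) (mul_mem hwl hw'l) hq
    have e := Subgroup.mem_centralizer_iff.1 hC.2 (zOf z a) (z_mem_Vd hμ ha)
    have e1 := comm3 h hz hb hA hx hy hy' nyx.symm n1.symm n2.symm hμ hμl ha hax hν hνl hc hcy
    have e2 := comm3 h hz hb hA hx hy' hy n1.symm nyx.symm n2 hμ hμl ha hax hν' hν'l hc' hc'y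
    rw [← hwd] at e1
    rw [← hw'd] at e2
    have hw'sq : w' * w' = 1 := zOf_sq h hz c'
    have hwsq : w * w = 1 := zOf_sq h hz c
    have e3 : w * zOf z a * w = w' * zOf z a * w' := by
      calc w * zOf z a * w = w * zOf z a * w * (w' * w') := by rw [hw'sq, mul_one]
        _ = w * (zOf z a * (w * w')) * w' := by group
        _ = (w * w) * w' * zOf z a * w' := by rw [e]; group
        _ = _ := by rw [hwsq, one_mul]
    rw [e1, e2] at e3
    exact n2 (zOf_inj h hz hy' hy hA (mul_left_cancel e3))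
  have step2 : ∀ t ∈ Qv lam, t ∈ Qv x → t * k * t⁻¹ * k⁻¹ = 1 ∨ t * k * t⁻¹ * k⁻¹ = zOf z x := by
    intro t htl htx
    by_cases htμ : t ∈ Qv μ
    · exact hCv t (mem_Cv h hz hb hA hx hμ hμl htx htl htμ)
    · rw [← red hww t]
      have hwwx := h.mul_mem_Qv hx.symm hwE hw'E hwQ hw'Q
      exact hCv _ (mem_Cv h hz hb hA hx hμ hμl (mul_mem htx hwwx) (mul_mem htl (mul_mem hwl hw'l))
        (h.mul_mem_Qv hμ.symm (h.Qv_le_Ev' hμ.symm htx) (h.Qv_le_Ev' hμ.symm hwwx) htμ hwwμ))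
  by_cases hrx : r ∈ Qv x
  · exact step2 r hr hrx
  · rw [← red hkw r]
    exact step2 _ (mul_mem hr hwl) (h.mul_mem_Qv hx.symm ((Ev_symm _ _).le (h.Qv_le_Ev hx hr)) hwE hrx hwQ)

/-- The intersection of the three centralizers is the four-group. -/
theorem Kv_eq {lam x : CosetVertex M₁ M₂} (hA : IsA lam) (hx : Adj lam x) : Kv z lam ≤ Y z lam := by
  have hb3 : 3 ≤ bz M₁ M₂ z := hb.ge
  by_contra hne
  have hBx := not_isA hx hA
  set T : Subgroup X := Ev lam x with hT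
  have hKT : Kv z lam ≤ T := (Kv_le h hz hb hA hx).trans (h.Qv_le_Ev hx)
  haveI := h.finite_Ev lam x
  haveI hMn : ((Y z lam).subgroupOf T).Normal :=
    (Subgroup.normal_subgroupOf_iff_le_normalizer (Y_le_Ev h hz hx hA)).2
      ((inf_le_left : T ≤ St lam).trans (St_le_normalizer_Y h hz lam))
  haveI hNn : ((Kv z lam).subgroupOf T).Normal :=
    (Subgroup.normal_subgroupOf_iff_le_normalizer hKT).2 (Subgroup.le_normalizer_iff.2 fun g hg k hk =>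
      Kv_conj h hz hb (Subgroup.mem_inf.1 hg).1 hk)
  set π : ↥T →* ↥T ⧸ (Y z lam).subgroupOf T := QuotientGroup.mk' _
  haveI hPn : (((Kv z lam).subgroupOf T).map π).Normal := hNn.map π (QuotientGroup.mk'_surjective _)
  have hPne : ((Kv z lam).subgroupOf T).map π ≠ ⊥ := by
    rw [Ne, Subgroup.map_eq_bot_iff, QuotientGroup.ker_mk']
    intro hle
    exact hne fun k hk => hle (show (⟨k, hKT hk⟩ : ↥T) ∈ (Kv z lam).subgroupOf T from hk)
  have hPG : IsPGroup 2 (↥T ⧸ (Y z lam).subgroupOf T) := (h.isPGroup_Ev hx).to_quotient _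
  have hnt := (haveI := hPG.isNilpotent; Solvable.FrattiniFitting.inf_center_ne_bot _ hPne)
  set I := ((Kv z lam).subgroupOf T).map π ⊓ Subgroup.center (↥T ⧸ (Y z lam).subgroupOf T) with hI
  obtain ⟨w₀, hw₀⟩ := exists_prime_orderOf_dvd_card' 2 (show 2 ∣ Nat.card ↥I by
    obtain ⟨n, hn⟩ := (hPG.to_subgroup I).exists_card_eq
    rw [hn]
    rcases n with _ | n
    · exact absurd (Subgroup.card_eq_one.1 (by rw [hn, pow_zero])) hnt
    · exact dvd_pow_self 2 n.succ_ne_zero)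
  obtain ⟨⟨k₁, hk₁T⟩, hk₁K, hk₁e⟩ := (Subgroup.mem_inf.1 w₀.2).1
  have hk₁ : k₁ ∈ Kv z lam := hk₁K
  have hk₁Y : k₁ ∉ Y z lam := by
    intro hy
    have e1 : π ⟨k₁, hk₁T⟩ = 1 := (QuotientGroup.eq_one_iff _).2 hy
    rw [hk₁e] at e1
    have e2 : w₀ = 1 := Subtype.ext e1
    rw [e2, orderOf_one] at hw₀
    norm_num at hw₀
  have hk₁2 : k₁ * k₁ ∈ Y z lam := by
    have e1 : π (⟨k₁, hk₁T⟩ * ⟨k₁, hk₁T⟩) = 1 := by
      rw [map_mul, hk₁e]
      have := pow_orderOf_eq_one w₀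
      rw [hw₀, pow_two] at this
      exact congrArg Subtype.val this
    exact ((QuotientGroup.eq_one_iff (N := (Y z lam).subgroupOf T) _).1 e1 :)
  have hk₁c : ∀ t ∈ T, t * k₁ * t⁻¹ * k₁⁻¹ ∈ Y z lam := by
    intro t ht
    have hc := Subgroup.mem_center_iff.1 (Subgroup.mem_inf.1 w₀.2).2 (π ⟨t, ht⟩)
    rw [← hk₁e] at hc
    have e1 : π (⟨t, ht⟩ * ⟨k₁, hk₁T⟩ * (⟨t, ht⟩ : ↥T)⁻¹ * (⟨k₁, hk₁T⟩ : ↥T)⁻¹) = 1 := by
      rw [map_mul, map_mul, map_mul, map_inv, map_inv, hc, mul_inv_cancel_right, mul_inv_cancel]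
    exact ((QuotientGroup.eq_one_iff (N := (Y z lam).subgroupOf T) _).1 e1 :)
  -- `k₁` is central modulo the four-group under the whole stabilizer
  obtain ⟨n, hn, hnl, hntriv⟩ := exists_n h hz hb hA hx
  have hnE : n ∈ T := h.Qv_le_Ev' hx hn
  have hnSt : n ∈ St lam := (Subgroup.mem_inf.1 hnE).1
  obtain ⟨y, hy, nyx⟩ := h.exists_ne hx
  obtain ⟨y', hy', n1, n2, -⟩ := h.third hx hy nyx.symm
  obtain ⟨g, hg, hgx⟩ := neighbour_transitive hx hy
  have hnK : ∀ k ∈ Kv z lam, n * k * n⁻¹ * k⁻¹ ∈ Y z lam := fun k hk =>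
    Vd_inf_Qv h hz hb hA hx hy nyx.symm (hntriv k (mem_Kv.1 hk x hx))
      (mul_mem (mem_Kv.1 (Kv_conj h hz hb hnSt hk) y hy).1 (inv_mem (mem_Kv.1 hk y hy).1))
  have hkc : ∀ t ∈ St lam, t * k₁ * t⁻¹ * k₁⁻¹ ∈ Y z lam := by
    let L : Subgroup X :=
      { carrier := {t | t ∈ St lam ∧ t * k₁ * t⁻¹ * k₁⁻¹ ∈ Y z lam}
        one_mem' := ⟨one_mem _, by simp⟩
        mul_mem' := fun {p q} hp hq => ⟨mul_mem hp.1 hq.1, by
          have := mul_mem (conj_mem_map (g := p) (by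
            rw [Y_smul h hz, mem_St.1 hp.1]) hq.2) hp.2
          rwa [show p * (q * k₁ * q⁻¹ * k₁⁻¹) * p⁻¹ * (p * k₁ * p⁻¹ * k₁⁻¹) = p * q * k₁ * (p * q)⁻¹ * k₁⁻¹ by
            group] at this⟩
        inv_mem' := fun {p} hp => ⟨inv_mem hp.1, by
          have := conj_mem_map (g := p⁻¹) (by
            rw [Y_smul h hz, mem_St.1 (inv_mem hp.1)]) (inv_mem hp.2)
          rwa [show p⁻¹ * (p * k₁ * p⁻¹ * k₁⁻¹)⁻¹ * p⁻¹⁻¹ = p⁻¹ * k₁ * p⁻¹⁻¹ * k₁⁻¹ by group] at this⟩ }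
    have hgn : g * n * g⁻¹ ∈ L := by
      refine ⟨mul_mem (mul_mem hg hnSt) (inv_mem hg), ?_⟩
      have h1 : g⁻¹ * k₁ * g ∈ Kv z lam := by simpa using Kv_conj h hz hb (inv_mem hg) hk₁
      have := conj_mem_map (g := g) (by rw [Y_smul h hz, mem_St.1 hg]) (hnK _ h1)
      rwa [show g * (n * (g⁻¹ * k₁ * g) * n⁻¹ * (g⁻¹ * k₁ * g)⁻¹) * g⁻¹ =
        g * n * g⁻¹ * k₁ * (g * n * g⁻¹)⁻¹ * k₁⁻¹ by group] at this
    have hmove : (g * n * g⁻¹) • x ≠ x := by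
      refine h.move hy hx nyx.symm ?_ (fun hq => hnl ?_)
      · have := conj_mem_map (Ev_smul g lam x) hnE
        rwa [mem_St.1 hg, hgx] at this
      · simpa [mul_assoc] using h.conj_mem_Qv (inv_mem hg) hq
    intro t ht
    exact ((h.St_le hx (L := L) (fun t ht => ⟨(Subgroup.mem_inf.1 ht).1, hk₁c t ht⟩) hgn
      (mul_mem (mul_mem hg hnSt) (inv_mem hg)) hmove) ht).2
  have hQ : ∀ r ∈ Qv lam, r * k₁ = k₁ * r := by
    intro r hr
    refine mul_inv_eq_iff_eq_mul.1 (mul_inv_eq_one.1 ?_)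
    rcases Kv_comm h hz hb hA hx hk₁ hkc hr with e1 | e1
    · exact e1
    rcases Kv_comm h hz hb hA hy hk₁ hkc hr with e2 | e2
    · exact e2
    · exact absurd (zOf_inj h hz hy hx hA (e2.symm.trans e1)) nyx
  -- make it central at the edge
  have hYk : ∀ {p : X}, p ∈ Y z lam → ∀ {k : X}, k ∈ Kv z lam → k * p = p * k := fun {p} hp {k} hk =>
    Y_comm_Qv h hz hA (Kv_le h hz hb hA hx hk) hp
  set y₀ := n * k₁ * n⁻¹ * k₁⁻¹ with hy₀
  have hy₀Y : y₀ ∈ Y z lam := hnK k₁ hk₁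
  have hnk : n * k₁ * n⁻¹ = y₀ * k₁ := by rw [hy₀]; group
  have hnn : n * n ∈ Qv lam := h.mul_mem_Qv hx hnE hnE hnl hnl
  have hy₀fix : y₀ = 1 ∨ y₀ = zOf z x := by
    refine fixed_Y h hz hb hA hx hnE hnl hy₀Y ?_
    have e1 : n * y₀ * n⁻¹ * (y₀ * k₁) = k₁ := by
      calc n * y₀ * n⁻¹ * (y₀ * k₁) = n * y₀ * n⁻¹ * (n * k₁ * n⁻¹) := by rw [hnk]
        _ = n * (y₀ * k₁) * n⁻¹ := by group
        _ = n * n * k₁ * (n * n)⁻¹ := by rw [← hnk]; group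
        _ = k₁ := by rw [hQ _ hnn, mul_inv_cancel_right]
    rw [← mul_assoc, mul_eq_right] at e1
    rw [eq_inv_of_mul_eq_one_left e1, Y_inv h hz hA hy₀Y]
  have hzyK : zOf z y ∈ Kv z lam := Y_le_Kv h hz hb hA (zOf_mem_Y hy)
  obtain ⟨e, he, heY, hne', hediff⟩ : ∃ e ∈ Kv z lam, e ∉ Y z lam ∧ n * e * n⁻¹ = e ∧
      ∃ p ∈ Y z lam, e = k₁ * p := by
    rcases hy₀fix with e0 | e0
    · exact ⟨k₁, hk₁, hk₁Y, by rw [hnk, e0, one_mul], 1, one_mem _, (mul_one _).symm⟩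
    · refine ⟨k₁ * zOf z y, mul_mem hk₁ hzyK, fun hm => hk₁Y ?_, ?_, _, zOf_mem_Y hy, rfl⟩
      · simpa [mul_assoc, zOf_sq h hz] using mul_mem hm (zOf_mem_Y hy : zOf z y ∈ Y z lam)
      · have e2 : n * zOf z y * n⁻¹ = zOf z x * zOf z y := by
          rw [← zOf_smul h hz, h.swap hx hy hy' nyx n1 n2 hnE hnl]
          exact (zOf_mul h hz hx hy hy' hA nyx.symm n1.symm n2.symm).symm
        have hu : zOf z x ∈ Y z lam := zOf_mem_Y hx
        rw [show n * (k₁ * zOf z y) * n⁻¹ = n * k₁ * n⁻¹ * (n * zOf z y * n⁻¹) by group, hnk, e0, e2,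
          ← mul_assoc, mul_assoc (zOf z x) k₁, hYk hu hk₁, ← mul_assoc (zOf z x), zOf_sq h hz, one_mul]
  obtain ⟨p, hp, hep⟩ := hediff
  have heQ : ∀ r ∈ Qv lam, r * e = e * r := fun r hr => by
    rw [hep, ← mul_assoc, hQ r hr, mul_assoc, Y_comm_Qv h hz hA hr hp, mul_assoc]
  have hec : ∀ t ∈ T, t * e = e * t := fun t ht =>
    Subgroup.mem_centralizer_singleton_iff.1 (h.sup_Qv hx hnE hnl (L := Subgroup.centralizer {e})
      (fun s hs => Subgroup.mem_centralizer_singleton_iff.2 (heQ s hs))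
      (Subgroup.mem_centralizer_singleton_iff.2 (mul_inv_eq_iff_eq_mul.1 hne')) ht)
  have he2 : e * e = k₁ * k₁ := by
    rw [hep, mul_assoc k₁, ← mul_assoc p, ← hYk hp hk₁, mul_assoc k₁ p, Y_sq h hz hA hp, mul_one]
  have hesq : e * e = 1 := by
    rcases fixed_Y h hz hb hA hx hnE hnl (he2 ▸ hk₁2) (by
      rw [show n * (e * e) * n⁻¹ = n * e * n⁻¹ * (n * e * n⁻¹) by group, hne']) with e1 | e1
    · exact e1
    exfalso
    refine nyx (zOf_inj h hz hy hx hA ?_)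
    -- the square is fixed by the whole stabilizer
    rw [← hgx, zOf_smul h hz, ← e1, he2]
    obtain ⟨q, hq, hgk⟩ : ∃ q ∈ Y z lam, g * k₁ * g⁻¹ = q * k₁ := ⟨_, hkc g hg, by group⟩
    rw [show g * (k₁ * k₁) * g⁻¹ = g * k₁ * g⁻¹ * (g * k₁ * g⁻¹) by group, hgk, ← hYk hq hk₁, mul_assoc k₁ q,
      hYk hq hk₁, ← mul_assoc q q, Y_sq h hz hA hq, one_mul]
  rcases central_Kv h hz hb hA hx he hesq hec with e1 | e1
  · exact heY (e1 ▸ one_mem _)
  · exact heY (e1 ▸ zOf_mem_Y hx)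

/-- The critical distance is not three. -/
theorem no_three : False := by
  set lam : CosetVertex M₁ M₂ := Sum.inl ((1 : X) : X ⧸ M₁)
  have hA : IsA lam := rfl
  obtain ⟨x, hx⟩ := exists_adj lam
  have hBx := not_isA hx hA
  obtain ⟨y, hy, nyx⟩ := h.exists_ne hx
  obtain ⟨μ, hμ, hμl⟩ := h.exists_ne hx.symm
  obtain ⟨ν, hν, hνl⟩ := h.exists_ne hy.symm
  have hK := Kv_eq h hz hb hA hx
  haveI := h.finite_Qv x
  haveI := h.finite_Ev lam x
  set C := Cv z x with hC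
  have hCQ : C ≤ Qv x := inf_le_left
  -- the kernel at `x` over the centralizer
  have b1 : C.relIndex (Qv x) ≤ 4 := by
    have a1 := h.relIndex_Qv_le hx (h.Qv_le_Ev' hx)
    have a2 := h.relIndex_Qv_le hμ.symm (h.Qv_le_Ev' hμ.symm)
    have hle : Qv lam ⊓ Qv x ⊓ (Qv μ ⊓ Qv x) ≤ C := fun g hg =>
      mem_Cv h hz hb hA hx hμ hμl hg.1.2 hg.1.1 hg.2.1
    haveI : ((Qv lam ⊓ Qv x ⊓ (Qv μ ⊓ Qv x)).subgroupOf (Qv x)).FiniteIndex :=
      ⟨Subgroup.index_ne_zero_of_finite⟩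
    calc C.relIndex (Qv x) ≤ (Qv lam ⊓ Qv x ⊓ (Qv μ ⊓ Qv x)).relIndex (Qv x) :=
          Subgroup.relIndex_le_of_le_left hle Subgroup.index_ne_zero_of_finite
      _ ≤ _ := Subgroup.relIndex_inf_le
      _ ≤ 4 := Nat.mul_le_mul a1 a2
  have b2 : Nat.card C ≤ 16 := by
    have hCl : C ≤ Ev y lam := (Cv_le_Qv h hz hb hx.symm hBx).trans
      ((h.Qv_le_Ev hy).trans (Ev_symm _ _).le)
    have a1 := h.relIndex_Qv_le hy.symm hCl
    have a2 := h.relIndex_Qv_le hν.symm (inf_le_left.trans (h.Qv_le_Ev' hν.symm) : Qv y ⊓ C ≤ Ev ν y)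
    have hle : Qv ν ⊓ (Qv y ⊓ C) ≤ Y z lam := fun g hg => hK (Cv_inter h hz hb hA hx hy nyx.symm hg.2.2
      (mem_Cv h hz hb hA hy hν hνl hg.2.1 (Cv_le_Qv h hz hb hx.symm hBx hg.2.2) hg.1))
    haveI : Finite ↥(Y z lam) :=
      Finite.of_injective _ (Subgroup.inclusion_injective (Y_le_Ev h hz hx hA))
    obtain ⟨d₁, d₂, d₃, -, -, -, hset⟩ := Set.ncard_eq_three.1 (h.neighbours_eq (a := lam))
    have hY4 : Nat.card ↥(Y z lam) ≤ 4 := by
      have hsub : (Y z lam : Set X) ⊆ ({1, zOf z d₁, zOf z d₂, zOf z d₃} : Set X) := by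
        intro v hv
        rcases (mem_Y h hz hA).1 hv with rfl | ⟨d, hd, rfl⟩
        · simp
        · have := (Set.ext_iff.1 hset d).1 hd
          simp only [Set.mem_insert_iff, Set.mem_singleton_iff] at this
          rcases this with rfl | rfl | rfl <;> simp
      calc Nat.card ↥(Y z lam) = (Y z lam : Set X).ncard := Nat.card_coe_set_eq _
        _ ≤ ({1, zOf z d₁, zOf z d₂, zOf z d₃} : Set X).ncard := Set.ncard_le_ncard hsub
        _ ≤ 4 := le_trans (Set.ncard_insert_le _ _) (Nat.succ_le_succ (le_trans (Set.ncard_insert_le _ _)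
          (Nat.succ_le_succ (le_trans (Set.ncard_insert_le _ _) (by rw [Set.ncard_singleton])))))
    have e1 := Subgroup.relIndex_mul_relIndex ⊥ _ _ bot_le (inf_le_right : Qv ν ⊓ (Qv y ⊓ C) ≤ Qv y ⊓ C)
    have e2 := Subgroup.relIndex_mul_relIndex ⊥ _ _ bot_le (inf_le_right : Qv y ⊓ C ≤ C)
    simp only [Subgroup.relIndex_bot_left] at e1 e2
    have hc3 : Nat.card ↥(Qv ν ⊓ (Qv y ⊓ C) : Subgroup X) ≤ 4 :=
      (Nat.card_le_card_of_injective _ (Subgroup.inclusion_injective hle)).trans hY4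
    calc Nat.card C = _ := e2.symm
      _ = _ := by rw [← e1]
      _ ≤ 4 * 2 * 2 := Nat.mul_le_mul (Nat.mul_le_mul hc3 a2) a1
  have e3 := Subgroup.relIndex_mul_relIndex ⊥ C (Qv x) bot_le hCQ
  have e4 := Subgroup.relIndex_mul_relIndex ⊥ (Qv x) (Ev lam x) bot_le (h.Qv_le_Ev' hx)
  simp only [Subgroup.relIndex_bot_left] at e3 e4
  rw [h.relIndex_Qv_Ev' hx] at e4
  have := h.card_Ev hx
  have e5 : Nat.card C * C.relIndex (Qv x) ≤ 16 * 4 := Nat.mul_le_mul b2 b1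
  omega

end CfsgLib.LocalEven.AmalgamGold
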