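/-
Goldschmidt's bound on the edge group.
-/
import Cfsg.Agent.Lib.LocalEven.AmalgamGold.Three
import Cfsg.Agent.Lib.LocalEven.AmalgamS4.Main

set_option autoImplicit false
set_option linter.unusedSectionVars false
set_option linter.style.haveILetI false

namespace CfsgLib.LocalEven.AmalgamGold

open Cfsg CfsgLib.LocalEven.CosetGraph CfsgLib.LocalEven.SylowIn

variable {X : Type*} [Group X] {M₁ M₂ : Subgroup X}

/-- The hypotheses of the bound. -/
structure Data (M₁ M₂ : Subgroup X) : Prop where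
  fin₁ : Finite ↥M₁
  fin₂ : Finite ↥M₂
  two : IsPGroup 2 ↥(M₁ ⊓ M₂)
  card₁ : Nat.card M₁ = 3 * Nat.card ↥(M₁ ⊓ M₂)
  card₂ : Nat.card M₂ = 3 * Nat.card ↥(M₁ ⊓ M₂)
  core₁ : Nat.card M₁ = 6 * Nat.card (pCore 2 M₁)
  core₂ : Nat.card M₂ = 6 * Nat.card (pCore 2 M₂)
  faith : ∀ N : Subgroup X, N ≤ M₁ ⊓ M₂ → M₁ ≤ Subgroup.normalizer (N : Set X) →
    M₂ ≤ Subgroup.normalizer (N : Set X) → N = ⊥

theorem Data.symm (d : Data M₁ M₂) : Data M₂ M₁ :=
  ⟨d.fin₂, d.fin₁, by rw [inf_comm]; exact d.two, by rw [inf_comm]; exact d.card₂,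
    by rw [inf_comm]; exact d.card₁, d.core₂, d.core₁,
    fun N hN h₂ h₁ => d.faith N (inf_comm M₁ M₂ ▸ hN) h₁ h₂⟩

theorem Data.sylow (d : Data M₁ M₂) : IsSylowIn 2 (M₁ ⊓ M₂) M₁ := by
  haveI := d.fin₁
  haveI : Finite ↥(M₁ ⊓ M₂ : Subgroup X) :=
    Finite.of_injective _ (Subgroup.inclusion_injective inf_le_left)
  refine IsSylowIn.of_card inf_le_left d.two fun P => ?_
  obtain ⟨m, hm⟩ := d.two.exists_card_eq
  obtain ⟨n, hn⟩ := P.2.exists_card_eq
  have h1 := (P : Subgroup ↥M₁).card_subgroup_dvd_card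
  rw [hn, d.card₁, hm] at h1
  have h2 := P.pow_dvd_card_of_pow_dvd_card (n := m) (by rw [d.card₁, hm]; exact dvd_mul_left _ _)
  rw [hn] at h2
  have h3 : 2 ^ n ∣ 2 ^ m :=
    Nat.Coprime.dvd_of_dvd_mul_left (Nat.Coprime.pow_left _ (by norm_num)) h1
  rw [hm, hn]
  exact Nat.dvd_antisymm h2 h3

theorem Data.relIndex_core (d : Data M₁ M₂) : (pCoreOf 2 M₁).relIndex M₁ = 6 := by
  haveI := d.fin₁
  have hc : Nat.card (pCoreOf 2 M₁) = Nat.card (pCore 2 M₁) :=
    Subgroup.card_map_of_injective M₁.subtype_injective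
  have e := Subgroup.relIndex_mul_relIndex ⊥ (pCoreOf 2 M₁) M₁ bot_le (pCoreOf_le M₁)
  simp only [Subgroup.relIndex_bot_left] at e
  rw [hc, d.core₁, mul_comm (6 : ℕ)] at e
  exact Nat.eq_of_mul_eq_mul_left Nat.card_pos e

/-- Without characteristic two the edge group is small. -/
theorem Data.small (d : Data M₁ M₂)
    (hn : ¬ M₁ ⊓ Subgroup.centralizer (pCoreOf 2 M₁ : Set X) ≤ pCoreOf 2 M₁) :
    Nat.card ↥(M₁ ⊓ M₂) ≤ 2 ^ 7 := by
  haveI := d.fin₁
  haveI := d.fin₂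
  set T := M₁ ⊓ M₂ with hT
  set Q₁ := pCoreOf 2 M₁ with hQ₁
  set Q₂ := pCoreOf 2 M₂ with hQ₂
  set C := M₁ ⊓ Subgroup.centralizer (Q₁ : Set X) with hC
  haveI : Finite ↥T := Finite.of_injective _ (Subgroup.inclusion_injective (inf_le_left : T ≤ M₁))
  have hQ₁T : Q₁ ≤ T := pCoreOf_le_sylowIn d.sylow
  have hQ₂T : Q₂ ≤ T := (pCoreOf_le_sylowIn d.symm.sylow).trans (inf_comm M₂ M₁).le
  have hM₁T : T.relIndex M₁ = 3 := by
    have e := Subgroup.relIndex_mul_relIndex ⊥ T M₁ bot_le inf_le_left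
    simp only [Subgroup.relIndex_bot_left] at e
    rw [d.card₁, mul_comm 3] at e
    exact Nat.eq_of_mul_eq_mul_left Nat.card_pos e
  have hM₂T : T.relIndex M₂ = 3 := by
    have e := Subgroup.relIndex_mul_relIndex ⊥ T M₂ bot_le inf_le_right
    simp only [Subgroup.relIndex_bot_left] at e
    rw [d.card₂, mul_comm 3] at e
    exact Nat.eq_of_mul_eq_mul_left Nat.card_pos e
  have hQ₁2 : Q₁.relIndex T = 2 := by
    have e := Subgroup.relIndex_mul_relIndex Q₁ T M₁ hQ₁T inf_le_left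
    rw [d.relIndex_core, hM₁T] at e
    omega
  -- a subgroup of `Q₁` normalized by `T` is normalized by `M₁`
  have hL : M₁ ≤ T ⊔ C := by
    have hm := Subgroup.relIndex_mul_relIndex T (T ⊔ C) M₁ le_sup_left (sup_le inf_le_left inf_le_left)
    rw [hM₁T] at hm
    rcases Nat.prime_three.eq_one_or_self_of_dvd _ (Dvd.intro _ hm) with h1 | h1
    · exfalso
      have hCT : C ≤ T := le_sup_right.trans (Subgroup.relIndex_eq_one.1 h1)
      refine hn (le_pCoreOf inf_le_left (fun g hg => ?_) (d.two.to_le hCT))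
      refine Subgroup.le_normalizer_iff.2 (fun g hg c hc => ?_) hg
      refine Subgroup.mem_inf.2 ⟨M₁.mul_mem (M₁.mul_mem hg hc.1) (M₁.inv_mem hg),
        Subgroup.mem_centralizer_iff.2 fun q hq => ?_⟩
      have hq' : g⁻¹ * q * g ∈ Q₁ := by
        simpa using (Subgroup.mem_normalizer_iff.1 (normalizer_pCoreOf (p := 2) M₁ (inv_mem hg)) q).1 hq
      have := Subgroup.mem_centralizer_iff.1 hc.2 _ hq'
      calc q * (g * c * g⁻¹) = g * (g⁻¹ * q * g * c) * g⁻¹ := by group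
        _ = g * (c * (g⁻¹ * q * g)) * g⁻¹ := by rw [this]
        _ = _ := by group
    · rw [h1] at hm
      exact Subgroup.relIndex_eq_one.1 (by omega : (T ⊔ C).relIndex M₁ = 1)
  have key : ∀ N ≤ Q₁, T ≤ Subgroup.normalizer (N : Set X) → M₁ ≤ Subgroup.normalizer (N : Set X) :=
    fun N hN hTN => hL.trans (sup_le hTN
      ((inf_le_right.trans (Subgroup.centralizer_le hN)).trans (Subgroup.centralizer_le_normalizer _)))
  set D := Q₁ ⊓ Q₂ with hD
  have hDT : T ≤ Subgroup.normalizer (D : Set X) := Subgroup.le_normalizer_iff.2 fun g hg x hx =>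
    ⟨(Subgroup.mem_normalizer_iff.1 (normalizer_pCoreOf (p := 2) M₁ hg.1) x).1 hx.1,
      (Subgroup.mem_normalizer_iff.1 (normalizer_pCoreOf (p := 2) M₂ hg.2) x).1 hx.2⟩
  -- its core in `M₂` is trivial
  haveI : Finite (↥M₂ ⧸ T.subgroupOf M₂) := inferInstance
  letI : Fintype (↥M₂ ⧸ T.subgroupOf M₂) := Fintype.ofFinite _
  set f : ↥M₂ ⧸ T.subgroupOf M₂ → Subgroup X :=
    fun s => D.map (MulAut.conj ((s.out : ↥M₂) : X)).toMonoidHom with hf
  have hmem : ∀ {x : X}, x ∈ (⨅ s, f s) → ∀ g ∈ M₂, g⁻¹ * x * g ∈ D := by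
    intro x hx g hg
    obtain ⟨t, ht⟩ := QuotientGroup.mk_out_eq_mul (T.subgroupOf M₂) (⟨g, hg⟩ : ↥M₂)
    have h1 := Subgroup.mem_iInf.1 hx (QuotientGroup.mk ⟨g, hg⟩)
    simp only [hf, mem_map_conj] at h1
    rw [ht] at h1
    have htT : ((t : ↥M₂) : X) ∈ T := t.2
    have h2 := (Subgroup.mem_normalizer_iff.1 (hDT htT) _).1 h1
    simpa [mul_assoc] using h2
  have hcore : (⨅ s, f s) = ⊥ := by
    have hM₂n : M₂ ≤ Subgroup.normalizer ((⨅ s, f s : Subgroup X) : Set X) :=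
      Subgroup.le_normalizer_iff.2 fun g hg x hx => by
        refine Subgroup.mem_iInf.2 fun s => ?_
        simp only [hf, mem_map_conj]
        have := hmem hx (g⁻¹ * (s.out : ↥M₂)) (mul_mem (inv_mem hg) (s.out : ↥M₂).2)
        simpa [mul_assoc] using this
    have hle : (⨅ s, f s) ≤ D := fun x hx => by simpa using hmem hx 1 (one_mem _)
    exact d.faith _ (hle.trans (inf_le_left.trans hQ₁T))
      (key _ (hle.trans inf_le_left) (inf_le_right.trans hM₂n)) hM₂n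
  have h2 : ∀ s, (f s).relIndex Q₂ ≤ 2 := by
    intro s
    simp only [hf]
    conv_lhs => rw [← (map_conj_eq_iff (T := Q₂)).2 (normalizer_pCoreOf (p := 2) M₂ (s.out : ↥M₂).2)]
    rw [Subgroup.relIndex_map_map_of_injective _ _ (MulAut.conj _).injective, hD, Subgroup.inf_relIndex_right]
    exact (Subgroup.relIndex_le_of_le_right hQ₂T (by rw [hQ₁2]; norm_num)).trans hQ₁2.le
  have hQ₂8 : Nat.card Q₂ ≤ 8 := by
    rw [← Subgroup.relIndex_bot_left, ← hcore]
    refine (Subgroup.relIndex_iInf_le f).trans ((Finset.prod_le_pow_card _ _ 2 fun s _ => h2 s).trans ?_)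
    rw [Finset.card_univ, ← Nat.card_eq_fintype_card]
    show 2 ^ T.relIndex M₂ ≤ 8
    rw [hM₂T]
    norm_num
  have e := d.symm.core₁
  have hc : Nat.card Q₂ = Nat.card (pCore 2 M₂) := Subgroup.card_map_of_injective M₂.subtype_injective
  have : Nat.card M₂ = 3 * Nat.card ↥T := d.card₂
  omega

/-- Goldschmidt's bound. -/
theorem Data.bound (d : Data M₁ M₂) (hgen : M₁ ⊔ M₂ = ⊤) : Nat.card ↥(M₁ ⊓ M₂) ≤ 2 ^ 7 := by
  by_contra hbig
  rw [not_le] at hbig
  haveI := d.fin₁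
  haveI := d.fin₂
  haveI : Finite ↥(M₁ ⊓ M₂ : Subgroup X) :=
    Finite.of_injective _ (Subgroup.inclusion_injective inf_le_left)
  have hc₁ : M₁ ⊓ Subgroup.centralizer (pCoreOf 2 M₁ : Set X) ≤ pCoreOf 2 M₁ := by
    by_contra hn
    exact absurd (d.small hn) (not_le.2 hbig)
  have hc₂ : M₂ ⊓ Subgroup.centralizer (pCoreOf 2 M₂ : Set X) ≤ pCoreOf 2 M₂ := by
    by_contra hn
    have := d.symm.small hn
    rw [inf_comm] at this
    omega
  have hne : ∀ {A B : Subgroup X}, Data A B → A ≠ ⊤ := by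
    intro A B e htop
    haveI := e.fin₁
    haveI := e.fin₂
    haveI : Finite ↥(A ⊓ B : Subgroup X) := Finite.of_injective _ (Subgroup.inclusion_injective inf_le_left)
    obtain ⟨n, hn⟩ := e.two.exists_card_eq
    have h2 := e.card₂
    rw [htop, top_inf_eq] at h2
    have hpos : 0 < Nat.card ↥B := Nat.card_pos
    omega
  have hchar : IsCharPAmalgamPair 2 M₁ M₂ := by
    have hev : ∀ {M : Subgroup X}, Nat.card M = 6 * Nat.card (pCore 2 M) → 2 ∣ Nat.card M := fun e => by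
      rw [e]; exact Dvd.dvd.mul_right (by norm_num) _
    refine ⟨⟨hgen, hne d, hne d.symm, fun N hN hNn => d.faith N hN ?_ ?_⟩, d.fin₁, d.fin₂, hev d.core₁,
      hev d.core₂, fun S S₁ S₂ => ?_, (charP_iff M₁).2 hc₁, (charP_iff M₂).2 hc₂⟩
    · rw [Subgroup.normalizer_eq_top_iff.2 hNn]; exact le_top
    · rw [Subgroup.normalizer_eq_top_iff.2 hNn]; exact le_top
    have hS : Nat.card S = Nat.card ↥(M₁ ⊓ M₂) := by
      have hp : IsPGroup 2 ↥(⊤ : Subgroup ↥(M₁ ⊓ M₂)) := d.two.of_equiv Subgroup.topEquiv.symm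
      rw [show (S : Subgroup ↥(M₁ ⊓ M₂)) = ⊤ from (S.is_maximal' hp le_top).symm, Subgroup.card_top]
    have key : ∀ {A B : Subgroup X}, Finite ↥A → IsSylowIn 2 B A → ∀ P : Sylow 2 ↥A,
        Nat.card P = Nat.card ↥B := by
      intro A B hA hB P
      rw [P.card_eq_multiplicity, ← hB.toSylow.card_eq_multiplicity]
      exact Nat.card_congr (Subgroup.subgroupOfEquivOfLe hB.1).toEquiv
    exact ⟨hS.trans (key d.fin₁ d.sylow S₁).symm,
      hS.trans ((congrArg (fun B : Subgroup X => Nat.card ↥B) (inf_comm M₁ M₂)).trans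
        (key d.fin₂ d.symm.sylow S₂).symm)⟩
  by_cases hact : ¬ M₁ ≤ Subgroup.centralizer (omegaCenter 2 (M₁ ⊓ M₂) : Set X) ∧
      ¬ M₂ ≤ Subgroup.centralizer (omegaCenter 2 (M₁ ⊓ M₂) : Set X)
  · have h4 : AmalgamS4.Hyp 3 M₁ M₂ :=
      ⟨hchar, Nat.prime_three, by decide, d.two, d.relIndex_core, d.symm.relIndex_core, hact.1, hact.2⟩
    have := d.card₁
    rcases h4.main with ⟨⟨e⟩, -⟩ | ⟨⟨e⟩, -⟩
    · have e24 : Nat.card M₁ = 24 := by
        rw [Nat.card_congr e.toEquiv, Nat.card_eq_fintype_card, Fintype.card_perm, Fintype.card_fin]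
        rfl
      omega
    · have e48 : Nat.card M₁ = 48 := by
        rw [Nat.card_congr e.toEquiv, Nat.card_prod, Nat.card_eq_fintype_card, Nat.card_eq_fintype_card,
          Fintype.card_perm, Fintype.card_fin]
        rfl
      omega
  -- one side centralizes
  have main : ∀ {A B : Subgroup X}, Data A B → IsCharPAmalgamPair 2 A B → 2 ^ 7 < Nat.card ↥(A ⊓ B) →
      B ≤ Subgroup.centralizer (omegaCenter 2 (A ⊓ B) : Set X) → False := by
    intro A B e hAB hbigAB hcent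
    haveI := e.fin₁
    haveI : Finite ↥(A ⊓ B : Subgroup X) := Finite.of_injective _ (Subgroup.inclusion_injective inf_le_left)
    have h : Hyp A B := ⟨hAB, e.two, e.relIndex_core, e.symm.relIndex_core, fun w hw hw2 hwc g hg => by
      have hw' : w ∈ omegaCenter 2 (A ⊓ B) :=
        Subgroup.subset_closure ⟨⟨hw, Subgroup.mem_centralizer_iff.2 hwc⟩, by rw [pow_two, hw2]⟩
      exact ((Subgroup.mem_centralizer_iff.1 (hcent hg)) w hw').symm, hbigAB⟩
    haveI : Nontrivial ↥(A ⊓ B) := by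
      refine (Finite.one_lt_card_iff_nontrivial).1 ?_
      omega
    haveI := e.two.center_nontrivial
    obtain ⟨n, hn⟩ := (e.two.to_subgroup (Subgroup.center ↥(A ⊓ B))).exists_card_eq
    obtain ⟨w, hw⟩ := exists_prime_orderOf_dvd_card' (G := Subgroup.center ↥(A ⊓ B)) 2 (by
      have h1 : 1 < Nat.card (Subgroup.center ↥(A ⊓ B)) := Finite.one_lt_card
      rw [hn] at h1 ⊢
      rcases n with _ | n
      · simp at h1
      · exact dvd_pow_self 2 n.succ_ne_zero)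
    have hz : Elt A B ((w : ↥(A ⊓ B)) : X) := by
      refine ⟨(w : ↥(A ⊓ B)).2, fun e1 => ?_, ?_, fun t ht => ?_⟩
      · have e2 : w = 1 := Subtype.ext (Subtype.ext e1)
        rw [e2, orderOf_one] at hw
        norm_num at hw
      · have := pow_orderOf_eq_one w
        rw [hw, pow_two] at this
        exact congrArg (fun s : ↥(Subgroup.center ↥(A ⊓ B)) => ((s : ↥(A ⊓ B)) : X)) this
      · exact congrArg Subtype.val (Subgroup.mem_center_iff.1 w.2 ⟨t, ht⟩)
    exact no_three h hz (bz_eq_three h hz)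
  rw [not_and_or, not_not, not_not] at hact
  rcases hact with h1 | h2
  · refine main d.symm ?_ (by rwa [inf_comm]) (by rwa [inf_comm])
    obtain ⟨⟨g1, g2, g3, g4⟩, f1, f2, p1, p2, hs, k1, k2⟩ := hchar
    refine ⟨⟨sup_comm M₂ M₁ ▸ g1, g3, g2, fun N hN => g4 N (inf_comm M₂ M₁ ▸ hN)⟩, f2, f1, p2, p1, ?_, k2, k1⟩
    rw [inf_comm]
    exact fun S P₁ P₂ => ⟨(hs S P₂ P₁).2, (hs S P₂ P₁).1⟩
  · exact main d hchar hbig h2

end CfsgLib.LocalEven.AmalgamGold
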